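import Cfsg.Agent.Lib.Recog.RankThree.Main
import Cfsg.Agent.S4033
import Cfsg.Agent.S4034
import Cfsg.Agent.S4035
import Cfsg.Agent.S4355

/-!
# Simple groups with four class sizes: generalities

* `IsMax v`: no size is a proper multiple of `v`; `Upper v d`: only `d` can be one
* `rI x z`: the size of the class of `z` in the centraliser of `x`
* `two_size`, `split`: the structure of a centraliser with at most two sizes of `p`-regular classes
-/

set_option autoImplicit false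
set_option linter.all false

namespace CfsgLib.Recog.RankFour

open Subgroup
open CfsgLib.Recog.ClassSizesPSL (cI cC IsREl)

variable {G : Type*} [Group G]

/-- The centraliser. -/
abbrev C (x : G) : Subgroup G := centralizer ({x} : Set G)

theorem mem_C {x g : G} : g ∈ C x ↔ Commute g x := mem_centralizer_singleton_iff

theorem mem_C_self (x : G) : x ∈ C x := mem_C.2 (Commute.refl x)

/-- No size is a proper multiple of `v`. -/
def IsMax (G : Type*) [Group G] (v : ℕ) : Prop := ∀ z : G, z ≠ 1 → v ∣ cI z → cI z = v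

/-- Only `d` can be a proper multiple of `v`. -/
def Upper (G : Type*) [Group G] (v d : ℕ) : Prop := ∀ z : G, z ≠ 1 → v ∣ cI z → cI z = v ∨ cI z = d

/-- The size of the class of `z` in the centraliser of `x`. -/
noncomputable abbrev rI (x z : G) : ℕ := (C z).relIndex (C x)

theorem rI_eq_one_iff {x z : G} : rI x z = 1 ↔ C x ≤ C z := relIndex_eq_one

theorem cent_subtype (H : Subgroup G) (z : H) :
    centralizer ({z} : Set H) = (C (z : G)).subgroupOf H := by
  ext g
  simp only [mem_subgroupOf, mem_centralizer_singleton_iff, Subtype.ext_iff, Subgroup.coe_mul]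

theorem carrier_ncard {x : G} [Finite G] (z : C x) :
    (ConjClasses.mk z).carrier.ncard = rI x (z : G) := by
  rw [← Nat.card_coe_set_eq, CfsgLib.Char.card_carrier_eq_index, cent_subtype]
  rfl

variable [Finite G]

theorem IsREl.coprime {p : ℕ} (hp : p.Prime) {x z : G} (hx : IsREl p x) (hz : (orderOf z).Coprime p) :
    (orderOf x).Coprime (orderOf z) := by
  obtain ⟨k, hk⟩ := hx.orderOf_eq hp
  rw [hk]
  exact (hz.pow_right k).symm

theorem coprime_of_rEl {p q : ℕ} (hp : p.Prime) (hq : q.Prime) (hne : q ≠ p) {z : G} (hz : IsREl q z) :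
    (orderOf z).Coprime p := by
  obtain ⟨k, hk⟩ := hz.orderOf_eq hq
  rw [hk]
  exact ((Nat.coprime_primes hq hp).2 hne).pow_left k

theorem isREl_of_mem {p : ℕ} {P : Subgroup G} (hP : IsPGroup p P) {x : G} (hx : x ∈ P) : IsREl p x := by
  obtain ⟨k, hk⟩ := hP ⟨x, hx⟩
  exact ⟨k, congrArg Subtype.val hk⟩

theorem exists_mem_prime {p : ℕ} (hp : p.Prime) {H : Subgroup G} (h : p ∣ Nat.card H) :
    ∃ g ∈ H, orderOf g = p ∧ IsREl p g ∧ g ≠ 1 := by
  haveI := Fact.mk hp
  obtain ⟨⟨g, hgm⟩, hg⟩ := exists_prime_orderOf_dvd_card' p h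
  rw [orderOf_mk] at hg
  exact ⟨g, hgm, hg, ⟨1, by rw [pow_one, ← hg, pow_orderOf_eq_one]⟩,
    fun e => hp.ne_one (by rw [← hg, e, orderOf_one])⟩

theorem rI_mul {p : ℕ} (hp : p.Prime) {x z : G} (hx : IsREl p x) (hz : Commute z x)
    (hco : (orderOf z).Coprime p) : rI x z * cI x = cI (x * z) := by
  have hco' := IsREl.coprime hp hx hco
  have h : C (x * z) = C x ⊓ C z := ClassSizesPSL.centralizer_mul hz.symm hco'
  show (C z).relIndex (C x) * (C x).index = (C (x * z)).index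
  rw [h, ← inf_relIndex_left]
  exact relIndex_mul_index inf_le_left

theorem mul_ne_one {p : ℕ} (hp : p.Prime) {x z : G} (hx : IsREl p x) (hx1 : x ≠ 1)
    (hco : (orderOf z).Coprime p) : x * z ≠ 1 := fun e => by
  have h := IsREl.coprime hp hx hco
  rw [eq_inv_of_mul_eq_one_right e, orderOf_inv] at h
  exact hx1 (orderOf_eq_one_iff.1 (by simpa [Nat.Coprime] using h))

theorem cI_dvd_rI_mul {p : ℕ} (hp : p.Prime) {x z : G} (hx : IsREl p x) (hz : Commute z x)
    (hco : (orderOf z).Coprime p) : cI z ∣ rI x z * cI x := by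
  rw [rI_mul hp hx hz hco]
  exact (ClassSizesPSL.cI_dvd_mul hz.symm (IsREl.coprime hp hx hco)).2

/-- In the centraliser of an element of maximal size the elements of coprime order are central. -/
theorem le_of_max {p : ℕ} (hp : p.Prime) {x z : G} (hx : IsREl p x) (hx1 : x ≠ 1) (hmax : IsMax G (cI x))
    (hz : Commute z x) (hco : (orderOf z).Coprime p) : C x ≤ C z := by
  have h := hmax _ (mul_ne_one hp hx hx1 hco)
    (ClassSizesPSL.cI_dvd_mul hz.symm (IsREl.coprime hp hx hco)).1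
  rw [← rI_eq_one_iff]
  have h2 := rI_mul hp hx hz hco
  rw [h] at h2
  exact Nat.eq_of_mul_eq_mul_right (RankThree.cI_pos x) (by rw [h2, one_mul])

theorem commute_of_max {p r t : ℕ} (hp : p.Prime) (hr : r.Prime) (ht : t.Prime) (hne : r ≠ t) {x y z : G}
    (hx : IsREl p x) (hx1 : x ≠ 1) (hmax : IsMax G (cI x)) (hy : IsREl r y) (hz : IsREl t z)
    (hyx : Commute y x) (hzx : Commute z x) : Commute y z := by
  by_cases hrp : r = p
  · exact mem_C.1 (le_of_max hp hx hx1 hmax hzx (coprime_of_rEl hp ht (fun e => hne (hrp.trans e.symm)) hz)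
      (mem_C.2 hyx))
  · exact (mem_C.1 (le_of_max hp hx hx1 hmax hyx (coprime_of_rEl hp hr hrp hy) (mem_C.2 hzx))).symm

/-- An element of the centraliser with `Upper` base size has one of two sizes there. -/
theorem rI_cases {p : ℕ} (hp : p.Prime) {x z : G} (hx : IsREl p x) (hx1 : x ≠ 1) {d : ℕ}
    (hup : Upper G (cI x) d) (hz : Commute z x) (hco : (orderOf z).Coprime p) :
    rI x z = 1 ∨ rI x z * cI x = d := by
  have h2 := rI_mul hp hx hz hco
  rcases hup _ (mul_ne_one hp hx hx1 hco)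
      (ClassSizesPSL.cI_dvd_mul hz.symm (IsREl.coprime hp hx hco)).1 with h | h
  · left
    rw [h] at h2
    exact Nat.eq_of_mul_eq_mul_right (RankThree.cI_pos x) (by rw [h2, one_mul])
  · exact Or.inr (h2.trans h)

theorem eq_of_primes {k p : ℕ} (hk : k ≠ 0) (h : ∀ r, r.Prime → r ∣ k → r = p) : ∃ i, k = p ^ i :=
  ⟨_, Nat.eq_prime_pow_of_unique_prime_dvd hk fun {r} hr hrd => h r hr hrd⟩

/-- Two sizes of `p`-regular classes in a centraliser. -/
theorem two_size {x : G} {p : ℕ} (hp : p.Prime) {k : ℕ} (hk1 : k ≠ 1)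
    (h : ∀ z, Commute z x → (orderOf z).Coprime p → rI x z = 1 ∨ rI x z = k)
    (hex : ∃ z, Commute z x ∧ (orderOf z).Coprime p ∧ rI x z = k) :
    ((∃ i, k = p ^ i) ∧ ∃ H : Subgroup G, H ≤ C x ∧ (∀ a ∈ H, ∀ b ∈ H, a * b = b * a) ∧
        ¬ p ∣ Nat.card H ∧ ∃ i, H.relIndex (C x) = p ^ i) ∨
      ((∀ i, k ≠ p ^ i) ∧ ∃ q : ℕ, q.Prime ∧ q ≠ p ∧
        (∀ z, Commute z x → (orderOf z).Coprime (p * q) → C x ≤ C z) ∧
        ∀ r : ℕ, r.Prime → r ∣ k → r = p ∨ r = q) := by
  classical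
  haveI := Fact.mk hp
  obtain ⟨z0, hz0, hz0co, hz0k⟩ := hex
  have hrange : Set.range (fun z : {z : C x // (orderOf z).Coprime p} =>
      (ConjClasses.mk (z : C x)).carrier.ncard) = {1, k} := by
    ext m
    constructor
    · rintro ⟨⟨⟨z, hz⟩, hco⟩, rfl⟩
      rw [orderOf_mk] at hco
      rcases h z (mem_C.1 hz) hco with e | e <;> simp [carrier_ncard, e]
    · rintro (rfl | rfl)
      · refine ⟨⟨1, by simp⟩, ?_⟩
        simp only [carrier_ncard, OneMemClass.coe_one]
        exact rI_eq_one_iff.2 fun g _ => mem_C.2 (Commute.one_right g)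
      · refine ⟨⟨⟨z0, mem_C.2 hz0⟩, by rwa [orderOf_mk]⟩, ?_⟩
        simp only [carrier_ncard, hz0k]
  by_cases hpow : ∃ i, k = p ^ i
  · left
    obtain ⟨H, hc, hnd, i, hi⟩ := (Cfsg.Agent.S4034.result (G := C x) hp).1 (by
      rintro ⟨z, hz⟩ hco
      rw [orderOf_mk] at hco
      rw [carrier_ncard]
      rcases h z (mem_C.1 hz) hco with e | e
      · exact ⟨0, by rw [e, pow_zero]⟩
      · exact e ▸ hpow)
    refine ⟨hpow, H.map (C x).subtype, map_subtype_le _, ?_, ?_, i, ?_⟩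
    · rintro _ ⟨a, ha, rfl⟩ _ ⟨b, hb, rfl⟩
      exact congrArg (fun t : H => ((t : C x) : G)) (hc.is_comm.comm ⟨a, ha⟩ ⟨b, hb⟩)
    · rwa [← Nat.card_congr (equivMapOfInjective H _ (subtype_injective _)).toEquiv]
    · rw [← hi, relIndex, subgroupOf, comap_map_eq_self_of_injective (subtype_injective _)]
  right
  push Not at hpow
  refine ⟨hpow, ?_⟩
  rcases Cfsg.Agent.S4033.result (G := C x) hp (by rw [hrange, Set.ncard_pair hk1.symm]) with
    ⟨H, hc, hnd, i, hi⟩ | ⟨q, hq, P, Q, A, hqp, hA, hcard, hN, hbot, htop⟩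
  · exfalso
    obtain ⟨j, hj⟩ := (Cfsg.Agent.S4034.result (G := C x) hp).2 ⟨H, hc, hnd, i, hi⟩ ⟨z0, mem_C.2 hz0⟩
      (by rwa [orderOf_mk])
    rw [carrier_ncard, hz0k] at hj
    exact hpow j hj
  haveI := hq
  haveI : A.Normal := ⟨fun a ha g => by
    rwa [mem_center_iff.1 (hA ha) g, mul_inv_cancel_right]⟩
  have hidx : A.index = Nat.card P * Nat.card Q := by
    rw [← hcard, ← (isComplement'_of_disjoint_and_mul_eq_univ (disjoint_iff.2 hbot)
      (by rw [← mul_normal, htop, coe_top])).index_eq_card]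
  refine ⟨q, hq.out, hqp, fun z hz hco => ?_, fun r hr hrk => ?_⟩
  · have hzA : (⟨z, mem_C.2 hz⟩ : C x) ^ A.index ∈ A := A.pow_index_mem _
    have hcop : (orderOf (⟨z, mem_C.2 hz⟩ : C x)).Coprime A.index := by
      rw [orderOf_mk, hidx]
      obtain ⟨a, ha⟩ := IsPGroup.iff_card.1 P.2
      obtain ⟨b, hb⟩ := IsPGroup.iff_card.1 Q.2
      rw [ha, hb]
      exact Nat.Coprime.mul_right ((hco.coprime_dvd_right (dvd_mul_right p q)).pow_right _)
        ((hco.coprime_dvd_right (dvd_mul_left q p)).pow_right _)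
    obtain ⟨m, hm⟩ := exists_pow_eq_self_of_coprime hcop.symm
    have hzc : (⟨z, mem_C.2 hz⟩ : C x) ∈ center (C x) := hA (hm ▸ pow_mem hzA m)
    exact fun g hg => mem_C.2 (congrArg Subtype.val (mem_center_iff.1 hzc ⟨g, hg⟩) :)
  · have hd : k ∣ A.index := by
      rw [← hz0k, ← carrier_ncard (⟨z0, mem_C.2 hz0⟩ : C x), ← Nat.card_coe_set_eq,
        CfsgLib.Char.card_carrier_eq_index]
      exact index_dvd_of_le fun a ha => mem_centralizer_singleton_iff.2 (mem_center_iff.1 (hA ha) _).symm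
    have hd' := hrk.trans hd
    rw [hidx] at hd'
    obtain ⟨a, ha⟩ := IsPGroup.iff_card.1 P.2
    obtain ⟨b, hb⟩ := IsPGroup.iff_card.1 Q.2
    rw [ha, hb] at hd'
    rcases hr.dvd_mul.1 hd' with e | e
    · exact Or.inl ((Nat.prime_dvd_prime_iff_eq hr hp).1 (hr.dvd_of_dvd_pow e))
    · exact Or.inr ((Nat.prime_dvd_prime_iff_eq hr hq.out).1 (hr.dvd_of_dvd_pow e))

/-- When no `p`-regular class size of a centraliser is divisible by `p`, the `p`-elements commute with
the `p`-regular ones, and the `p`-elements form a subgroup. -/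
theorem split {x : G} {p : ℕ} [Fact p.Prime]
    (h : ∀ z, Commute z x → (orderOf z).Coprime p → ¬ p ∣ rI x z) :
    ∃ P O : Subgroup G, P ≤ C x ∧ O ≤ C x ∧ IsPGroup p P ∧ ¬ p ∣ Nat.card O ∧
      Nat.card P * Nat.card O = Nat.card (C x) ∧ (∀ a ∈ P, ∀ b ∈ O, Commute a b) ∧
      (∀ z ∈ C x, IsREl p z → z ∈ P) ∧ (∀ z ∈ C x, (orderOf z).Coprime p → z ∈ O) := by
  classical
  obtain ⟨P0⟩ := (inferInstance : Nonempty (Sylow p (C x)))
  obtain ⟨hPn, H, hHn, hH, hbot, htop⟩ := Cfsg.Agent.S4035.result (G := C x) (fun z hz => by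
    rw [carrier_ncard]; exact h z (mem_C.1 z.2) (by rwa [← orderOf_coe] at hz)) P0
  haveI := hPn
  haveI := hHn
  have hcomp : IsComplement' H (P0 : Subgroup (C x)) := isComplement'_of_disjoint_and_mul_eq_univ
    (disjoint_iff.2 (by rw [inf_comm, hbot])) (by rw [← mul_normal, sup_comm, htop, coe_top])
  have hi1 : (P0 : Subgroup (C x)).index = Nat.card H := hcomp.index_eq_card
  have hi2 : H.index = Nat.card P0 := hcomp.symm.index_eq_card
  obtain ⟨n, hn⟩ := IsPGroup.iff_card.1 P0.2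
  refine ⟨(P0 : Subgroup (C x)).map (C x).subtype, H.map (C x).subtype, map_subtype_le _, map_subtype_le _,
    P0.2.map _, ?_, ?_, ?_, ?_, ?_⟩
  · rwa [← Nat.card_congr (equivMapOfInjective H _ (subtype_injective _)).toEquiv]
  · rw [← Nat.card_congr (equivMapOfInjective H _ (subtype_injective _)).toEquiv,
      ← Nat.card_congr (equivMapOfInjective (P0 : Subgroup (C x)) _ (subtype_injective _)).toEquiv,
      ← hi2, mul_comm]
    exact H.card_mul_index
  · rintro _ ⟨a, ha, rfl⟩ _ ⟨b, hb, rfl⟩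
    exact congrArg Subtype.val (commute_of_normal_of_disjoint _ _ hPn hHn (disjoint_iff.2 hbot) a b ha hb).eq
  · intro z hz hzp
    obtain ⟨j, hj⟩ := hzp.orderOf_eq (Fact.out : p.Prime)
    have hm := (P0 : Subgroup (C x)).pow_index_mem ⟨z, hz⟩
    have hco : (orderOf (⟨z, hz⟩ : C x)).Coprime (P0 : Subgroup (C x)).index := by
      rw [orderOf_mk, hj, hi1]
      exact (((Fact.out : p.Prime).coprime_iff_not_dvd).2 hH).pow_left j
    obtain ⟨m, hm'⟩ := exists_pow_eq_self_of_coprime hco.symm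
    exact ⟨_, hm' ▸ pow_mem hm m, rfl⟩
  · intro z hz hzp
    have hm := H.pow_index_mem ⟨z, hz⟩
    have hco : (orderOf (⟨z, hz⟩ : C x)).Coprime H.index := by
      rw [orderOf_mk, hi2, hn]
      exact hzp.pow_right n
    obtain ⟨m, hm'⟩ := exists_pow_eq_self_of_coprime hco.symm
    exact ⟨_, hm' ▸ pow_mem hm m, rfl⟩

/-- The hypothesis: exactly four sizes of nontrivial classes. -/
structure Four (G : Type*) [Group G] : Prop where
  na : ¬ IsMulCommutative G
  card : {m : ℕ | ∃ x : G, x ≠ 1 ∧ cI x = m}.ncard = 4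

/-- `v` is a size. -/
def Val (G : Type*) [Group G] (v : ℕ) : Prop := ∃ x : G, x ≠ 1 ∧ cI x = v

theorem val_cI {x : G} (hx : x ≠ 1) : Val G (cI x) := ⟨x, hx, rfl⟩

variable (F : Four G)
include F

theorem Four.fourth {a b c : ℕ} (ha : Val G a) (hb : Val G b) (hc : Val G c) (hab : a ≠ b) (hac : a ≠ c)
    (hbc : b ≠ c) : ∃ f, Val G f ∧ f ≠ a ∧ f ≠ b ∧ f ≠ c ∧
      ∀ z : G, z ≠ 1 → cI z = a ∨ cI z = b ∨ cI z = c ∨ cI z = f := by
  classical
  obtain ⟨s, hs⟩ : ∃ s : Finset ℕ, ∀ m, m ∈ s ↔ Val G m :=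
    ⟨(Set.finite_of_ncard_pos (s := {m : ℕ | ∃ x : G, x ≠ 1 ∧ cI x = m}) (by rw [F.card]; omega)).toFinset,
      fun m => Set.Finite.mem_toFinset _⟩
  have hcard : s.card = 4 := by
    rw [← F.card, ← Set.ncard_coe_finset]
    congr 1
    ext m
    exact hs m
  have hsub : ({a, b, c} : Finset ℕ) ⊆ s := by
    intro m hm
    simp only [Finset.mem_insert, Finset.mem_singleton] at hm
    rcases hm with rfl | rfl | rfl <;> exact (hs _).2 (by assumption)
  have h3 : ({a, b, c} : Finset ℕ).card = 3 := Finset.card_eq_three.2 ⟨a, b, c, hab, hac, hbc, rfl⟩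
  obtain ⟨f, hf⟩ : ∃ f, s \ {a, b, c} = {f} := Finset.card_eq_one.1 (by
    rw [Finset.card_sdiff_of_subset hsub]; omega)
  have hfm : f ∈ s \ {a, b, c} := hf ▸ Finset.mem_singleton_self f
  simp only [Finset.mem_sdiff, Finset.mem_insert, Finset.mem_singleton, not_or] at hfm
  refine ⟨f, (hs f).1 hfm.1, hfm.2.1, hfm.2.2.1, hfm.2.2.2, fun z hz => ?_⟩
  by_cases h : cI z ∈ ({a, b, c} : Finset ℕ)
  · simp only [Finset.mem_insert, Finset.mem_singleton] at h
    tauto
  · have : cI z ∈ s \ {a, b, c} := Finset.mem_sdiff.2 ⟨(hs _).2 (val_cI hz), h⟩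
    rw [hf, Finset.mem_singleton] at this
    tauto

variable [IsSimpleGroup G]

theorem Four.one_lt {v : ℕ} (hv : Val G v) : 1 < v := by
  obtain ⟨x, hx, rfl⟩ := hv
  have := RankThree.cI_pos x
  have := RankThree.cI_ne_one F.na hx
  omega

theorem Four.lt_card {v : ℕ} (hv : Val G v) : v < Nat.card G := by
  obtain ⟨x, hx, rfl⟩ := hv
  have h2 : 2 ≤ cC x := by
    haveI : Nontrivial (C x) := (nontrivial_iff_ne_bot _).2 fun e => hx (mem_bot.1 (e ▸ mem_C_self x))
    exact Finite.one_lt_card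
  have h := RankThree.cC_mul_cI x
  have := RankThree.cI_pos x
  nlinarith

omit F in
theorem dvd_card {v : ℕ} (hv : Val G v) : v ∣ Nat.card G := by
  obtain ⟨x, hx, rfl⟩ := hv
  exact index_dvd_card _

end CfsgLib.Recog.RankFour
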