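import Cfsg.Agent.Lib.Recog.RankFour.CaseB
import Cfsg.Agent.Lib.Core.UniqueOrderP
import Mathlib.GroupTheory.SpecificGroups.Dihedral

/-!
# A complemented involution of odd size

The Sylow 2-subgroups are then dihedral.
-/

set_option autoImplicit false
set_option linter.all false

namespace CfsgLib.Recog.RankFour

open Subgroup
open CfsgLib.Recog.ClassSizesPSL (cI cC IsREl)

/-- A finite group with a cyclic subgroup outside which all elements are involutions, of index two. -/
theorem nonempty_dihedral {T : Type*} [Group T] [Finite T] (U : Subgroup T) [IsCyclic U] {y : T} (hy : y ∉ U)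
    (hinv : ∀ t, t ∉ U → t * t = 1) (htwo : ∀ a b, a ∉ U → b ∉ U → a * b ∈ U) :
    Nonempty (T ≃* DihedralGroup (Nat.card U)) := by
  classical
  obtain ⟨g, hg⟩ := IsCyclic.exists_generator (α := U)
  set n := Nat.card U with hn
  have hgo : orderOf (g : T) = n := by rw [orderOf_coe, orderOf_eq_card_of_forall_mem_zpowers hg]
  have hy1 := hinv y hy
  have hyi : y⁻¹ = y := inv_eq_of_mul_eq_one_right hy1
  have hgmem : ∀ m : ℤ, (g : T) ^ m ∈ U := fun m => zpow_mem g.2 m
  have hyg : ∀ m : ℤ, y * (g : T) ^ m * y = (g : T) ^ (-m) := fun m => by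
    have h := hinv (y * (g : T) ^ m) fun h' => hy (by simpa using mul_mem h' (inv_mem (hgmem m)))
    rw [zpow_neg]
    exact eq_inv_of_mul_eq_one_left (by rw [← h]; group)
  have hperiod : ∀ a b : ℤ, (a : ZMod n) = (b : ZMod n) → (g : T) ^ a = (g : T) ^ b := fun a b h => by
    rw [zpow_eq_zpow_iff_modEq, hgo]
    exact (ZMod.intCast_eq_intCast_iff a b n).1 h
  haveI : NeZero n := ⟨Nat.card_pos.ne'⟩
  let p : ZMod n → T := fun i => (g : T) ^ (i.val : ℤ)
  have hp : ∀ (i : ZMod n) (m : ℤ), (m : ZMod n) = i → p i = (g : T) ^ m := fun i m h =>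
    hperiod _ _ (by rw [h, Int.cast_natCast, ZMod.natCast_zmod_val])
  have hcast : ∀ i : ZMod n, (((i.val : ℤ)) : ZMod n) = i := fun i => by
    rw [Int.cast_natCast, ZMod.natCast_zmod_val]
  let f : DihedralGroup n → T := fun d => match d with
    | .r i => p i
    | .sr i => y * p i
  have hyy : ∀ (i : ZMod n), p i * y = y * p (-i) := fun i => by
    rw [hp (-i) (-(i.val : ℤ)) (by rw [Int.cast_neg, hcast]), ← hyg]
    show _ = y * (y * p i * y)
    rw [← mul_assoc, ← mul_assoc, hy1, one_mul]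
  have hadd : ∀ i j : ZMod n, p (i + j) = p i * p j := fun i j => by
    rw [hp (i + j) ((i.val : ℤ) + (j.val : ℤ)) (by rw [Int.cast_add, hcast, hcast]), zpow_add]
  have hmul : ∀ a b, f (a * b) = f a * f b := by
    rintro (i | i) (j | j)
    · exact hadd i j
    · show y * p (j - i) = p i * (y * p j)
      rw [← mul_assoc, hyy, mul_assoc, ← hadd, neg_add_eq_sub]
    · show y * p (i + j) = y * p i * p j
      rw [mul_assoc, ← hadd]
    · show p (j - i) = y * p i * (y * p j)
      rw [mul_assoc, ← mul_assoc (p i), hyy, mul_assoc, ← hadd, neg_add_eq_sub, ← mul_assoc, hy1, one_mul]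
  have hpinj : Function.Injective p := fun i j h => by
    have h1 := zpow_eq_zpow_iff_modEq.1 h
    rw [hgo, ← ZMod.intCast_eq_intCast_iff, hcast, hcast] at h1
    exact h1
  have hinj : Function.Injective f := by
    rintro (i | i) (j | j) h
    · exact congrArg DihedralGroup.r (hpinj h)
    · exact absurd (show y ∈ U by
        rw [show y = p i * (p j)⁻¹ from eq_mul_inv_of_mul_eq h.symm]
        exact mul_mem (hgmem _) (inv_mem (hgmem _))) hy
    · exact absurd (show y ∈ U by
        rw [show y = p j * (p i)⁻¹ from eq_mul_inv_of_mul_eq h]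
        exact mul_mem (hgmem _) (inv_mem (hgmem _))) hy
    · exact congrArg DihedralGroup.sr (hpinj (mul_left_cancel h))
  have hpsurj : ∀ x ∈ U, ∃ i, p i = x := fun x hx => by
    obtain ⟨m, hm⟩ := mem_zpowers_iff.1 (hg ⟨x, hx⟩)
    exact ⟨(m : ZMod n), (hp _ m rfl).trans (by simpa using congrArg (fun v : U => (v : T)) hm)⟩
  have hsurj : Function.Surjective f := fun x => by
    by_cases hx : x ∈ U
    · obtain ⟨i, hi⟩ := hpsurj x hx
      exact ⟨.r i, hi⟩
    · obtain ⟨i, hi⟩ := hpsurj (y * x) (htwo y x hy hx)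
      exact ⟨.sr i, show y * p i = x by rw [hi, ← mul_assoc, hy1, one_mul]⟩
  exact ⟨(MulEquiv.ofBijective (MonoidHom.mk' f hmul) ⟨hinj, hsurj⟩).symm⟩

variable {G : Type*} [Group G] [Finite G]

/-- A split involution in the centraliser of a complemented one of odd size. -/
theorem split_neighbour {u r : G} {k : ℕ} (K : Compl G u k) (hodd : ¬ 2 ∣ cI u) (hr : orderOf r = 2)
    (hru : Commute r u) (hsp : IsSplit r) : cI u ∣ cI r ∧
      ∃ O : Subgroup G, O ≤ C u ∧ (∀ x ∈ O, Commute x r) ∧ ∃ j, O.relIndex (C u) = 2 ^ j := by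
  obtain ⟨P, O, -, hOC, hP, hO, hcard, hcomm, hmP, hmO⟩ := hsp.exists_parts
  have hOu : O ≤ C u := fun x hx =>
    mem_C.2 (hcomm u (hmP u (mem_C.2 hru.symm) (isREl_two_invol K.inv)) x hx).symm
  have h1 : O.relIndex (C u) * cI u = Nat.card P * cI r := by
    refine Nat.eq_of_mul_eq_mul_left (Nat.card_pos (α := O)) ?_
    calc Nat.card O * (O.relIndex (C u) * cI u) = Nat.card O * O.index := by
          rw [show cI u = (C u).index from rfl, relIndex_mul_index hOu]
      _ = Nat.card (C r) * (C r).index := by rw [O.card_mul_index, (C r).card_mul_index]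
      _ = Nat.card O * (Nat.card P * cI r) := by rw [← hcard, show (C r).index = cI r from rfl]; ring
  obtain ⟨n, hn⟩ := IsPGroup.iff_card.1 hP
  have hco : (cI u).Coprime (Nat.card P) := hn ▸ ((Nat.prime_two.coprime_iff_not_dvd).2 hodd).symm.pow_right n
  have hdvd : cI u ∣ cI r := hco.dvd_of_dvd_mul_left (h1 ▸ dvd_mul_left _ _)
  refine ⟨hdvd, O, hOu, fun x hx => mem_C.1 (hOC hx), ?_⟩
  rcases K.upper r (invol_ne_one hr) hdvd with e | e <;> rw [e] at h1
  · exact ⟨n, Nat.eq_of_mul_eq_mul_right (RankThree.cI_pos u) (h1.trans (by rw [hn]))⟩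
  · obtain ⟨i, hi⟩ := K.pow
    exact ⟨n + i, Nat.eq_of_mul_eq_mul_right (RankThree.cI_pos u) (h1.trans (by rw [hn, hi]; ring))⟩

variable [IsSimpleGroup G] (F : Four G)
include F

/-- The sizes of the involutions commuting with a complemented one of odd size. -/
theorem neighbour {u r : G} {k : ℕ} (K : Compl G u k) (hodd : ¬ 2 ∣ cI u) (hr : orderOf r = 2)
    (hru : Commute r u) : cI u ∣ cI r := by
  rcases kinds F hr with hsp | ⟨l, L⟩
  · exact (split_neighbour K hodd hr hru hsp).1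
  by_cases hne : cI r = cI u
  · rw [hne]
  exfalso
  obtain ⟨h1, h2, h3, h4, h5⟩ := K.distinct L hne
  obtain ⟨f, -, -, -, -, hval⟩ := F.fourth (val_cI (invol_ne_one K.inv)) K.val
    (val_cI (invol_ne_one hr)) h1.symm (Ne.symm hne) h3
  obtain ⟨y, hy, hyv⟩ := L.val
  have hf : cI r * l = f := by
    rcases hval y hy with e | e | e | e <;> rw [hyv] at e
    exacts [absurd e h4, absurd e.symm h5, absurd e h2, e]
  have hco : (cI u).Coprime (cI r) := Nat.coprime_of_dvd fun p hp hpu hpr => by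
    obtain ⟨z, hz, hzp⟩ := RankThree.exists_not_dvd hp (hpu.trans (dvd_card (val_cI (invol_ne_one K.inv))))
    rcases hval z hz with e | e | e | e <;> rw [e] at hzp
    exacts [hzp hpu, hzp (hpu.trans (dvd_mul_right _ _)), hzp hpr, hzp (hf ▸ hpr.trans (dvd_mul_right _ _))]
  exact RankThree.not_same_prime F.na Nat.prime_two (invol_ne_one K.inv) (invol_ne_one hr)
    (isREl_two_invol K.inv) (isREl_two_invol hr) hco

/-- The centraliser of a complemented involution of odd size. -/
theorem structureA {u : G} {k : ℕ} (K : Compl G u k) (hodd : ¬ 2 ∣ cI u)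
    (hS : ∀ S : Sylow 2 G, ¬ IsMulCommutative (S : Subgroup G)) (T : Sylow 2 (C u)) :
    (∃ S : Sylow 2 G, (S : Subgroup G) = (T : Subgroup (C u)).map (C u).subtype) ∧
    ∃ U : Subgroup (C u), U ≤ (T : Subgroup (C u)) ∧ (∀ a ∈ U, ∀ b ∈ U, a * b = b * a) ∧
      (∀ t ∈ (T : Subgroup (C u)), t ∉ U → t * t = 1) ∧
      (∃ y ∈ (T : Subgroup (C u)), y ∉ U) ∧
      (∀ x ∈ (T : Subgroup (C u)), ∀ y ∈ (T : Subgroup (C u)), x ∉ U → y ∉ U → x * y ∈ U) ∧
      (∀ t ∈ (T : Subgroup (C u)), (∀ z : G, Commute z u → (orderOf z).Coprime 2 → Commute z (t : G)) → t ∈ U) ∧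
      (∀ e ∈ U, orderOf (e : G) = 2 → C (e : G) = C u) ∧
      (∀ t ∈ (T : Subgroup (C u)), t ∉ U → ∃ l, Compl G (t : G) l ∧ cI (t : G) = cI u) := by
  haveI : Fact (Nat.Prime 2) := ⟨Nat.prime_two⟩
  obtain ⟨S, hTS⟩ := (T.2.map (C u).subtype).exists_le_sylow
  have hTS' : (S : Subgroup G) = (T : Subgroup (C u)).map (C u).subtype := by
    refine (eq_of_le_of_card_ge hTS ?_).symm
    rw [← Nat.card_congr (equivMapOfInjective (T : Subgroup (C u)) _ (subtype_injective _)).toEquiv]
    obtain ⟨n, hn⟩ := IsPGroup.iff_card.1 S.2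
    have h : Nat.card (S : Subgroup G) ∣ Nat.card (C u) := by
      refine (hn ▸ ((Nat.prime_two.coprime_iff_not_dvd).2 hodd).pow_left n :
        (Nat.card (S : Subgroup G)).Coprime (cI u)).dvd_of_dvd_mul_right ?_
      rw [show Nat.card (C u) * cI u = Nat.card G from (C u).card_mul_index]
      exact card_subgroup_dvd_card _
    rw [hn] at h ⊢
    exact Nat.le_of_dvd Nat.card_pos (T.pow_dvd_card_of_pow_dvd_card h)
  refine ⟨⟨S, hTS'⟩, ?_⟩
  have hexp : ¬ ∀ t ∈ (T : Subgroup (C u)), t * t = 1 := fun h => by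
    have h' : ∀ x : (S : Subgroup G), x⁻¹ = x := fun x => by
      have hx : (x : G) ∈ (T : Subgroup (C u)).map (C u).subtype := hTS' ▸ x.2
      obtain ⟨a, ha, hax⟩ := hx
      refine inv_eq_of_mul_eq_one_right (Subtype.ext ?_)
      show (x : G) * x = 1
      rw [← hax, ← map_mul, h a ha, map_one]
    exact hS S ⟨⟨fun a b => by
      rw [← h' (a * b), mul_inv_rev, h' a, h' b]⟩⟩
  obtain ⟨H, hHC, hcomm, hHodd, i, hi⟩ := K.compl
  set H' := H.subgroupOf (C u) with hH'
  have hH'card : ¬ 2 ∣ Nat.card H' := by rwa [Nat.card_congr (subgroupOfEquivOfLe hHC).toEquiv]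
  have hcT : ∀ x ∈ (T : Subgroup (C u)), IsREl 2 (x : G) := fun x hx =>
    isREl_of_mem (T.2.map (C u).subtype) ⟨x, hx, rfl⟩
  have hH'comm : ∀ a ∈ H', ∀ b ∈ H', a * b = b * a := fun a ha b hb => Subtype.ext (hcomm _ ha _ hb)
  rcases exponent_or_normal K.solvable H' hH'comm hH'card hi T (fun x hx hx2 => by
      rw [cent_subtype]
      refine full_odd K (hcT x hx) (mem_C.1 x.2) (fun h => hx2 (Subtype.ext h)) fun r hr hrx => ?_
      refine neighbour F K hodd hr ?_
      obtain ⟨j, rfl⟩ := mem_zpowers_iff.1 hrx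
      exact (mem_C.1 x.2).zpow_left j) with h | ⟨hn, hcen⟩
  · exact absurd h hexp
  haveI := hn
  have hmemH : ∀ z : C u, (orderOf z).Coprime 2 → z ∈ H' := fun z hz => by
    have hco : (orderOf z).Coprime H'.index := by
      rw [show H'.index = 2 ^ i from hi]
      exact hz.pow_right i
    obtain ⟨m, hm⟩ := exists_pow_eq_self_of_coprime hco.symm
    exact hm ▸ pow_mem (H'.pow_index_mem z) m
  set U := (T : Subgroup (C u)) ⊓ centralizer (H' : Set (C u)) with hU
  have hout : ∀ t ∈ (T : Subgroup (C u)), t ∉ U → t * t = 1 := fun t ht htU => by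
    by_contra h2
    exact htU ⟨ht, mem_centralizer_iff.2 fun h hh => (hcen t ht h2 h hh).eq⟩
  have hmemU : ∀ t ∈ (T : Subgroup (C u)),
      (∀ z : G, Commute z u → (orderOf z).Coprime 2 → Commute z (t : G)) → t ∈ U := fun t ht h =>
    ⟨ht, mem_centralizer_iff.2 fun a ha => Subtype.ext (h (a : G) (mem_C.1 a.2) (by
      rw [orderOf_coe]
      exact (((Nat.prime_two.coprime_iff_not_dvd).2 hH'card).symm).coprime_dvd_left
        (orderOf_dvd_natCard H' ha))).eq⟩
  have hy : ∃ y ∈ (T : Subgroup (C u)), y ∉ U := by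
    by_contra hcon
    push Not at hcon
    obtain ⟨z, hz, hzc, hzk⟩ := K.ex
    refine T.not_dvd_index ((show 2 ∣ rI u z from ?_).trans (index_dvd_of_le fun a ha => ?_))
    · obtain ⟨j, hj⟩ := K.pow
      rw [hzk, hj]
      exact dvd_pow_self 2 fun h => K.k1 (by rw [hj, h, pow_zero])
    · exact mem_subgroupOf.2 (mem_C.2 (congrArg Subtype.val
        (mem_centralizer_iff.1 (hcon a ha).2 ⟨z, mem_C.2 hz⟩ (hmemH _ (by rwa [orderOf_mk])))).symm)
  have htwo : ∀ x ∈ (T : Subgroup (C u)), ∀ y ∈ (T : Subgroup (C u)), x ∉ U → y ∉ U → x * y ∈ U := by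
    intro x hx y' hy' hxU hyU
    by_contra hxy
    exact hexp (exponent_two_of_outside hout hx hy' hxU hyU hxy)
  obtain ⟨y, hyT, hyU⟩ := hy
  have hyy := hout y hyT hyU
  have hinv : ∀ a ∈ U, y * a * y = a⁻¹ := fun a ha => by
    have h := hout (y * a) (mul_mem hyT ha.1) fun h' => hyU (by simpa using mul_mem h' (inv_mem ha))
    exact eq_inv_of_mul_eq_one_left (by rw [← h]; group)
  have hUcomm : ∀ a ∈ U, ∀ b ∈ U, a * b = b * a := by
    intro a ha b hb
    have h : (y * a * y) * (y * b * y) = y * (a * b) * y := by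
      calc (y * a * y) * (y * b * y) = y * a * (y * y) * b * y := by group
        _ = _ := by rw [hyy]; group
    rw [hinv a ha, hinv b hb, hinv _ (mul_mem ha hb), mul_inv_rev] at h
    have h' := congrArg (·⁻¹) h
    simp only [mul_inv_rev, inv_inv] at h'
    exact h'.symm
  refine ⟨U, inf_le_left, hUcomm, hout, ⟨y, hyT, hyU⟩, htwo, hmemU, fun e he he2 => ?_, fun t ht htU => ?_⟩
  · have hee : e * e = 1 := Subtype.ext (show (e : G) * e = 1 by rw [← pow_two, ← he2, pow_orderOf_eq_one])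
    have hle : centralizer ({e} : Set (C u)) = ⊤ := by
      rw [← index_eq_one]
      refine Nat.eq_one_of_dvd_coprimes (a := (T : Subgroup (C u)).index) (b := 2 ^ i) ?_
        (index_dvd_of_le fun a ha => mem_centralizer_singleton_iff.2 ?_)
        (hi ▸ index_dvd_of_le fun a ha => mem_centralizer_singleton_iff.2 ?_)
      · exact ((Nat.prime_two.coprime_iff_not_dvd).2 T.not_dvd_index).symm.pow_right i
      · by_cases haU : a ∈ U
        · exact hUcomm a haU e he
        · have h := hout (a * e) (mul_mem ha he.1) fun h' => haU (by simpa using mul_mem h' (inv_mem he))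
          have h' := inv_eq_of_mul_eq_one_right h
          rw [mul_inv_rev, inv_eq_of_mul_eq_one_right (hout a ha haU), inv_eq_of_mul_eq_one_right hee] at h'
          exact h'.symm
      · exact (mem_centralizer_iff.1 he.2 a ha)
    have hle' : C u ≤ C (e : G) := fun g hg => by
      have h : (⟨g, hg⟩ : C u) ∈ centralizer ({e} : Set (C u)) := by rw [hle]; exact mem_top _
      exact mem_C.2 (congrArg Subtype.val (mem_centralizer_singleton_iff.1 h) :)
    exact (ClassSizesPSL.eq_of_le_of_cI_eq hle' (Nat.dvd_antisymm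
      (neighbour F K hodd he2 (mem_C.1 e.2)) (ClassSizesPSL.cI_dvd hle'))).symm
  · have ht1 : t ≠ 1 := fun h => htU (h ▸ one_mem _)
    have ht2 : orderOf (t : G) = 2 := orderOf_eq_prime
      (by rw [pow_two]; exact congrArg Subtype.val (hout t ht htU)) (fun h => ht1 (Subtype.ext h))
    rcases kinds F ht2 with hsp | ⟨l, L⟩
    · exfalso
      obtain ⟨-, O, hOu, hOt, j, hj⟩ := split_neighbour K hodd ht2 (mem_C.1 t.2) hsp
      refine htU (hmemU t ht fun z hz hzc => hOt z ?_)
      exact le_of_odd (((Nat.prime_two.coprime_iff_not_dvd).2 hH'card).symm) (H := O.subgroupOf (C u)) hj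
        (hmemH ⟨z, mem_C.2 hz⟩ (by rwa [orderOf_mk]))
    refine ⟨l, L, ?_⟩
    rcases K.upper _ (invol_ne_one ht2) (neighbour F K hodd ht2 (mem_C.1 t.2)) with e | e
    · exact e
    · exfalso
      obtain ⟨w, hw, hwv⟩ := L.val
      have hmax : cI w = cI u * k := K.max w hw (by rw [hwv, e]; exact dvd_mul_right _ _)
      exact L.k1 (Nat.eq_of_mul_eq_mul_left (RankThree.cI_pos (t : G))
        ((hwv.symm.trans (hmax.trans e.symm)).trans (mul_one _).symm))

/-- The Sylow 2-subgroups are dihedral. -/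
theorem caseA {u : G} {k : ℕ} (K : Compl G u k) (hodd : ¬ 2 ∣ cI u)
    (hS : ∀ S : Sylow 2 G, ¬ IsMulCommutative (S : Subgroup G)) :
    ∃ (S : Sylow 2 G) (n : ℕ), 2 ≤ n ∧ Nonempty ((S : Subgroup G) ≃* DihedralGroup n) := by
  haveI : Fact (Nat.Prime 2) := ⟨Nat.prime_two⟩
  obtain ⟨T⟩ := (inferInstance : Nonempty (Sylow 2 (C u)))
  obtain ⟨⟨S, hTS⟩, U, hUT, hUcomm, hout, ⟨y, hyT, hyU⟩, htwo, hmemU, heU, hcomplU⟩ := structureA F K hodd hS T
  obtain ⟨l, L, hvy⟩ := hcomplU y hyT hyU
  have hyy := hout y hyT hyU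
  have huniq : ∀ e1 ∈ U, ∀ e2 ∈ U, orderOf e1 = 2 → orderOf e2 = 2 → e1 = e2 := by
    intro e1 he1 e2 he2 ho1 ho2
    by_contra hne
    have hmemY : ∀ e : C u, e ∈ U → orderOf e = 2 → (e : G) ∈ C (y : G) := fun e he ho => by
      have hye : y * e ∉ U := fun h => hyU (by simpa using mul_mem h (inv_mem he))
      have h := inv_eq_of_mul_eq_one_right (hout _ (mul_mem hyT (hUT he)) hye)
      rw [mul_inv_rev, inv_eq_of_mul_eq_one_right hyy,
        inv_eq_of_mul_eq_one_right (show e * e = 1 by rw [← pow_two, ← ho, pow_orderOf_eq_one])] at h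
      exact mem_C.2 (congrArg Subtype.val h)
    set a : C (y : G) := ⟨e1, hmemY e1 he1 ho1⟩
    set b : C (y : G) := ⟨e2, hmemY e2 he2 ho2⟩
    have hab : Commute a b := Subtype.ext (congrArg (fun v : C u => (v : G)) (hUcomm e1 he1 e2 he2))
    have ha2 : orderOf a = 2 := by rw [← orderOf_coe, ← ho1, ← orderOf_coe e1]
    have hb2 : orderOf b = 2 := by rw [← orderOf_coe, ← ho2, ← orderOf_coe e2]
    have hn : zpowers b ≤ normalizer (zpowers a : Set (C (y : G))) := by
      rw [zpowers_le, mem_normalizer_iff]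
      intro g
      have key : ∀ v ∈ zpowers a, b * v * b⁻¹ = v := fun v hv => by
        obtain ⟨j, rfl⟩ := mem_zpowers_iff.1 hv
        rw [(hab.symm.zpow_right j).eq, mul_inv_cancel_right]
      refine ⟨fun hg => by rwa [key g hg], fun hg => ?_⟩
      have h' := key _ hg
      have h'' : b * g * b⁻¹ = g := mul_left_cancel (mul_right_cancel h')
      rwa [h''] at hg
    have hp2 : ∀ {v : C (y : G)}, orderOf v = 2 → IsPGroup 2 (zpowers v) := fun {v} hv =>
      IsPGroup.of_card (n := 1) (by rw [Nat.card_zpowers, hv, pow_one])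
    obtain ⟨Ty, hTy⟩ := ((hp2 hb2).to_sup_of_normal_right' (hp2 ha2) hn).exists_le_sylow
    have haT : a ∈ (Ty : Subgroup _) := hTy (mem_sup_right (mem_zpowers a))
    have hbT : b ∈ (Ty : Subgroup _) := hTy (mem_sup_left (mem_zpowers b))
    obtain ⟨-, Uy, -, -, -, -, htwoy, -, heUy, -⟩ := structureA F L (hvy ▸ hodd) hS Ty
    have hfinish : ∀ e : C u, e ∈ U → orderOf (e : G) = 2 → ∀ h : (e : G) ∈ C (y : G),
        (⟨e, h⟩ : C (y : G)) ∈ Uy → False := fun e he ho h hUy => by
      refine hyU (hmemU y hyT fun z hz _ => ?_)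
      have e2 : C u = C (y : G) := (heU e he ho).symm.trans (heUy _ hUy ho)
      exact mem_C.1 (e2 ▸ mem_C.2 hz)
    by_cases haU : a ∈ Uy
    · exact hfinish e1 he1 (by rw [orderOf_coe, ho1]) _ haU
    by_cases hbU : b ∈ Uy
    · exact hfinish e2 he2 (by rw [orderOf_coe, ho2]) _ hbU
    refine hfinish (e1 * e2) (mul_mem he1 he2) ?_ (a * b).2 (htwoy a haT b hbT haU hbU)
    refine orderOf_eq_prime ?_ fun h => hne ?_
    · have h1 : (e1 * e2) ^ 2 = 1 := by
        rw [(show Commute e1 e2 from hUcomm e1 he1 e2 he2).mul_pow]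
        conv_lhs => arg 1; rw [← ho1, pow_orderOf_eq_one]
        conv_lhs => arg 2; rw [← ho2, pow_orderOf_eq_one]
        rw [one_mul]
      exact congrArg Subtype.val h1
    · have h1 : e1 * e2 = 1 := Subtype.ext h
      rw [← inv_eq_of_mul_eq_one_right h1]
      exact (inv_eq_of_mul_eq_one_right (by rw [← pow_two, ← ho1, pow_orderOf_eq_one])).symm
  have hU2 : IsPGroup 2 U := T.2.to_le hUT
  haveI : IsMulCommutative U := ⟨⟨fun a b => Subtype.ext (hUcomm _ a.2 _ b.2)⟩⟩
  haveI : IsCyclic U := by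
    have hone : ∀ A : Subgroup U, Nat.card A = 2 → ∃ a : U, orderOf (a : C u) = 2 ∧ A = zpowers a := fun A hA => by
      obtain ⟨a, ha, hao, -, -⟩ := exists_mem_prime Nat.prime_two (hA.symm ▸ dvd_rfl : 2 ∣ Nat.card A)
      exact ⟨a, by rw [orderOf_coe, hao],
        (eq_of_le_of_card_ge (zpowers_le.2 ha) (by rw [Nat.card_zpowers, hao, hA])).symm⟩
    haveI : IsMulCommutative (⊤ : Subgroup U) := ⟨⟨fun a b => Subtype.ext (mul_comm' a.1 b.1)⟩⟩
    haveI := CfsgLib.Core.UniqueOrderP.isCyclic_of_unique hU2 (fun A B hA hB => by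
      obtain ⟨a, ha, rfl⟩ := hone A hA
      obtain ⟨b, hb, rfl⟩ := hone B hB
      rw [show a = b from Subtype.ext (huniq _ a.2 _ b.2 ha hb)]) (⊤ : Subgroup U)
    exact isCyclic_of_surjective (topEquiv (G := U)).toMonoidHom (topEquiv (G := U)).surjective
  set U' := U.subgroupOf (T : Subgroup (C u)) with hU'
  haveI : IsCyclic U' := isCyclic_of_surjective (subgroupOfEquivOfLe hUT).symm.toMonoidHom
    (subgroupOfEquivOfLe hUT).symm.surjective
  obtain ⟨φ⟩ := nonempty_dihedral U' (y := ⟨y, hyT⟩) hyU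
    (fun t ht => Subtype.ext (hout t t.2 ht)) (fun a b ha hb => htwo a a.2 b b.2 ha hb)
  obtain ⟨e⟩ : Nonempty ((S : Subgroup G) ≃* (T : Subgroup (C u))) :=
    ⟨(MulEquiv.subgroupCongr hTS).trans (equivMapOfInjective (T : Subgroup (C u)) _ (subtype_injective _)).symm⟩
  refine ⟨S, Nat.card U', ?_, ⟨e.trans φ⟩⟩
  by_contra h
  have hone : ∀ t ∈ (T : Subgroup (C u)), t * t = 1 := fun t ht => by
    by_cases htU : t ∈ U
    · have hb : U' = ⊥ := eq_bot_of_card_le U' (by omega)
      have : (⟨t, ht⟩ : (T : Subgroup (C u))) ∈ U' := htU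
      rw [hb, mem_bot] at this
      rw [show t = 1 from congrArg Subtype.val this, one_mul]
    · exact hout t ht htU
  have h' : ∀ x : (S : Subgroup G), x⁻¹ = x := fun x => by
    refine inv_eq_of_mul_eq_one_right (e.injective ?_)
    rw [map_mul, map_one]
    exact Subtype.ext (hone _ (e x).2)
  exact hS S ⟨⟨fun a b => by rw [← h' (a * b), mul_inv_rev, h' a, h' b]⟩⟩

end CfsgLib.Recog.RankFour
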