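import Cfsg.Agent.Lib.Recog.RankFour.Engine

/-!
# An involution of even size with a 2-complement

Such an involution does not exist when every involution of odd size has a split centraliser.
-/

set_option autoImplicit false
set_option linter.all false

namespace CfsgLib.Recog.RankFour

open Subgroup
open CfsgLib.Recog.ClassSizesPSL (cI cC IsREl)

variable {G : Type*} [Group G] [Finite G]

theorem odd_not_dvd_two_pow {l : ℕ} (hl : l.Prime) (hl2 : l ≠ 2) (i : ℕ) : ¬ l ∣ 2 ^ i := fun h =>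
  hl2 ((Nat.prime_dvd_prime_iff_eq hl Nat.prime_two).1 (hl.dvd_of_dvd_pow h))

theorem coprime_two_of_sylow_le (S : Sylow 2 G) [Fact (Nat.Prime 2)] {x : G} (h : (S : Subgroup G) ≤ C x) :
    ¬ 2 ∣ cI x := fun hd => S.not_dvd_index (hd.trans (index_dvd_of_le h))

/-- Two different sizes of complemented involutions and their upper sizes are four different numbers. -/
theorem Compl.distinct {u r : G} {k l : ℕ} (K : Compl G u k) (L : Compl G r l) (hne : cI r ≠ cI u) :
    cI u * k ≠ cI u ∧ cI r * l ≠ cI r ∧ cI u * k ≠ cI r ∧ cI r * l ≠ cI u ∧ cI u * k ≠ cI r * l := by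
  have ha := RankThree.cI_pos u
  have hc := RankThree.cI_pos r
  have h1 : cI u * k ≠ cI u := fun h => K.k1 (Nat.eq_of_mul_eq_mul_left ha (h.trans (mul_one _).symm))
  have h2 : cI r * l ≠ cI r := fun h => L.k1 (Nat.eq_of_mul_eq_mul_left hc (h.trans (mul_one _).symm))
  refine ⟨h1, h2, fun h => ?_, fun h => ?_, fun h => ?_⟩
  · obtain ⟨z, hz, hzv⟩ := L.val
    exact h2 (hzv.symm.trans (K.max z hz ⟨l, by rw [hzv, h]⟩) |>.trans h)
  · obtain ⟨z, hz, hzv⟩ := K.val
    exact h1 (hzv.symm.trans (L.max z hz ⟨k, by rw [hzv, h]⟩) |>.trans h)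
  · obtain ⟨i, hi⟩ := K.pow
    obtain ⟨j, hj⟩ := L.pow
    rcases le_total i j with hij | hij
    · have hdvd : cI r ∣ cI u := by
        refine ⟨2 ^ (j - i), Nat.eq_of_mul_eq_mul_right (show 0 < 2 ^ i by positivity) ?_⟩
        rw [← hi, h, hj, mul_assoc, hi, ← pow_add, Nat.sub_add_cancel hij]
      rcases L.upper u (invol_ne_one K.inv) hdvd with e | e
      · exact hne e.symm
      · exact h1 (h.trans e.symm)
    · have hdvd : cI u ∣ cI r := by
        refine ⟨2 ^ (i - j), Nat.eq_of_mul_eq_mul_right (show 0 < 2 ^ j by positivity) ?_⟩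
        rw [← hj, ← h, hi, mul_assoc, hj, ← pow_add, Nat.sub_add_cancel hij]
      rcases K.upper r (invol_ne_one L.inv) hdvd with e | e
      · exact hne e
      · exact h2 (h.symm.trans e.symm)

variable [IsSimpleGroup G] (F : Four G) (hA : ∀ r : G, orderOf r = 2 → ¬ 2 ∣ cI r → IsSplit r)
include F hA

/-- Involutions of odd size have 2-group centralisers. -/
theorem odd_trivial {u : G} {k : ℕ} (K : Compl G u k) {r : G} (hr : orderOf r = 2) (hodd : ¬ 2 ∣ cI r) {w : G}
    (hw : Commute w r) (hwc : (orderOf w).Coprime 2) : w = 1 := by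
  haveI : Fact (Nat.Prime 2) := ⟨Nat.prime_two⟩
  obtain ⟨S, hSr, hrS⟩ := exists_sylow_centre hr hodd
  obtain ⟨q, hq⟩ := conj_mem_sylow ((isREl_two_invol K.inv).isPGroup_zpowers) S
  have huS : q * u * q⁻¹ ∈ (S : Subgroup G) := hq u (mem_zpowers u)
  set w' := q⁻¹ * w * q with hw'
  by_contra hw1
  have hw'1 : w' ≠ 1 := fun h => hw1 (by
    rw [show w = q * w' * q⁻¹ by rw [hw']; group, h]; group)
  have hwu : Commute w' u := by
    have h1 := hA r hr hodd w (q * u * q⁻¹) hw hwc (mem_C.1 (hSr huS)) (isREl_of_mem S.2 huS)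
    have h2 := h1.map (MulAut.conj q⁻¹).toMonoidHom
    simpa [hw', mul_assoc] using h2
  have hv : cI w' = cI w := by
    have h := ClassSizesPSL.cI_conj q⁻¹ w
    rw [inv_inv] at h
    exact h
  have hwodd : ¬ 2 ∣ cI w' := by
    rw [hv]
    refine coprime_two_of_sylow_le S fun a ha => mem_C.2 ?_
    exact (hA r hr hodd w a hw hwc (mem_C.1 (hSr ha)) (isREl_of_mem S.2 ha)).symm
  have hw'c : (orderOf w').Coprime 2 := by
    rw [hw', show q⁻¹ * w * q = q⁻¹ * w * q⁻¹⁻¹ by rw [inv_inv], CfsgLib.Signalizer.orderOf_conj]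
    exact hwc
  have hu1 := invol_ne_one K.inv
  have hdvd : cI w' ∣ cI u * k := by
    have h := cI_dvd_rI_mul Nat.prime_two (isREl_two_invol K.inv) hwu hw'c
    rcases rI_cases Nat.prime_two (isREl_two_invol K.inv) hu1 K.upper hwu hw'c with e | e
    · rw [e, one_mul] at h
      exact h.trans (dvd_mul_right _ _)
    · rwa [e] at h
  obtain ⟨i, hi⟩ := K.pow
  have hda : cI w' ∣ cI u :=
    Nat.Coprime.dvd_of_dvd_mul_right (hi ▸ ((Nat.prime_two.coprime_iff_not_dvd).2 hwodd).symm.pow_right i) hdvd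
  have hne : cI w' ≠ cI u := fun e => by
    have := hA u K.inv (e ▸ hwodd)
    obtain ⟨z, hz, hzc, hzk⟩ := K.ex
    obtain ⟨P⟩ := (inferInstance : Nonempty (Sylow 2 (C u)))
    refine P.not_dvd_index ((show 2 ∣ rI u z from ?_).trans (index_dvd_of_le fun a ha =>
      mem_subgroupOf.2 (mem_C.2 (this z (a : G) hz hzc (mem_C.1 a.2)
        (isREl_of_mem (P.2.map (C u).subtype) ⟨a, ha, rfl⟩)).symm)))
    rw [hzk, hi]
    exact dvd_pow_self 2 fun h => K.k1 (by rw [hi, h, pow_zero])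
  exact chain_false F (val_cI hw'1) (val_cI hu1) K.val hda (dvd_mul_right _ _) hne
    fun h => K.k1 (Nat.eq_of_mul_eq_mul_left (RankThree.cI_pos u) (h.symm.trans (mul_one _).symm))

/-- A nontrivial 2-element with a 2-group centraliser has odd size. -/
theorem central_of_trivial (S : Sylow 2 G) {u : G} {k : ℕ} (K : Compl G u k) {x : G} (hx1 : x ≠ 1)
    (hx : ∀ w, Commute w x → (orderOf w).Coprime 2 → w = 1) : cI x = (S : Subgroup G).index := by
  haveI : Fact (Nat.Prime 2) := ⟨Nat.prime_two⟩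
  set a0 := (S : Subgroup G).index with ha0
  have hu1 := invol_ne_one K.inv
  obtain ⟨i, hi⟩ := K.pow
  have hcard : ∀ y : G, (∀ w, Commute w y → (orderOf w).Coprime 2 → w = 1) → a0 ∣ cI y := fun y hy => by
    obtain ⟨n, hn⟩ : ∃ n, Nat.card (C y) = 2 ^ n := eq_of_primes Nat.card_pos.ne' fun l hl hld => by
      by_contra hl2
      obtain ⟨g, hg, -, hgl, hg1⟩ := exists_mem_prime hl hld
      exact hg1 (hy g (mem_C.1 hg) (coprime_of_rEl Nat.prime_two hl hl2 hgl))
    have hd : Nat.card (C y) ∣ Nat.card (S : Subgroup G) :=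
      hn ▸ S.pow_dvd_card_of_pow_dvd_card (hn ▸ (C y).card_subgroup_dvd_card)
    refine (Nat.mul_dvd_mul_iff_left (Nat.card_pos (α := C y))).1 ?_
    rw [(C y).card_mul_index, ← (S : Subgroup G).card_mul_index]
    exact mul_dvd_mul_right hd a0
  have hodd0 : ¬ 2 ∣ a0 := S.not_dvd_index
  obtain ⟨u0, hu0, -, hSu0⟩ := exists_central_invol S (two_dvd_card F.na)
  have hu0odd := coprime_two_of_sylow_le S hSu0
  have hv0 : cI u0 = a0 := Nat.dvd_antisymm (index_dvd_of_le hSu0)
    (hcard u0 fun w hw hwc => odd_trivial F hA K hu0 hu0odd hw hwc)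
  obtain ⟨l, hl, hla, hl2⟩ := exists_prime_ne (RankThree.cI_pos u).ne' (fun i => RankThree.not_prime_pow F.na hu1 Nat.prime_two i)
  have hla0 : l ∣ a0 := by
    have h := hla.trans (dvd_card (val_cI hu1))
    rw [← (S : Subgroup G).card_mul_index] at h
    obtain ⟨n, hn⟩ := IsPGroup.iff_card.1 S.2
    rw [hn] at h
    exact (hl.dvd_mul.1 h).resolve_left (odd_not_dvd_two_pow hl hl2 n)
  have hnau : ¬ a0 ∣ cI u := by
    intro hd
    obtain ⟨z, hz, hzc, hzk⟩ := K.ex
    have hz1 : z = 1 := by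
      refine orderOf_eq_one_iff.1 ?_
      have h1 : Nat.card (C u) ∣ Nat.card (S : Subgroup G) := by
        refine (Nat.mul_dvd_mul_iff_right (RankThree.cI_pos u)).1 ?_
        rw [show Nat.card (C u) * cI u = Nat.card G from (C u).card_mul_index, ← (S : Subgroup G).card_mul_index]
        exact mul_dvd_mul_left _ hd
      obtain ⟨n, hn⟩ := IsPGroup.iff_card.1 S.2
      exact Nat.eq_one_of_dvd_coprimes (hzc.pow_right n) dvd_rfl
        (hn ▸ (orderOf_dvd_natCard (C u) (mem_C.2 hz)).trans h1)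
    rw [hz1, show rI u (1 : G) = 1 from rI_eq_one_iff.2 fun g _ => mem_C.2 (Commute.one_right g)] at hzk
    exact K.k1 hzk.symm
  by_contra hne
  have hxd := hcard x hx
  have h1 : cI x ≠ cI u := fun e => hnau (e ▸ hxd)
  have h2 : cI x ≠ cI u * k := fun e => hnau (Nat.Coprime.dvd_of_dvd_mul_right
    (hi ▸ ((Nat.prime_two.coprime_iff_not_dvd).2 hodd0).symm.pow_right i) (e ▸ hxd))
  have h3 : a0 ≠ cI u := fun e => hnau (e ▸ dvd_rfl)
  have h4 : a0 ≠ cI u * k := fun e => hodd0 (e ▸ dvd_mul_of_dvd_right (hi ▸ dvd_pow_self 2 fun h => K.k1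
    (by rw [hi, h, pow_zero])) _)
  have h5 : cI u ≠ cI u * k := fun e => K.k1 (Nat.eq_of_mul_eq_mul_left (RankThree.cI_pos u)
    (e.symm.trans (mul_one _).symm))
  obtain ⟨f, -, hf0, hfu, hfd, hval⟩ := F.fourth (hv0 ▸ val_cI (invol_ne_one hu0)) (val_cI hu1) K.val h3 h4 h5
  obtain ⟨z, hz, hzl⟩ := RankThree.exists_not_dvd hl (hla.trans (dvd_card (val_cI hu1)))
  have hxf : cI x = f := by
    rcases hval x hx1 with e | e | e | e
    exacts [absurd e hne, absurd e h1, absurd e h2, e]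
  rcases hval z hz with e | e | e | e <;> rw [e] at hzl
  · exact hzl hla0
  · exact hzl hla
  · exact hzl (hla.trans (dvd_mul_right _ _))
  · exact hzl (hla0.trans (hxf ▸ hxd))

/-- An element that is not an involution commutes with an element of odd order. -/
theorem exists_odd {u : G} {k : ℕ} (K : Compl G u k) {t : G} (ht : IsREl 2 t) (ht2 : t * t ≠ 1) :
    ∃ z, Commute z t ∧ (orderOf z).Coprime 2 ∧ z ≠ 1 := by
  haveI : Fact (Nat.Prime 2) := ⟨Nat.prime_two⟩
  by_contra hcon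
  push Not at hcon
  have ht1 : t ≠ 1 := fun h => ht2 (by rw [h, one_mul])
  obtain ⟨S⟩ := (inferInstance : Nonempty (Sylow 2 G))
  have hvt := central_of_trivial F hA S K ht1 hcon
  obtain ⟨P, hP⟩ := ClassSizesPSL.exists_sylow_le (r := 2) (H := C t) (by
    show ¬ 2 ∣ cI t
    rw [hvt]; exact S.not_dvd_index)
  obtain ⟨q, hq⟩ := conj_mem_sylow ((isREl_two_invol K.inv).isPGroup_zpowers) P
  set s := q⁻¹ * t * q with hs
  have hsu : Commute u s := by
    have h2 := (mem_C.1 (hP (hq u (mem_zpowers u)))).map (MulAut.conj q⁻¹).toMonoidHom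
    simpa [hs, mul_assoc] using h2
  have hsconj : ∀ y, q * y * q⁻¹ = 1 → y = 1 := fun y h => conj_eq_one_iff.1 h
  have hstriv : ∀ w, Commute w s → (orderOf w).Coprime 2 → w = 1 := fun w hw hwc => hsconj w (hcon _ (by
    have h := hw.map (MulAut.conj q).toMonoidHom
    simpa [hs, mul_assoc] using h) (by rw [CfsgLib.Signalizer.orderOf_conj]; exact hwc))
  have hs2 : s * s ≠ 1 := fun h => ht2 (by
    rw [show t * t = q * (s * s) * q⁻¹ by rw [hs]; group, h]; group)
  have hs1 : s ≠ 1 := fun h => hs2 (by rw [h, one_mul])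
  have hsR : IsREl 2 s := by
    have h := ht.conj q⁻¹
    rwa [inv_inv] at h
  have hvs := central_of_trivial F hA S K hs1 hstriv
  obtain ⟨r, hr, hrs⟩ : ∃ r, r ∈ zpowers (s * s) ∧ orderOf r = 2 := by
    obtain ⟨n, hn⟩ := IsPGroup.iff_card.1
      ((hsR.isPGroup_zpowers).to_le (zpowers_le.2 (mul_mem (mem_zpowers s) (mem_zpowers s)) :
        zpowers (s * s) ≤ zpowers s))
    have h2 : 2 ∣ Nat.card (zpowers (s * s)) := by
      rw [hn]
      refine dvd_pow_self 2 fun h0 => hs2 ?_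
      rw [h0, pow_zero, Nat.card_zpowers, orderOf_eq_one_iff] at hn
      exact hn
    obtain ⟨g, hg, hgo, -, -⟩ := exists_mem_prime Nat.prime_two h2
    exact ⟨g, hg, hgo⟩
  have hss : s * s ∈ zpowers s := mul_mem (mem_zpowers s) (mem_zpowers s)
  have hr2 : ¬ 2 ∣ cI r := fun hd => (hvs ▸ S.not_dvd_index : ¬ 2 ∣ cI s)
    (hd.trans (ClassSizesPSL.cI_dvd (ClassSizes.TwoSizes.centralizer_le_of_mem ((zpowers_le.2 hss) hr))))
  have hsstriv : ∀ w, Commute w (s * s) → (orderOf w).Coprime 2 → w = 1 := fun w hw hwc =>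
    odd_trivial F hA K hrs hr2 (mem_C.1 (ClassSizes.TwoSizes.centralizer_le_of_mem hr (mem_C.2 hw))) hwc
  have hCss : C s = C (s * s) := ClassSizesPSL.eq_of_le_of_cI_eq
    (ClassSizes.TwoSizes.centralizer_le_of_mem hss)
    (hvs.trans (central_of_trivial F hA S K hs2 hsstriv).symm)
  have huu : u * u = 1 := by rw [← pow_two, ← K.inv, pow_orderOf_eq_one]
  set w := u * s with hw
  have hww : w * w = s * s := by
    calc u * s * (u * s) = u * (s * u) * s := by group
      _ = u * (u * s) * s := by rw [hsu.eq]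
      _ = u * u * (s * s) := by group
      _ = s * s := by rw [huu, one_mul]
  have hw1 : w ≠ 1 := fun h => hs2 (by rw [← hww, h, one_mul])
  have hle : C w ≤ C s := by
    rw [hCss, ← hww]
    exact ClassSizes.TwoSizes.centralizer_le_of_mem (mul_mem (mem_zpowers w) (mem_zpowers w))
  have hvw := central_of_trivial F hA S K hw1 fun g hg hgc => hstriv g (mem_C.1 (hle (mem_C.2 hg))) hgc
  have hCw : C w = C s := ClassSizesPSL.eq_of_le_of_cI_eq hle (hvw.trans hvs.symm)
  have hCu : C s ≤ C u := fun g hg => by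
    refine mem_C.2 ?_
    rw [show u = w * s⁻¹ by rw [hw, mul_inv_cancel_right]]
    exact (mem_C.1 (hCw.symm ▸ hg : g ∈ C w)).mul_right (mem_C.1 hg).inv_right
  obtain ⟨z, hz, hzc, hzk⟩ := K.ex
  have hodd : ¬ 2 ∣ cI u := fun hd => (hvs ▸ S.not_dvd_index : ¬ 2 ∣ cI s) (hd.trans (ClassSizesPSL.cI_dvd hCu))
  have hz1 := odd_trivial F hA K K.inv hodd hz hzc
  rw [hz1, show rI u (1 : G) = 1 from rI_eq_one_iff.2 fun g _ => mem_C.2 (Commute.one_right g)] at hzk
  exact K.k1 hzk.symm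

/-- The involution powers of an element that is not an involution are complemented, of the same size. -/
theorem compl_of_root {u : G} {k : ℕ} (K : Compl G u k) {t r : G} (ht : IsREl 2 t) (ht2 : t * t ≠ 1)
    (hr : orderOf r = 2) (hrt : r ∈ zpowers t) : ∃ l, Compl G r l ∧ cI r = cI u := by
  haveI : Fact (Nat.Prime 2) := ⟨Nat.prime_two⟩
  obtain ⟨z, hzt, hzc, hz1⟩ := exists_odd F hA K ht ht2
  have hzr : Commute z r := mem_C.1 (ClassSizes.TwoSizes.centralizer_le_of_mem hrt (mem_C.2 hzt))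
  rcases kinds F hr with hsp | ⟨l, L⟩
  · exfalso
    obtain ⟨P, O, -, -, hP, -, -, hcomm, hmP, hmO⟩ := hsp.exists_parts
    obtain ⟨S, hS⟩ := hP.exists_le_sylow
    obtain ⟨u0, hu0, -, hSu0⟩ := exists_central_invol S (two_dvd_card F.na)
    have hru0 : Commute u0 r := (mem_C.1 (hSu0 (hS (hmP r (mem_C_self r) (isREl_two_invol hr))))).symm
    exact hz1 (odd_trivial F hA K hu0 (coprime_two_of_sylow_le S hSu0)
      (hsp z u0 hzr hzc hru0 (isREl_two_invol hu0)) hzc)
  refine ⟨l, L, ?_⟩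
  by_contra hne
  obtain ⟨h1, h2, h3, h4, h5⟩ := K.distinct L hne
  obtain ⟨S⟩ := (inferInstance : Nonempty (Sylow 2 G))
  obtain ⟨u0, hu0, -, hSu0⟩ := exists_central_invol S (two_dvd_card F.na)
  have hodd0 := coprime_two_of_sylow_le S hSu0
  have hzero : ∀ {x : G} {m : ℕ}, Compl G x m → cI u0 ≠ cI x ∧ cI u0 ≠ cI x * m := fun {x m} X => by
    obtain ⟨i, hi⟩ := X.pow
    refine ⟨fun e => ?_, fun e => hodd0 (e ▸ dvd_mul_of_dvd_right (hi ▸ dvd_pow_self 2 fun h => X.k1
      (by rw [hi, h, pow_zero])) _)⟩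
    obtain ⟨y, hy, hyc, hyk⟩ := X.ex
    rw [odd_trivial F hA K X.inv (e ▸ hodd0) hy hyc,
      show rI x (1 : G) = 1 from rI_eq_one_iff.2 fun g _ => mem_C.2 (Commute.one_right g)] at hyk
    exact X.k1 hyk.symm
  obtain ⟨f, -, -, -, -, hval⟩ := F.fourth (val_cI (invol_ne_one hu0)) (val_cI (invol_ne_one K.inv)) K.val
    (hzero K).1 (hzero K).2 h1.symm
  obtain ⟨y, hy, hyv⟩ := L.val
  have e1 : cI r = f := by
    rcases hval r (invol_ne_one hr) with e | e | e | e
    exacts [absurd e.symm (hzero L).1, absurd e hne, absurd e.symm h3, e]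
  rcases hval y hy with e | e | e | e <;> rw [hyv] at e
  exacts [(hzero L).2 e.symm, h4 e, h5 e.symm, h2 (e.trans e1.symm)]

/-- No involution with a 2-complement when those of odd size are split. -/
theorem caseB {u : G} {k : ℕ} (K : Compl G u k) (hS : ∀ S : Sylow 2 G, ¬ IsMulCommutative (S : Subgroup G)) :
    False := by
  haveI : Fact (Nat.Prime 2) := ⟨Nat.prime_two⟩
  obtain ⟨S⟩ := (inferInstance : Nonempty (Sylow 2 G))
  obtain ⟨t, ht, ht2⟩ : ∃ t ∈ (S : Subgroup G), t * t ≠ 1 := by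
    by_contra hcon
    push Not at hcon
    refine hS S ⟨⟨fun a b => Subtype.ext ?_⟩⟩
    have ha := inv_eq_of_mul_eq_one_right (hcon _ a.2)
    have hb := inv_eq_of_mul_eq_one_right (hcon _ b.2)
    have hab := inv_eq_of_mul_eq_one_right (hcon _ (mul_mem a.2 b.2))
    rw [mul_inv_rev, ha, hb] at hab
    exact hab.symm
  have htR := isREl_of_mem S.2 ht
  obtain ⟨r, hr, hrt⟩ : ∃ r, r ∈ zpowers t ∧ orderOf r = 2 := by
    have h2 : 2 ∣ Nat.card (zpowers t) := by
      rw [Nat.card_zpowers]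
      exact dvd_orderOf Nat.prime_two htR fun h => ht2 (by rw [h, one_mul])
    obtain ⟨g, hg, hgo, -, -⟩ := exists_mem_prime Nat.prime_two h2
    exact ⟨g, hg, hgo⟩
  obtain ⟨l, L, -⟩ := compl_of_root F hA K htR ht2 hrt hr
  have htX : t ∈ C r := mem_C.2 (by
    obtain ⟨i, rfl⟩ := mem_zpowers_iff.1 hr
    exact (Commute.refl t).zpow_right i)
  obtain ⟨T, hT⟩ := ((htR.isPGroup_zpowers).comap_subtype : IsPGroup 2 ((zpowers t).subgroupOf (C r))).exists_le_sylow
  have htT : (⟨t, htX⟩ : C r) ∈ (T : Subgroup (C r)) := hT (mem_zpowers t)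
  obtain ⟨H, hHC, hcomm, hodd, i, hi⟩ := L.compl
  have hcT : ∀ x ∈ (T : Subgroup (C r)), IsREl 2 (x : G) := fun x hx => isREl_of_mem (T.2.map (C r).subtype) ⟨x, hx, rfl⟩
  rcases exponent_or_normal L.solvable (H.subgroupOf (C r))
      (fun a ha b hb => Subtype.ext (hcomm _ ha _ hb))
      (by rwa [Nat.card_congr (subgroupOfEquivOfLe hHC).toEquiv]) hi T (fun x hx hx2 => by
        rw [cent_subtype]
        refine full_odd L (hcT x hx) (mem_C.1 x.2) (fun h => hx2 (Subtype.ext h)) fun r' hr' hr'x => ?_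
        obtain ⟨l', -, he⟩ := compl_of_root F hA L (hcT x hx) (fun h => hx2 (Subtype.ext h)) hr' hr'x
        rw [he]) with hexp | ⟨hn, hcen⟩
  · exact ht2 (congrArg Subtype.val (hexp _ htT))
  -- a central involution of a Sylow 2-subgroup
  obtain ⟨S', hS'⟩ := (T.2.map (C r).subtype).exists_le_sylow
  obtain ⟨u0, hu0, -, hSu0⟩ := exists_central_invol S' (two_dvd_card F.na)
  have hru : (⟨r, mem_C_self r⟩ : C r) ∈ (T : Subgroup (C r)) := by
    have : r ∈ zpowers t := hr
    obtain ⟨j, hj⟩ := mem_zpowers_iff.1 this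
    have h : (⟨r, mem_C_self r⟩ : C r) = ⟨t, htX⟩ ^ j := Subtype.ext (by simpa using hj.symm)
    rw [h]; exact zpow_mem htT j
  have hu0X : u0 ∈ C r := mem_C.2 (mem_C.1 (hSu0 (hS' ⟨_, hru, rfl⟩))).symm
  set v : C r := ⟨u0, hu0X⟩
  have hvT : v ∈ (T : Subgroup (C r)) := by
    have hn2 : zpowers v ≤ normalizer ((T : Subgroup (C r)) : Set (C r)) := by
      rw [zpowers_le, mem_normalizer_iff]
      intro a
      have key : ∀ b ∈ (T : Subgroup (C r)), v * b * v⁻¹ = b := fun b hb => by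
        have h : Commute v b := Subtype.ext (mem_C.1 (hSu0 (hS' ⟨b, hb, rfl⟩))).symm
        rw [h.eq, mul_inv_cancel_right]
      refine ⟨fun ha => by rwa [key a ha], fun ha => ?_⟩
      have h' := key _ ha
      have h'' : v * a * v⁻¹ = a := mul_left_cancel (mul_right_cancel h')
      rwa [h''] at ha
    have hp : IsPGroup 2 ↥(zpowers v ⊔ (T : Subgroup (C r))) :=
      (IsREl.isPGroup_zpowers (r := 2) ⟨1, Subtype.ext (by simpa using (show u0 ^ 2 = 1 by rw [← hu0, pow_orderOf_eq_one]))⟩).to_sup_of_normal_right' T.2 hn2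
    exact T.3 hp le_sup_right ▸ mem_sup_left (mem_zpowers v)
  obtain ⟨z, hz, hzc, hzk⟩ := L.ex
  have hzH : (⟨z, mem_C.2 hz⟩ : C r) ∈ H.subgroupOf (C r) := by
    haveI := hn
    have hm := (H.subgroupOf (C r)).pow_index_mem ⟨z, mem_C.2 hz⟩
    have hco : (orderOf (⟨z, mem_C.2 hz⟩ : C r)).Coprime (H.subgroupOf (C r)).index := by
      rw [show (H.subgroupOf (C r)).index = 2 ^ i from hi, orderOf_mk]
      exact hzc.pow_right i
    obtain ⟨m, hm'⟩ := exists_pow_eq_self_of_coprime hco.symm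
    exact hm' ▸ pow_mem hm m
  have hvt : Commute v (⟨t, htX⟩ : C r) := Subtype.ext (mem_C.1 (hSu0 (hS' ⟨_, htT, rfl⟩))).symm
  have h1 := hcen _ htT (fun h => ht2 (congrArg Subtype.val h)) _ hzH
  have hv2 : v * v = 1 := Subtype.ext (show u0 * u0 = 1 by rw [← pow_two, ← hu0, pow_orderOf_eq_one])
  have h2 := hcen _ (mul_mem hvT htT) (fun h => ht2 (congrArg Subtype.val (show (⟨t, htX⟩ : C r) * ⟨t, htX⟩ = 1 by
    rw [hvt.symm.mul_mul_mul_comm, hv2, one_mul] at h; exact h))) _ hzH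
  have h3 : Commute (z : G) u0 := by
    have h4 := (h2.mul_right h1.inv_right).map (C r).subtype
    simpa [v] using h4
  rw [odd_trivial F hA L hu0 (coprime_two_of_sylow_le S' hSu0) h3 hzc,
    show rI r (1 : G) = 1 from rI_eq_one_iff.2 fun g _ => mem_C.2 (Commute.one_right g)] at hzk
  exact L.k1 hzk.symm

end CfsgLib.Recog.RankFour
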