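import Cfsg.Agent.Lib.Recog.RankFour.CaseB
import Cfsg.Agent.Lib.CIT.CN

/-!
# All involution centralisers split

A group with nonabelian Sylow 2-subgroups and only split involution centralisers is a CIT group.
-/

set_option autoImplicit false
set_option linter.all false

namespace CfsgLib.Recog.RankFour

open Subgroup
open CfsgLib.Recog.ClassSizesPSL (cI cC IsREl)
open CfsgLib.CIT (Embedded CIT)

variable {G : Type*} [Group G] [Finite G]

/-- A normal subgroup of odd index contains the 2-elements. -/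
theorem mem_of_normal_odd {M C : Subgroup G} (hn : (C.subgroupOf M).Normal) (hodd : ¬ 2 ∣ C.relIndex M)
    {r : G} (hr : IsREl 2 r) (hrM : r ∈ M) : r ∈ C := by
  haveI := hn
  have hm := (C.subgroupOf M).pow_index_mem ⟨r, hrM⟩
  obtain ⟨j, hj⟩ := hr.orderOf_eq Nat.prime_two
  have hco : (orderOf (⟨r, hrM⟩ : M)).Coprime (C.subgroupOf M).index := by
    rw [orderOf_mk, hj]
    exact ((Nat.prime_two.coprime_iff_not_dvd).2 hodd).pow_left j
  obtain ⟨m, hm'⟩ := exists_pow_eq_self_of_coprime hco.symm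
  have : (⟨r, hrM⟩ : M) ∈ C.subgroupOf M := hm' ▸ pow_mem hm m
  exact this

variable [IsSimpleGroup G] (F : Four G)
include F

theorem caseC (hall : ∀ r : G, orderOf r = 2 → IsSplit r)
    (hS : ∀ S : Sylow 2 G, ¬ IsMulCommutative (S : Subgroup G)) : CIT G := by
  classical
  haveI : Fact (Nat.Prime 2) := ⟨Nat.prime_two⟩
  have hswap : ∀ {r t z : G}, orderOf r = 2 → orderOf t = 2 → Commute r t → (orderOf z).Coprime 2 →
      Commute z r → Commute z t := fun hr ht hrt hz hzr => hall _ hr _ _ hzr hz hrt.symm (isREl_two_invol ht)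
  -- a 2-element of even size
  obtain ⟨x, hxR, hxev⟩ : ∃ x : G, IsREl 2 x ∧ 2 ∣ cI x := by
    by_contra hcon
    push Not at hcon
    obtain ⟨S⟩ := (inferInstance : Nonempty (Sylow 2 G))
    exact hS S (Cfsg.Agent.S4355.result (fun x ⟨k, hk⟩ => hcon x (ClassSizesPSL.isREl_of_orderOf hk)) S)
  obtain ⟨S, hxS'⟩ := hxR.isPGroup_zpowers.exists_le_sylow
  have hxS : x ∈ (S : Subgroup G) := hxS' (mem_zpowers x)
  obtain ⟨u, hu, huS, hSu⟩ := exists_central_invol S (two_dvd_card F.na)
  have hodd := coprime_two_of_sylow_le S hSu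
  have hu1 := invol_ne_one hu
  have hx1 : x ≠ 1 := fun h => by
    have h1 := (ClassSizesPSL.cI_eq_one_iff (x := x)).2 (h ▸ one_mem _)
    omega
  obtain ⟨r, hrx, hr⟩ : ∃ r, r ∈ zpowers x ∧ orderOf r = 2 := by
    have h2 : 2 ∣ Nat.card (zpowers x) := by
      rw [Nat.card_zpowers]; exact dvd_orderOf Nat.prime_two hxR hx1
    obtain ⟨g, hg, hgo, -, -⟩ := exists_mem_prime Nat.prime_two h2
    exact ⟨g, hg, hgo⟩
  have hru : Commute r u := mem_C.1 (hSu (hxS' hrx))
  obtain ⟨P, O, -, hOC, hP, hO, hcard, -, -, hmO⟩ := (hall u hu).exists_parts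
  have hOodd : ∀ z ∈ O, (orderOf z).Coprime 2 := fun z hz =>
    ((Nat.prime_two.coprime_iff_not_dvd).2 hO).symm.coprime_dvd_left (orderOf_dvd_natCard O hz)
  have hxr : Commute x r := by
    obtain ⟨i, rfl⟩ := mem_zpowers_iff.1 hrx
    exact (Commute.refl x).zpow_right i
  have hOx : O ≤ C x := fun z hz => mem_C.2
    (hall r hr z x (hswap hu hr hru.symm (hOodd z hz) (mem_C.1 (hOC hz))) (hOodd z hz) hxr hxR)
  obtain ⟨m, hm⟩ : ∃ m, O.relIndex (C x) = 2 ^ m := by
    refine eq_of_primes index_ne_zero_of_finite fun l hl hld => ?_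
    by_contra hl2
    haveI := Fact.mk hl
    obtain ⟨Q⟩ := (inferInstance : Nonempty (Sylow l (C x)))
    refine Q.not_dvd_index (hld.trans (index_dvd_of_le fun a ha => ?_))
    have hal : IsREl l (a : G) := isREl_of_mem (Q.2.map (C x).subtype) ⟨a, ha, rfl⟩
    have hac := coprime_of_rEl Nat.prime_two hl hl2 hal
    exact mem_subgroupOf.2 (hmO _ (mem_C.2 (hswap hr hu hru hac
      (mem_C.1 (ClassSizes.TwoSizes.centralizer_le_of_mem hrx a.2)))) hac)
  obtain ⟨n, hn⟩ : ∃ n, O.relIndex (C u) = 2 ^ n := by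
    obtain ⟨n, hn⟩ := IsPGroup.iff_card.1 hP
    refine ⟨n, Nat.eq_of_mul_eq_mul_left (Nat.card_pos (α := O)) ?_⟩
    rw [← hn, mul_comm (Nat.card O) (Nat.card P), hcard, ← relIndex_bot_left O,
      relIndex_mul_relIndex _ _ _ bot_le hOC, relIndex_bot_left]
  have heq : 2 ^ m * cI x = 2 ^ n * cI u := by
    rw [← hm, ← hn]
    exact (relIndex_mul_index hOx).trans (relIndex_mul_index hOC).symm
  obtain ⟨j, hj0, hj⟩ : ∃ j, 0 < j ∧ cI x = 2 ^ j * cI u := by
    rcases Nat.lt_or_ge m n with h | h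
    · refine ⟨n - m, by omega, Nat.eq_of_mul_eq_mul_left (show 0 < 2 ^ m by positivity) ?_⟩
      rw [heq, ← mul_assoc, ← pow_add, Nat.add_sub_cancel' h.le]
    · exfalso
      have h1 : 2 ^ (m - n) * cI x = cI u := by
        refine Nat.eq_of_mul_eq_mul_left (show 0 < 2 ^ n by positivity) ?_
        rw [← heq, ← mul_assoc, ← pow_add, Nat.add_sub_cancel' h]
      exact hodd (h1 ▸ dvd_mul_of_dvd_right hxev _)
  have hne : cI x ≠ cI u := fun e => hodd (e ▸ hxev)
  have hdvd : cI u ∣ cI x := hj ▸ dvd_mul_left _ _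
  have hup := upper_of_multiple F (val_cI hu1) (val_cI hx1) hdvd hne
  -- the odd elements of `C(u)` have that centraliser
  have hcent : ∀ w : G, Commute w u → (orderOf w).Coprime 2 → w ≠ 1 → C w = C u := by
    intro w hw hwc hw1
    have hle : C u ≤ C w := by
      rw [← rI_eq_one_iff]
      rcases rI_cases Nat.prime_two (isREl_two_invol hu) hu1 hup hw hwc with h | h
      · exact h
      exfalso
      rw [hj] at h
      have h' := Nat.eq_of_mul_eq_mul_right (RankThree.cI_pos u) h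
      have hSw : (S : Subgroup G) ≤ C w := fun a ha =>
        mem_C.2 (hall u hu w a hw hwc (mem_C.1 (hSu ha)) (isREl_of_mem S.2 ha)).symm
      refine S.not_dvd_index ((show 2 ∣ rI u w from h' ▸ dvd_pow_self 2 hj0.ne').trans
        ((relIndex_dvd_of_le_left _ hSw).trans ?_))
      exact ⟨_, (relIndex_mul_index hSu).symm⟩
    refine (ClassSizesPSL.eq_of_le_of_cI_eq hle ?_).symm
    by_contra h
    exact chain_false F (val_cI hw1) (val_cI hu1) (val_cI hx1) (ClassSizesPSL.cI_dvd hle) hdvd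
      (fun e => h e.symm) hne.symm
  -- enough: no odd element commutes with `u`
  suffices htriv : ∀ w : G, Commute w u → (orderOf w).Coprime 2 → w = 1 by
    intro t ht
    obtain ⟨q, hq⟩ := conj_mem_sylow ((isREl_two_invol ht).isPGroup_zpowers) S
    refine IsPGroup.of_card (n := (Nat.card (C t)).factorization 2) ?_
    obtain ⟨i, hi⟩ : ∃ i, Nat.card (C t) = 2 ^ i := eq_of_primes Nat.card_pos.ne' fun l hl hld => by
      by_contra hl2
      obtain ⟨g, hg, -, hgl, hg1⟩ := exists_mem_prime hl hld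
      have hgc : (orderOf (q * g * q⁻¹)).Coprime 2 := by
        rw [CfsgLib.Signalizer.orderOf_conj]; exact coprime_of_rEl Nat.prime_two hl hl2 hgl
      have h1 := hswap (r := q * t * q⁻¹) (t := u) (z := q * g * q⁻¹)
        (by rw [CfsgLib.Signalizer.orderOf_conj, ht]) hu (mem_C.1 (hSu (hq t (mem_zpowers t)))) hgc
        ((mem_C.1 hg).map (MulAut.conj q).toMonoidHom)
      exact hg1 (conj_eq_one_iff.1 (htriv _ h1 hgc))
    show Nat.card (C t) = _
    rw [hi, Nat.Prime.factorization_pow Nat.prime_two, Finsupp.single_eq_same]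
  intro w hw hwc
  by_contra hw1
  have hCw := hcent w hw hwc hw1
  -- centralisers of elements of `C(u)`
  have hinv : ∀ t : G, Commute t u → orderOf t = 2 → C t ≤ C u := fun t ht ht2 g hg => by
    have : g ∈ C w := ClassSizes.TwoSizes.mem_of_primary _ g fun y hy l e hl hye => by
      have hyt : Commute y t := mem_C.1 ((zpowers_le.2 hg) hy)
      refine mem_C.2 ?_
      by_cases hl2 : l = 2
      · exact (hall t ht2 w y (hswap hu ht2 ht.symm hwc hw) hwc hyt
          (hl2 ▸ ClassSizesPSL.isREl_of_orderOf hye)).symm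
      · have hyc := coprime_of_rEl Nat.prime_two hl hl2 (ClassSizesPSL.isREl_of_orderOf hye)
        have hyu : y ∈ C u := mem_C.2 (hswap ht2 hu ht hyc hyt)
        rw [← hCw] at hyu
        exact mem_C.1 hyu
    exact hCw ▸ this
  set H := C u with hH
  set M := normalizer (H : Set G) with hM
  have hwH : w ∈ H := mem_C.2 hw
  have hconjC : ∀ g a : G, g * a * g⁻¹ ∈ H → Commute (g * a * g⁻¹) u := fun g a h => mem_C.1 h
  have hnorm : ∀ g : G, C (g * w * g⁻¹) = H → g ∈ M := fun g h => by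
    rw [hM, mem_normalizer_iff]
    intro a
    calc a ∈ H ↔ a ∈ C w := by rw [hCw]
      _ ↔ g * a * g⁻¹ ∈ C (g * w * g⁻¹) := by
        rw [mem_C, mem_C]
        exact ⟨fun h => h.map (MulAut.conj g).toMonoidHom,
          fun h => by simpa [mul_assoc] using h.map (MulAut.conj g⁻¹).toMonoidHom⟩
      _ ↔ g * a * g⁻¹ ∈ H := by rw [h]
  -- a nontrivial element of `H` with a conjugate in `H`
  have hti : ∀ g h : G, h ∈ H → g⁻¹ * h * g ∈ H → h ≠ 1 → g ∈ M := by
    intro g h hh hgh hh1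
    obtain ⟨l, hl, hld⟩ := Nat.exists_prime_and_dvd (fun e => hh1 (orderOf_eq_one_iff.1 e))
    obtain ⟨y, hy, hyo, hyl, hy1⟩ := exists_mem_prime hl (by rw [Nat.card_zpowers]; exact hld :
      l ∣ Nat.card (zpowers h))
    have hyH : y ∈ H := (zpowers_le.2 hh) hy
    have hyH' : g⁻¹ * y * g ∈ H := by
      obtain ⟨i, rfl⟩ := mem_zpowers_iff.1 hy
      have := zpow_mem hgh i
      rwa [show g⁻¹ * h * g = g⁻¹ * h * g⁻¹⁻¹ by rw [inv_inv], conj_zpow, inv_inv] at this
    have hyo' : orderOf (g⁻¹ * y * g) = l := by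
      rw [show g⁻¹ * y * g = g⁻¹ * y * g⁻¹⁻¹ by rw [inv_inv], CfsgLib.Signalizer.orderOf_conj, hyo]
    suffices hw' : ∃ v : G, v ∈ H ∧ g⁻¹ * v * g ∈ H ∧ (orderOf v).Coprime 2 ∧ v ≠ 1 by
      obtain ⟨v, hv, hv', hvc, hv1⟩ := hw'
      set v' := g⁻¹ * v * g with hv'def
      have e1 : C v = H := hcent v (mem_C.1 hv) hvc hv1
      have e2 : C v' = H := hcent v' (mem_C.1 hv') (by
        rw [hv'def, show g⁻¹ * v * g = g⁻¹ * v * g⁻¹⁻¹ by rw [inv_inv], CfsgLib.Signalizer.orderOf_conj]; exact hvc)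
        fun e => hv1 (by rw [show v = g * v' * g⁻¹ by rw [hv'def]; group, e]; group)
      rw [hM, mem_normalizer_iff]
      intro a
      calc a ∈ H ↔ a ∈ C v' := by rw [e2]
        _ ↔ g * a * g⁻¹ ∈ C v := by
          rw [mem_C, mem_C, show v = g * v' * g⁻¹ by rw [hv'def]; group]
          exact ⟨fun h => h.map (MulAut.conj g).toMonoidHom,
            fun h => by simpa [mul_assoc] using h.map (MulAut.conj g⁻¹).toMonoidHom⟩
        _ ↔ g * a * g⁻¹ ∈ H := by rw [e1]
    by_cases hl2 : l = 2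
    · have hy2 : orderOf y = 2 := hyo.trans hl2
      have hy2' : orderOf (g⁻¹ * y * g) = 2 := hyo'.trans hl2
      refine ⟨w, hwH, ?_, hwc, hw1⟩
      have h1 := (hswap hu hy2 (mem_C.1 hyH).symm hwc hw).map (MulAut.conj g⁻¹).toMonoidHom
      have h2 := hswap hy2' hu (mem_C.1 hyH') (z := g⁻¹ * w * g)
        (by rw [show g⁻¹ * w * g = g⁻¹ * w * g⁻¹⁻¹ by rw [inv_inv], CfsgLib.Signalizer.orderOf_conj]; exact hwc)
        (by simpa [mul_assoc] using h1)
      exact mem_C.2 h2
    · exact ⟨y, hyH, hyH', coprime_of_rEl Nat.prime_two hl hl2 hyl, hy1⟩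
  have hHM : H ≤ M := le_normalizer
  have hinvmem : ∀ t ∈ M, orderOf t = 2 → t ∈ H := fun t ht ht2 => by
    refine mem_of_normal_odd (normal_subgroupOf_of_le_normalizer (le_refl M)) ?_ (isREl_two_invol ht2) ht
    exact fun hd => hodd (hd.trans ⟨_, (relIndex_mul_index hHM).symm⟩)
  have hMtop : M ≠ ⊤ := fun e => by
    haveI : H.Normal := normalizer_eq_top_iff.1 e
    rcases (inferInstance : H.Normal).eq_bot_or_eq_top with h | h
    · exact hu1 (mem_bot.1 (h ▸ mem_C_self u))
    · exact RankThree.cI_ne_one F.na hu1 (index_eq_one.2 h)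
  have hEmb : Embedded M H := by
    refine ⟨⟨hMtop, ?_, fun g hg => ?_⟩, hHM, le_rfl, hinvmem, fun h hh h1 => ?_,
      fun g hg h hh hgh => by_contra fun h1 => hg (hti g h hh hgh h1)⟩
    · rw [even_iff_two_dvd, ← hu]
      exact orderOf_dvd_natCard M (hHM (mem_C_self u))
    · rw [← Nat.not_even_iff_odd, even_iff_two_dvd]
      intro hd
      obtain ⟨v, hv, hvo, -, hv1⟩ := exists_mem_prime Nat.prime_two hd
      obtain ⟨hvM, a, ha, hav⟩ := hv
      have hav' : g * a * g⁻¹ = v := hav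
      have hao : orderOf a = 2 := by rw [← hvo, ← hav', CfsgLib.Signalizer.orderOf_conj]
      refine hg (hti g v (hinvmem v hvM hvo) ?_ hv1)
      rw [← hav', show g⁻¹ * (g * a * g⁻¹) * g = a by group]
      exact hinvmem a ha hao
    · obtain ⟨l, hl, hld⟩ := Nat.exists_prime_and_dvd (fun e => h1 (orderOf_eq_one_iff.1 e))
      obtain ⟨y, hy, hyo, hyl, hy1⟩ := exists_mem_prime hl (by rw [Nat.card_zpowers]; exact hld :
        l ∣ Nat.card (zpowers h))
      have hyH : y ∈ H := (zpowers_le.2 hh) hy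
      refine (ClassSizes.TwoSizes.centralizer_le_of_mem hy).trans ?_
      by_cases hl2 : l = 2
      · exact hinv y (mem_C.1 hyH) (hyo.trans hl2)
      · exact (hcent y (mem_C.1 hyH) (coprime_of_rEl Nat.prime_two hl hl2 hyl) hy1).le
  obtain ⟨t, htS, ht2, htu⟩ : ∃ t ∈ (S : Subgroup G), orderOf t = 2 ∧ t ≠ u := by
    by_contra hcon
    push Not at hcon
    exact RankThree.not_isolated F.na S hu huS fun g hg =>
      hcon _ hg ((CfsgLib.Signalizer.orderOf_conj g u).trans hu)
  have htH : t ∈ H := hSu htS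
  have hfaith : FaithfulSMul G (G ⧸ M) := by
    refine ⟨fun {a b} hab => ?_⟩
    have hK : M.normalCore = ⊥ := by
      rcases (inferInstance : M.normalCore.Normal).eq_bot_or_eq_top with h | h
      · exact h
      · exact absurd (top_le_iff.1 (h ▸ normalCore_le M)) hMtop
    have hmem : b⁻¹ * a ∈ M.normalCore := by
      rw [normalCore_eq_ker, MonoidHom.mem_ker]
      ext p
      simp [mul_smul, hab p]
    rw [hK, mem_bot, inv_mul_eq_one] at hmem
    exact hmem.symm
  have hi : 2 ≤ hEmb.invCount := by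
    haveI : Nontrivial {t : G // orderOf t = 2 ∧ t ∈ M} :=
      ⟨⟨⟨u, hu, hHM (mem_C_self u)⟩, ⟨t, ht2, hHM htH⟩, fun e => htu (congrArg Subtype.val e).symm⟩⟩
    exact Finite.one_lt_card
  have h2 : IsPGroup 2 H := hEmb.isPGroup_two hi
    ⟨u, t, hHM (mem_C_self u), hHM htH, hu, ht2, fun e => htu e.symm, (mem_C.1 htH).eq.symm⟩ hfaith
  obtain ⟨i, hi⟩ := (isREl_of_mem h2 hwH).orderOf_eq Nat.prime_two
  rw [hi] at hwc
  rcases i with _ | i
  · exact hw1 (orderOf_eq_one_iff.1 (by simpa using hi))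
  · exact absurd ((Nat.coprime_pow_left_iff i.succ_pos 2 2).1 hwc) (by norm_num)

end CfsgLib.Recog.RankFour
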