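import Cfsg.Agent.Lib.Recog.RankFour.Kinds
import Cfsg.Agent.Lib.Core.SchmidtLength.Main
import Cfsg.Agent.Lib.CIT.Basic

/-!
# The centraliser of an involution with a 2-complement

* `full_odd`: an element `t` with `t * t ≠ 1` centralises a whole 2-complement
* `exponent_or_normal`: in a solvable group with an abelian 2-complement `H` this forces a Sylow 2-subgroup of
  exponent two, or `H` normal
-/

set_option autoImplicit false
set_option linter.all false

namespace CfsgLib.Recog.RankFour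

open Subgroup
open CfsgLib.Recog.ClassSizesPSL (cI cC IsREl)

variable {G : Type*} [Group G] [Finite G]

theorem rI_symm (u t : G) : rI u t * cI u = rI t u * cI t := by
  show (C t).relIndex (C u) * (C u).index = (C u).relIndex (C t) * (C t).index
  rw [← inf_relIndex_right, relIndex_mul_index inf_le_right, inf_comm, ← inf_relIndex_right (C u) (C t),
    relIndex_mul_index inf_le_right]

theorem exists_pow_two_of_dvd {n m : ℕ} (h : n ∣ m) (hm : ∃ i, m = 2 ^ i) : ∃ j, n = 2 ^ j := by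
  obtain ⟨i, rfl⟩ := hm
  obtain ⟨j, -, hj⟩ := (Nat.dvd_prime_pow Nat.prime_two).1 h
  exact ⟨j, hj⟩

/-- `t` centralises a 2-complement of `C(u)`. -/
theorem full_odd {u : G} {k : ℕ} (K : Compl G u k) {t : G} (ht : IsREl 2 t) (htu : Commute t u)
    (ht2 : t * t ≠ 1) (hN : ∀ r, orderOf r = 2 → r ∈ zpowers t → cI u ∣ cI r) : ∃ j, rI u t = 2 ^ j := by
  have ht1 : t ≠ 1 := fun h => ht2 (by rw [h, one_mul])
  have hu := K.inv
  have huu : u * u = 1 := by rw [← pow_two, ← hu, pow_orderOf_eq_one]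
  obtain ⟨r, hr, hrt⟩ : ∃ r, orderOf r = 2 ∧ r ∈ zpowers (t * t) := by
    obtain ⟨m, hm⟩ := ((ht : IsREl 2 t).isPGroup_zpowers ⟨t * t, mul_mem (mem_zpowers t) (mem_zpowers t)⟩)
    obtain ⟨j, -, hj⟩ := (Nat.dvd_prime_pow Nat.prime_two).1
      (orderOf_dvd_of_pow_eq_one (congrArg Subtype.val hm : (t * t) ^ 2 ^ m = 1))
    obtain ⟨r, hr, hro⟩ : ∃ r, r ∈ zpowers (t * t) ∧ orderOf r = 2 := by
      haveI : Fact (Nat.Prime 2) := ⟨Nat.prime_two⟩
      have h2 : 2 ∣ Nat.card (zpowers (t * t)) := by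
        rw [Nat.card_zpowers, hj]
        rcases j with _ | j
        · exact absurd (orderOf_eq_one_iff.1 (by simpa using hj)) ht2
        · exact dvd_pow_self 2 j.succ_ne_zero
      obtain ⟨g, hg, hgo, -, -⟩ := exists_mem_prime Nat.prime_two h2
      exact ⟨g, hg, hgo⟩
    exact ⟨r, hro, hr⟩
  have htt : t * t ∈ zpowers t := mul_mem (mem_zpowers t) (mem_zpowers t)
  have hle : C t ≤ C r := ClassSizes.TwoSizes.centralizer_le_of_mem ((zpowers_le.2 htt) hrt)
  have har := hN r hr ((zpowers_le.2 htt) hrt)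
  rcases K.upper t ht1 (har.trans (ClassSizesPSL.cI_dvd hle)) with hv | hv
  swap
  · -- maximal size
    obtain ⟨i, hi⟩ := K.pow
    obtain ⟨j, hj⟩ : ∃ j, rI t u = 2 ^ j := by
      refine eq_of_primes index_ne_zero_of_finite fun l hl hld => ?_
      by_contra hl2
      haveI := Fact.mk hl
      obtain ⟨P⟩ := (inferInstance : Nonempty (Sylow l (C t)))
      refine P.not_dvd_index (hld.trans (index_dvd_of_le fun a ha => ?_))
      have hal : IsREl l (a : G) := isREl_of_mem (P.2.map (C t).subtype) ⟨a, ha, rfl⟩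
      have hCa : C t ≤ C (a : G) := le_of_max Nat.prime_two ht ht1 (by rw [hv]; exact K.max) (mem_C.1 a.2)
        (coprime_of_rEl Nat.prime_two hl hl2 hal)
      exact mem_subgroupOf.2 (mem_C.2 (mem_C.1 (hCa (mem_C.2 htu.symm))).symm)
    refine ⟨j + i, Nat.eq_of_mul_eq_mul_right (RankThree.cI_pos u) ?_⟩
    rw [rI_symm, hj, hv, hi]
    ring
  -- the size of `u`
  have hru : cI r = cI u := Nat.dvd_antisymm (hv ▸ ClassSizesPSL.cI_dvd hle) har
  have hCt : C t = C r := ClassSizesPSL.eq_of_le_of_cI_eq hle (hv.trans hru.symm)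
  have heq : rI u t = rI t u := by
    refine Nat.eq_of_mul_eq_mul_right (RankThree.cI_pos u) ?_
    rw [rI_symm, hv]
  set w := u * t with hw
  have hw2 : w * w = t * t := by
    calc u * t * (u * t) = u * (t * u) * t := by group
      _ = u * (u * t) * t := by rw [htu.eq]
      _ = u * u * (t * t) := by group
      _ = t * t := by rw [huu, one_mul]
  have hw1 : w ≠ 1 := fun h => ht2 (by rw [← hw2, h, one_mul])
  have hwt : C w ≤ C t := hCt ▸ ClassSizes.TwoSizes.centralizer_le_of_mem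
    ((zpowers_le.2 (hw2 ▸ mul_mem (mem_zpowers w) (mem_zpowers w) : t * t ∈ zpowers w)) hrt)
  have hwu : C w ≤ C u := fun g hg => by
    have h1 := mem_C.1 hg
    have h2 := mem_C.1 (hwt hg)
    refine mem_C.2 ?_
    rw [show u = w * t⁻¹ by rw [hw, mul_inv_cancel_right]]
    exact h1.mul_right h2.inv_right
  rw [heq]
  have hdvd : rI t u ∣ (C w).relIndex (C t) := relIndex_dvd_of_le_left _ hwu
  have hmul : (C w).relIndex (C t) * cI t = cI w := relIndex_mul_index hwt
  rcases K.upper w hw1 (hv ▸ ClassSizesPSL.cI_dvd hwt) with hvw | hvw <;> rw [hvw, hv] at hmul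
  · rw [mul_right_eq_self' (RankThree.cI_pos u) hmul] at hdvd
    exact ⟨0, Nat.dvd_one.1 hdvd⟩
  · rw [mul_comm (cI u) k] at hmul
    rw [Nat.eq_of_mul_eq_mul_right (RankThree.cI_pos u) hmul] at hdvd
    exact exists_pow_two_of_dvd hdvd K.pow

/-- A normal subgroup of odd order lies in a subgroup of 2-power index. -/
theorem le_of_odd {X : Type*} [Group X] [Finite X] {N H : Subgroup X} [N.Normal] (hN : (Nat.card N).Coprime 2)
    {i : ℕ} (hH : H.index = 2 ^ i) : N ≤ H := by
  have h1 := relIndex_mul_index (le_sup_left : H ≤ H ⊔ N)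
  have h3 : H.relIndex (H ⊔ N) ∣ 2 ^ i := hH ▸ h1 ▸ dvd_mul_right _ _
  have h4 : H.relIndex (H ⊔ N) ∣ Nat.card N := by
    refine Nat.dvd_of_mul_dvd_mul_right (Nat.card_pos (α := H)) ?_
    have e1 : Nat.card H * H.relIndex (H ⊔ N) = Nat.card ↥(H ⊔ N) := by
      rw [← relIndex_bot_left H, relIndex_mul_relIndex _ _ _ bot_le le_sup_left, relIndex_bot_left]
    have e2 : Nat.card N * N.relIndex H = Nat.card ↥(H ⊔ N) := by
      rw [← relIndex_bot_left N, ← relIndex_sup_right H N,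
        relIndex_mul_relIndex _ _ _ bot_le le_sup_right, relIndex_bot_left]
    rw [mul_comm, e1, ← e2]
    exact mul_dvd_mul_left _ (index_dvd_card _)
  have h5 : H.relIndex (H ⊔ N) = 1 := Nat.eq_one_of_dvd_coprimes (hN.pow_right i) h4 h3
  exact le_sup_right.trans (relIndex_eq_one.1 h5)

/-- A group whose elements outside a subgroup square to one. -/
theorem exponent_two_of_outside {X : Type*} [Group X] {T U : Subgroup X} (h : ∀ t ∈ T, t ∉ U → t * t = 1)
    {x y : X} (hx : x ∈ T) (hy : y ∈ T) (hxU : x ∉ U) (hyU : y ∉ U) (hxy : x * y ∉ U) : ∀ t ∈ T, t * t = 1 := by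
  intro t ht
  by_cases htU : t ∈ U
  · have key : ∀ g ∈ T, g ∉ U → g * t * g = t⁻¹ := fun g hg hgU => by
      have h1 := h (g * t) (mul_mem hg ht) fun h' => hgU (by simpa using mul_mem h' (inv_mem htU))
      exact eq_inv_of_mul_eq_one_left (by rw [← h1]; group)
    have hx2 := h x hx hxU
    have hy2 := h y hy hyU
    have k1 := key x hx hxU
    have k2 := key y hy hyU
    have k3 := key _ (mul_mem hx hy) hxy
    have hxy2 := h _ (mul_mem hx hy) hxy
    have hxi : x⁻¹ = x := inv_eq_of_mul_eq_one_right hx2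
    have hyi : y⁻¹ = y := inv_eq_of_mul_eq_one_right hy2
    have hcomm : y * x = x * y := by
      have := inv_eq_of_mul_eq_one_right hxy2
      rwa [mul_inv_rev, hxi, hyi] at this
    have k4 : x * y * t * (x * y) = t := by
      calc x * y * t * (x * y) = x * y * t * (y * x) := by rw [hcomm]
        _ = x * (y * t * y) * x := by group
        _ = x * t⁻¹ * x := by rw [k2]
        _ = (x * t * x)⁻¹ := by rw [mul_inv_rev, mul_inv_rev, hxi, mul_assoc]
        _ = t := by rw [k1, inv_inv]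
    rw [k4] at k3
    nth_rw 2 [k3]
    exact mul_inv_cancel t
  · exact h t ht htU

/-- In a solvable group with an abelian 2-complement `H`: if the elements of a Sylow 2-subgroup that are not
involutions centralise whole 2-complements, then it has exponent two or `H` is normal. -/
theorem exponent_or_normal {X : Type*} [Group X] [Finite X] (hX : Group.IsSolvable X) (H : Subgroup X)
    (hcomm : ∀ a ∈ H, ∀ b ∈ H, a * b = b * a) (hodd : ¬ 2 ∣ Nat.card H) {i : ℕ} (hidx : H.index = 2 ^ i)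
    (T : Sylow 2 X) (hT : ∀ t ∈ T, t * t ≠ 1 → ∃ j, (centralizer ({t} : Set X)).index = 2 ^ j) :
    (∀ t ∈ T, t * t = 1) ∨ (H.Normal ∧ ∀ t ∈ T, t * t ≠ 1 → ∀ h ∈ H, Commute h t) := by
  classical
  haveI : Fact (Nat.Prime 2) := ⟨Nat.prime_two⟩
  haveI := hX
  have hHcop : (Nat.card H).Coprime 2 := ((Nat.prime_two.coprime_iff_not_dvd).2 hodd).symm
  by_cases hn : H.Normal
  · right
    refine ⟨hn, fun t ht ht2 h hh => ?_⟩
    obtain ⟨j, hj⟩ := hT t ht ht2
    exact mem_centralizer_singleton_iff.1 (le_of_odd hHcop hj hh)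
  left
  set K := Cfsg.pPrimeCore 2 X with hK
  haveI : K.Normal := CfsgLib.Core.normal_pPrimeCore 2 X
  have hKH : K ≤ H := le_of_odd (CfsgLib.Core.coprime_card_pPrimeCore 2 X) hidx
  let π1 := QuotientGroup.mk' K
  set R := Cfsg.pCore 2 (X ⧸ K) with hR
  haveI : R.Normal := CfsgLib.Core.normal_pCore 2 _
  have hRp : IsPGroup 2 R := CfsgLib.Core.isPGroup_pCore 2 _
  have hY : Cfsg.pPrimeCore 2 (X ⧸ K) = ⊥ := CfsgLib.Core.pPrimeCore_quotient_pPrimeCore 2 X
  have hCR : centralizer (R : Set (X ⧸ K)) ≤ R :=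
    (CfsgLib.PLocal.isPConstrained_iff_of_core_bot hY).1 (CfsgLib.PLocal.isPConstrained_of_isPSolvable
      (CfsgLib.Core.isPSolvable_of_isSolvable (p := 2) inferInstance))
  -- the quotient by `R`
  let π2 : X →* (X ⧸ K) ⧸ R := (QuotientGroup.mk' R).comp π1
  have hπ2 : Function.Surjective π2 := (QuotientGroup.mk'_surjective R).comp (QuotientGroup.mk'_surjective K)
  set F := Cfsg.fittingSubgroup ((X ⧸ K) ⧸ R) with hF
  haveI : F.Normal := CfsgLib.Core.normal_fittingSubgroup _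
  haveI : Group.IsNilpotent F := CfsgLib.Core.isNilpotent_fittingSubgroup _
  have hCF : centralizer (F : Set ((X ⧸ K) ⧸ R)) ≤ F := CfsgLib.Components.centralizer_fitting_le_of_isSolvable
  have hFodd : ∀ x ∈ F, IsREl 2 x → x = 1 := fun x hx hx2 => by
    have h := mem_pCore_of_normal F hx hx2
    rwa [CfsgLib.Core.pCore_quotient_pCore 2 (X ⧸ K), mem_bot] at h
  have hFcop : (Nat.card F).Coprime 2 := ((Nat.prime_two.coprime_iff_not_dvd).2 fun hd => by
    obtain ⟨g, hg, hgo, hg2, hg1⟩ := exists_mem_prime Nat.prime_two hd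
    exact hg1 (hFodd g hg hg2)).symm
  have hHF : H.map π2 ≤ F := by
    refine le_trans (fun x hx => mem_centralizer_iff.2 fun y hy => ?_) hCF
    obtain ⟨j, hj⟩ := exists_pow_two_of_dvd (hidx ▸ index_map_dvd H hπ2) ⟨i, rfl⟩
    obtain ⟨a, ha, rfl⟩ := le_of_odd hFcop hj hy
    obtain ⟨b, hb, rfl⟩ := hx
    rw [← map_mul, ← map_mul, hcomm a ha b hb]
  -- elements centralising whole complements
  have hsyl : ∀ (l : ℕ) (t : X), l.Prime → l ≠ 2 → (∃ j, (centralizer ({t} : Set X)).index = 2 ^ j) →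
      ∀ y ∈ F, IsREl l y → ∃ p ∈ centralizer ({t} : Set X), π2 p = y := by
    rintro l t hl hl2 ⟨j, hj⟩ y hy hyl
    haveI := Fact.mk hl
    obtain ⟨P, hP⟩ := ClassSizesPSL.exists_sylow_le (r := l) (H := centralizer ({t} : Set X))
      (fun hd => hl2 ((Nat.prime_dvd_prime_iff_eq hl Nat.prime_two).1 (hl.dvd_of_dvd_pow (hj ▸ hd))))
    obtain ⟨p, hp, hpy⟩ := CfsgLib.Core.pCore_le_sylow (P.mapSurjective hπ2) (mem_pCore_of_normal F hy hyl)
    exact ⟨p, hP hp, hpy⟩
  have htR : ∀ t ∈ T, t * t ≠ 1 → π1 t ∈ R := fun t ht ht2 => by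
    have hC : π2 t ∈ centralizer (F : Set ((X ⧸ K) ⧸ R)) := mem_centralizer_iff.2 fun y hy => by
      have : y ∈ C (π2 t) := ClassSizes.TwoSizes.mem_of_primary _ y fun w hw l e hl hwo => by
        have hwF : w ∈ F := (zpowers_le.2 hy) hw
        by_cases hl2 : l = 2
        · rw [hFodd w hwF (hl2 ▸ ClassSizesPSL.isREl_of_orderOf hwo)]; exact one_mem _
        obtain ⟨p, hp, rfl⟩ := hsyl l t hl hl2 (hT t ht ht2) w hwF (ClassSizesPSL.isREl_of_orderOf hwo)
        exact mem_C.2 ((show Commute p t from mem_centralizer_singleton_iff.1 hp).map π2)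
      exact (mem_C.1 this).eq
    have h1 := hFodd _ (hCF hC) (isREl_of_mem (T.2.map π2) ⟨t, ht, rfl⟩)
    exact (QuotientGroup.eq_one_iff _).1 h1
  -- modulo the Frattini subgroup
  set Φ := (frattini R).map R.subtype with hΦ
  haveI : Φ.Normal := inferInstance
  let π3 := QuotientGroup.mk' Φ
  let π : X →* (X ⧸ K) ⧸ Φ := π3.comp π1
  have hπ : Function.Surjective π := (QuotientGroup.mk'_surjective Φ).comp (QuotientGroup.mk'_surjective K)
  set V := R.map π3 with hV
  haveI : V.Normal := Subgroup.Normal.map inferInstance π3 (QuotientGroup.mk'_surjective Φ)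
  have hCV : centralizer (V : Set ((X ⧸ K) ⧸ Φ)) ≤ V :=
    CfsgLib.Core.SchmidtLength.centralizer_mod_frattini_le hCR Φ rfl
  obtain ⟨hVab, hVexp⟩ := CfsgLib.PGroups.frattini_quotient hRp
  have hVcomm : ∀ a ∈ V, ∀ b ∈ V, a * b = b * a := by
    rintro _ ⟨a, ha, rfl⟩ _ ⟨b, hb, rfl⟩
    have h := hVab.is_comm.comm (QuotientGroup.mk (⟨a, ha⟩ : R)) (QuotientGroup.mk (⟨b, hb⟩ : R))
    rw [← QuotientGroup.mk_mul, ← QuotientGroup.mk_mul, QuotientGroup.eq] at h
    rw [← map_mul, ← map_mul]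
    exact QuotientGroup.eq.2 ⟨_, h, rfl⟩
  have hVsq : ∀ a ∈ V, a * a = 1 := by
    rintro _ ⟨a, ha, rfl⟩
    have h := hVexp (QuotientGroup.mk (⟨a, ha⟩ : R))
    rw [pow_two, ← QuotientGroup.mk_mul, QuotientGroup.eq_one_iff] at h
    rw [← map_mul]
    exact (QuotientGroup.eq_one_iff _).2 ⟨_, h, rfl⟩
  set W := V ⊓ centralizer ((H.map π : Subgroup ((X ⧸ K) ⧸ Φ)) : Set ((X ⧸ K) ⧸ Φ)) with hW
  have htW : ∀ t ∈ T, t ∉ W.comap π → t * t = 1 := fun t ht htn => by
    by_contra ht2
    have htV : π t ∈ V := mem_map_of_mem π3 (htR t ht ht2)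
    refine htn ⟨htV, mem_centralizer_iff.2 ?_⟩
    rintro _ ⟨h, hh, rfl⟩
    have : π h ∈ C (π t) := by
      have key : h ∈ (C (π t)).comap π := ClassSizes.TwoSizes.mem_of_primary _ h fun w hw l e hl hwo => by
        have hwH : w ∈ H := (zpowers_le.2 hh) hw
        show π w ∈ C (π t)
        by_cases hl2 : l = 2
        · have hw1 : w = 1 := by
            refine orderOf_eq_one_iff.1 (Nat.eq_one_of_dvd_coprimes (hHcop.pow_right e)
              (orderOf_dvd_natCard H hwH) (by rw [hwo, hl2]))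
          rw [hw1, map_one]; exact one_mem _
        obtain ⟨p, hp, hpw⟩ := hsyl l t hl hl2 (hT t ht ht2) (π2 w) (hHF (mem_map_of_mem π2 hwH))
          (by obtain ⟨n, hn⟩ := ClassSizesPSL.isREl_of_orderOf hwo; exact ⟨n, by rw [← map_pow, hn, map_one]⟩)
        have hρ : (π1 p)⁻¹ * π1 w ∈ R := QuotientGroup.eq.1 hpw
        have hpart : π w = π p * π3 ((π1 p)⁻¹ * π1 w) := by
          show π3 (π1 w) = π3 (π1 p) * _
          rw [← map_mul, mul_inv_cancel_left]
        rw [hpart]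
        exact mul_mem (mem_C.2 ((show Commute p t from mem_centralizer_singleton_iff.1 hp).map π))
          (mem_C.2 (hVcomm _ (mem_map_of_mem π3 hρ) _ htV))
      exact key
    exact (mem_C.1 this).eq
  -- lifts
  have hlift : ∀ v ∈ V, ∃ t ∈ T, π t = v := fun v hv => by
    have hVp : IsPGroup 2 V := hRp.map π3
    exact hVp.le_sylow_of_normal (T.mapSurjective hπ) hv
  obtain ⟨v, hv, h, hh, hvh⟩ : ∃ v ∈ V, ∃ h ∈ H, π h * v * (π h)⁻¹ ≠ v := by
    by_contra hcon
    push Not at hcon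
    refine hn ?_
    have hHK : H ≤ K := fun a ha => by
      have h1 : π a ∈ V := hCV (mem_centralizer_iff.2 fun v hv => (mul_inv_eq_iff_eq_mul.1 (hcon v hv a ha)).symm)
      have hVp : IsPGroup 2 V := hRp.map π3
      obtain ⟨n, hn'⟩ := hVp ⟨π a, h1⟩
      have h2 : π a = 1 := orderOf_eq_one_iff.1 (Nat.eq_one_of_dvd_coprimes (hHcop.pow_right n)
        ((orderOf_map_dvd π a).trans (orderOf_dvd_natCard H ha))
        (orderOf_dvd_of_pow_eq_one (congrArg Subtype.val hn')))
      have h3 : π1 a ∈ R := (map_subtype_le _) ((QuotientGroup.eq_one_iff _).1 h2)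
      obtain ⟨m, hm⟩ := hRp ⟨π1 a, h3⟩
      have h4 : π1 a = 1 := orderOf_eq_one_iff.1 (Nat.eq_one_of_dvd_coprimes (hHcop.pow_right m)
        ((orderOf_map_dvd π1 a).trans (orderOf_dvd_natCard H ha))
        (orderOf_dvd_of_pow_eq_one (congrArg Subtype.val hm)))
      exact (QuotientGroup.eq_one_iff _).1 h4
    rw [le_antisymm hHK hKH]
    infer_instance
  set v' := π h * v * (π h)⁻¹ with hv'
  have hv'V : v' ∈ V := Subgroup.Normal.conj_mem inferInstance v hv _
  have hfix : ∀ c ∈ W, π h * c * (π h)⁻¹ = c := fun c hc => by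
    rw [mem_centralizer_iff.1 hc.2 _ (mem_map_of_mem π hh), mul_inv_cancel_right]
  have hvW : v ∉ W := fun h' => hvh (hfix v h')
  have hv'W : v' ∉ W := fun h' => by
    have h2 : π h * v' * (π h)⁻¹ = π h * v * (π h)⁻¹ := hfix v' h'
    exact hvh (mul_left_cancel (mul_right_cancel h2))
  have hvvW : v * v' ∉ W := fun hc => by
    set c := v * v' with hcdef
    have hstep : π h * v * (π h)⁻¹ = v * c := by
      rw [← hv', hcdef, ← mul_assoc, hVsq v hv, one_mul]
    have hit : ∀ m : ℕ, π h ^ m * v * (π h ^ m)⁻¹ = v * c ^ m := by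
      intro m
      induction m with
      | zero => simp
      | succ m ih =>
        calc π h ^ (m + 1) * v * (π h ^ (m + 1))⁻¹
            = π h * (π h ^ m * v * (π h ^ m)⁻¹) * (π h)⁻¹ := by rw [pow_succ']; group
          _ = (π h * v * (π h)⁻¹) * (π h * c ^ m * (π h)⁻¹) := by rw [ih]; group
          _ = v * c * c ^ m := by rw [hstep, hfix _ (pow_mem hc m)]
          _ = v * c ^ (m + 1) := by rw [pow_succ', mul_assoc]
    have h1 := hit (orderOf h)
    rw [← map_pow, pow_orderOf_eq_one, map_one, one_mul, inv_one, mul_one, eq_comm, mul_eq_left] at h1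
    have h2 : c = 1 := orderOf_eq_one_iff.1 (Nat.eq_one_of_dvd_coprimes
      (hHcop.coprime_dvd_left (orderOf_dvd_natCard H hh)) (orderOf_dvd_of_pow_eq_one h1)
      (orderOf_dvd_of_pow_eq_one (by rw [pow_two]; exact hVsq c hc.1)))
    exact hvh (hstep.trans (by rw [h2, mul_one]))
  obtain ⟨x, hx, hxv⟩ := hlift v hv
  obtain ⟨y, hy, hyv⟩ := hlift v' hv'V
  exact exponent_two_of_outside htW hx hy (fun e => hvW (hxv ▸ e)) (fun e => hv'W (hyv ▸ e))
    (fun e => hvvW (by rw [← hxv, ← hyv, ← map_mul]; exact e))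

end CfsgLib.Recog.RankFour
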