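import Cfsg.Agent.Lib.Recog.RankFour.Kinds
import Cfsg.Agent.Lib.Recog.RankFour.CaseB
import Cfsg.Agent.Lib.ThreeOrders.Suzuki
import Cfsg.Agent.Lib.Classical.PSLThreeFour
import Cfsg.Agent.Lib.Known.L34.Upper
import Cfsg.Agent.Lib.Recog.SimpleSixty
import Cfsg.Agent.Lib.CIT.Simple
import Cfsg.Agent.Lib.Classical.PSLTwoSimple
import Cfsg.Agent.S2507
import Cfsg.Agent.S0324
import Mathlib.GroupTheory.Perm.Cycle.PossibleTypes

/-!
# The groups without four class sizes among the candidates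

`A_7`, `PSL(3, 4)` and the Suzuki groups have five sizes; `PSL(2, q)` has three for `q = 5` or `q` even.
-/

set_option autoImplicit false
set_option linter.all false

namespace CfsgLib.Recog.RankFour

open Subgroup
open CfsgLib.Recog.ClassSizesPSL (cI cC IsREl)
open CfsgLib.CIT (CIT)
open scoped Nat

variable {G : Type*} [Group G] [Finite G]

theorem cI_equiv {L : Type*} [Group L] (e : G ≃* L) (x : G) : cI (e x) = cI x :=
  CfsgLib.Known.SL2ClassSizes.cs_equiv e x

/-- No five different sizes. -/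
theorem five_false (F : Four G) (x : Fin 5 → G) (hx : ∀ i, x i ≠ 1) (hinj : Function.Injective fun i => cI (x i)) :
    False := by
  have hfin : {m : ℕ | ∃ y : G, y ≠ 1 ∧ cI y = m}.Finite := Set.finite_of_ncard_pos (by rw [F.card]; norm_num)
  have h : Set.range (fun i => cI (x i)) ⊆ {m : ℕ | ∃ y : G, y ≠ 1 ∧ cI y = m} := by
    rintro _ ⟨i, rfl⟩
    exact ⟨x i, hx i, rfl⟩
  have h5 := Set.ncard_le_ncard h hfin
  rw [Set.ncard_range_of_injective hinj, F.card, Nat.card_fin] at h5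
  omega

variable [IsSimpleGroup G] (F : Four G)
include F

omit [IsSimpleGroup G] in
theorem exists_prime_central {l : ℕ} (hl : l.Prime) (h : l ∣ Nat.card G) :
    ∃ z : G, orderOf z = l ∧ ¬ l ∣ cI z := by
  haveI := Fact.mk hl
  obtain ⟨S⟩ := (inferInstance : Nonempty (Sylow l G))
  haveI : Nontrivial (S : Subgroup G) := by
    rw [nontrivial_iff_ne_bot]
    intro e
    have h' := S.dvd_card_of_dvd_card h
    rw [e, card_bot] at h'
    exact hl.not_dvd_one h'
  haveI := S.2.center_nontrivial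
  obtain ⟨n, hn⟩ := IsPGroup.iff_card.1 (S.2.to_subgroup (center (S : Subgroup G)))
  have hd : l ∣ Nat.card (center (S : Subgroup G)) := by
    rw [hn]
    refine dvd_pow_self l fun h0 => ?_
    rw [h0, pow_zero] at hn
    exact absurd hn (Finite.one_lt_card (α := center (S : Subgroup G))).ne'
  obtain ⟨z, hz⟩ := exists_prime_orderOf_dvd_card' l hd
  refine ⟨((z : (S : Subgroup G)) : G), by rw [orderOf_coe, orderOf_coe, hz], fun hd' =>
    S.not_dvd_index (hd'.trans (index_dvd_of_le fun a ha => ?_))⟩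
  exact mem_C.2 (congrArg Subtype.val (mem_center_iff.1 z.2 ⟨a, ha⟩))

omit [IsSimpleGroup G] in
theorem dvd_cI_of_no_product {l r : ℕ} (hl : l.Prime) (hr : r.Prime) (hne : r ≠ l) (hrG : r ∣ Nat.card G)
    (hno : ∀ g : G, orderOf g ≠ l * r) {z : G} (hz : orderOf z = l) : r ∣ cI z := by
  have hn : ¬ r ∣ Nat.card (C z) := fun hd => by
    obtain ⟨y, hy, hyo, -, -⟩ := exists_mem_prime hr hd
    refine hno (z * y) ?_
    rw [(mem_C.1 hy).symm.orderOf_mul_eq_mul_orderOf_of_coprime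
      (by rw [hz, hyo]; exact (Nat.coprime_primes hl hr).2 hne.symm), hz, hyo]
  rw [← (C z).card_mul_index] at hrG
  exact (hr.dvd_mul.1 hrG).resolve_left hn

/-- Three odd primes, no two adjacent, in a CIT group give five sizes. -/
theorem cit_three_false (hC : CIT G) (hS : ∀ S : Sylow 2 G, ¬ IsMulCommutative (S : Subgroup G)) {l r s : ℕ}
    (hl : l.Prime) (hr : r.Prime) (hs : s.Prime) (hl2 : l ≠ 2) (hr2 : r ≠ 2) (hs2 : s ≠ 2) (hlr : l ≠ r)
    (hls : l ≠ s) (hrs : r ≠ s) (hlG : l ∣ Nat.card G) (hrG : r ∣ Nat.card G) (hsG : s ∣ Nat.card G)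
    (h1 : ∀ g : G, orderOf g ≠ l * r) (h2 : ∀ g : G, orderOf g ≠ l * s) (h3 : ∀ g : G, orderOf g ≠ r * s) :
    False := by
  haveI : Fact (Nat.Prime 2) := ⟨Nat.prime_two⟩
  obtain ⟨zl, hzl, nl⟩ := exists_prime_central F hl hlG
  obtain ⟨zr, hzr, nr⟩ := exists_prime_central F hr hrG
  obtain ⟨zs, hzs, ns⟩ := exists_prime_central F hs hsG
  obtain ⟨x, hxR, hxev⟩ : ∃ x : G, IsREl 2 x ∧ 2 ∣ cI x := by
    by_contra hcon
    push Not at hcon
    obtain ⟨S⟩ := (inferInstance : Nonempty (Sylow 2 G))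
    exact hS S (Cfsg.Agent.S4355.result (fun x ⟨k, hk⟩ => hcon x (ClassSizesPSL.isREl_of_orderOf hk)) S)
  have hx1 : x ≠ 1 := fun h => by
    have h1 := (ClassSizesPSL.cI_eq_one_iff (x := x)).2 (h ▸ one_mem _)
    omega
  obtain ⟨S⟩ := (inferInstance : Nonempty (Sylow 2 G))
  obtain ⟨u, hu, -, hSu⟩ := exists_central_invol S (two_dvd_card F.na)
  have huodd := coprime_two_of_sylow_le S hSu
  have hdvd2 : ∀ (p : ℕ), p.Prime → p ≠ 2 → p ∣ Nat.card G → ∀ y : G, IsREl 2 y → y ≠ 1 → p ∣ cI y := by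
    intro p hp hp2 hpG y hy hy1
    have h2 : 2 ∣ Nat.card (zpowers y) := by
      rw [Nat.card_zpowers]; exact dvd_orderOf Nat.prime_two hy hy1
    obtain ⟨t, ht, hto, -, -⟩ := exists_mem_prime Nat.prime_two h2
    refine dvd_trans ?_ (ClassSizesPSL.cI_dvd (ClassSizes.TwoSizes.centralizer_le_of_mem ht))
    obtain ⟨n, hn⟩ := IsPGroup.iff_card.1 (hC t hto)
    rw [← (C t).card_mul_index, show Nat.card (C t) = 2 ^ n from hn] at hpG
    exact (hp.dvd_mul.1 hpG).resolve_left (odd_not_dvd_two_pow hp hp2 n)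
  have hu2 := isREl_two_invol hu
  have hu1 := invol_ne_one hu
  have hlr' := dvd_cI_of_no_product F hl hr hlr.symm hrG h1 hzl
  have hls' := dvd_cI_of_no_product F hl hs hls.symm hsG h2 hzl
  have hrl' := dvd_cI_of_no_product F hr hl hlr hlG (fun g => by rw [mul_comm]; exact h1 g) hzr
  have hrs' := dvd_cI_of_no_product F hr hs hrs.symm hsG h3 hzr
  have hsl' := dvd_cI_of_no_product F hs hl hls hlG (fun g => by rw [mul_comm]; exact h2 g) hzs
  have ne1 : ∀ {z : G} {p : ℕ}, p.Prime → orderOf z = p → z ≠ 1 := fun hp hz e => hp.ne_one (by rw [← hz, e, orderOf_one])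
  have a1 : cI u ≠ cI x := fun e => huodd (e ▸ hxev)
  have b1 : cI zl ≠ cI u := fun e => nl (e ▸ hdvd2 l hl hl2 hlG u hu2 hu1)
  have b2 : cI zl ≠ cI x := fun e => nl (e ▸ hdvd2 l hl hl2 hlG x hxR hx1)
  have b3 : cI zr ≠ cI u := fun e => nr (e ▸ hdvd2 r hr hr2 hrG u hu2 hu1)
  have b4 : cI zr ≠ cI x := fun e => nr (e ▸ hdvd2 r hr hr2 hrG x hxR hx1)
  have b5 : cI zs ≠ cI u := fun e => ns (e ▸ hdvd2 s hs hs2 hsG u hu2 hu1)
  have b6 : cI zs ≠ cI x := fun e => ns (e ▸ hdvd2 s hs hs2 hsG x hxR hx1)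
  have c1 : cI zl ≠ cI zr := fun e => nl (e ▸ hrl')
  have c2 : cI zl ≠ cI zs := fun e => nl (e ▸ hsl')
  have c3 : cI zr ≠ cI zs := fun e => ns (e ▸ hrs')
  refine five_false F ![zl, zr, zs, u, x] (fun i => ?_) fun i j h => ?_
  · fin_cases i
    exacts [ne1 hl hzl, ne1 hr hzr, ne1 hs hzs, hu1, hx1]
  · fin_cases i <;> fin_cases j <;> first | rfl | (simp at h; omega)

/-- `PSL(3, 4)` has more sizes. -/
theorem not_psl34 (hC : CIT G) (hS : ∀ S : Sylow 2 G, ¬ IsMulCommutative (S : Subgroup G)) {K : Type} [Field K]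
    [Fintype K] (hK : Fintype.card K = 4) (e : G ≃* Matrix.ProjectiveSpecialLinearGroup (Fin 3) K) : False := by
  have hcard : Nat.card G = 20160 := (Nat.card_congr e.toEquiv).trans (CfsgLib.Known.L34.card_PSL hK)
  have hno : ∀ g : G, ∃ n ∈ [3, 4, 5, 7], orderOf g ∣ n := fun g => by
    classical
    obtain ⟨X, hX⟩ := QuotientGroup.mk_surjective (e g)
    obtain ⟨n, hn, c, hc⟩ := CfsgLib.Classical.PSLThreeFour.exists_pow_scalar hK X
    refine ⟨n, hn, ?_⟩
    rw [← MulEquiv.orderOf_eq e g]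
    refine orderOf_dvd_of_pow_eq_one ?_
    rw [← hX, ← QuotientGroup.mk_pow]
    erw [QuotientGroup.eq_one_iff, Matrix.SpecialLinearGroup.mem_center_iff]
    refine ⟨c, ?_, ?_⟩
    · have h := congrArg Matrix.det hc
      rw [Matrix.det_pow, Matrix.det_smul, Matrix.det_one, mul_one,
        show (X : Matrix (Fin 3) (Fin 3) K).det = 1 from X.2, one_pow] at h
      exact h.symm
    · rw [Matrix.SpecialLinearGroup.coe_pow, hc]
      simp [Matrix.smul_one_eq_diagonal]
  have key : ∀ m : ℕ, 8 ≤ m → ∀ g : G, orderOf g ≠ m := fun m hm g h => by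
    obtain ⟨n, hn, hd⟩ := hno g
    simp at hn
    have := Nat.le_of_dvd (by omega) hd
    omega
  exact cit_three_false F hC hS Nat.prime_three Nat.prime_five (by norm_num : Nat.Prime 7) (by norm_num)
    (by norm_num) (by norm_num) (by norm_num) (by norm_num) (by norm_num) (by rw [hcard]; norm_num)
    (by rw [hcard]; norm_num) (by rw [hcard]; norm_num) (key _ (by norm_num)) (key _ (by norm_num))
    (key _ (by norm_num))

/-- The Suzuki groups have more sizes. -/
theorem not_suzuki (hC : CIT G) (hS : ∀ S : Sylow 2 G, ¬ IsMulCommutative (S : Subgroup G))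
    (hSz : Cfsg.IsSuzuki G) : False := by
  classical
  obtain ⟨-, m0, hm0, hcard0⟩ := hSz
  have h3 : ¬ 3 ∣ Nat.card G := by
    obtain ⟨h80, hq3, -⟩ := CfsgLib.CIT.SzPrimeGraph.q_facts m0 hm0
    rw [hcard0]
    set q := 2 ^ (2 * m0 + 1) with hq
    intro hd
    have e1 : (q ^ 2) % 3 = 1 := by rw [Nat.pow_mod, hq3]
    have e2 : (q ^ 2 + 1) % 3 = 2 := by omega
    have e3 : (q - 1) % 3 = 1 := by omega
    have : q ^ 2 * (q ^ 2 + 1) * (q - 1) % 3 = 2 := by
      rw [Nat.mul_mod, Nat.mul_mod (q ^ 2), e1, e2, e3]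
    omega
  obtain ⟨K, iK, iKt, m, hm, hK, ⟨e⟩⟩ := CfsgLib.ThreeOrders.exists_iso_sz F.na hC (two_dvd_card F.na) h3
  obtain ⟨h8, -, hprod⟩ := CfsgLib.CIT.SzPrimeGraph.q_facts m hm
  haveI : Finite (Cfsg.Sz K m) := Finite.of_equiv G e.toEquiv
  set q := 2 ^ (2 * m + 1) with hq
  set A := q + 2 ^ (m + 1) + 1 with hA
  set B := q - 2 ^ (m + 1) + 1 with hB
  have hqev : 2 ∣ q := dvd_pow_self 2 (by omega)
  have hrev : 2 ∣ 2 ^ (m + 1) := dvd_pow_self 2 (by omega)
  have hlt : 2 ^ (m + 1) < q := Nat.pow_lt_pow_right one_lt_two (by omega)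
  have hq8 : 8 ≤ q := h8
  have hA1 : A ≠ 1 := by
    have hrpos : 0 < 2 ^ (m + 1) := by positivity
    rw [hA]; omega
  have hB1 : B ≠ 1 := by
    have hrpos : 0 < 2 ^ (m + 1) := by positivity
    rw [hB]; omega
  have hcard : Nat.card G = q ^ 2 * (A * B) * (q - 1) := by
    rw [Nat.card_congr e.toEquiv, Cfsg.Agent.S0324.result hm hK, hprod]
  have hodd2 : ∀ p, p.Prime → ∀ k, ¬ 2 ∣ k → p ∣ k → p ≠ 2 := fun p hp k hk hd e => hk (e ▸ hd)
  obtain ⟨p, hp, hpd⟩ := Nat.exists_prime_and_dvd (show q - 1 ≠ 1 by omega)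
  obtain ⟨r, hr, hrd⟩ := Nat.exists_prime_and_dvd hA1
  obtain ⟨s, hs, hsd⟩ := Nat.exists_prime_and_dvd hB1
  have hAo : ¬ 2 ∣ A := by omega
  have hBo : ¬ 2 ∣ B := by omega
  have hp2 := hodd2 p hp _ (show ¬ 2 ∣ q - 1 by omega) hpd
  have hr2 := hodd2 r hr _ hAo hrd
  have hs2 := hodd2 s hs _ hBo hsd
  have hrq : r ∣ q ^ 2 + 1 := hprod ▸ hrd.mul_right _
  have hsq : s ∣ q ^ 2 + 1 := hprod ▸ hsd.mul_left _
  have hdiv : ∀ t, t.Prime → t ∣ q - 1 → t ∣ q ^ 2 + 1 → t = 2 := by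
    intro t ht h1 h2
    have h3 : t ∣ q ^ 2 - 1 := h1.trans ⟨q + 1, by rw [mul_comm, ← Nat.sq_sub_sq, one_pow]⟩
    have h4 : t ∣ (q ^ 2 + 1) - (q ^ 2 - 1) := Nat.dvd_sub h2 h3
    have : 1 ≤ q ^ 2 := Nat.one_le_pow _ _ (by omega)
    rw [show (q ^ 2 + 1) - (q ^ 2 - 1) = 2 by omega] at h4
    exact (Nat.prime_dvd_prime_iff_eq ht Nat.prime_two).1 h4
  have hpr : p ≠ r := fun e' => hp2 (hdiv p hp hpd (e' ▸ hrq))
  have hps : p ≠ s := fun e' => hp2 (hdiv p hp hpd (e' ▸ hsq))
  have hrs : r ≠ s := by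
    rintro rfl
    have h1 : r ∣ A - B := Nat.dvd_sub hrd hsd
    rw [show A - B = 2 * 2 ^ (m + 1) by omega, ← pow_succ'] at h1
    exact hr2 ((Nat.prime_dvd_prime_iff_eq hr Nat.prime_two).1 (hr.dvd_of_dvd_pow h1))
  have trans' : ∀ n : ℕ, (∀ g : Cfsg.Sz K m, orderOf g ≠ n) → ∀ g : G, orderOf g ≠ n := fun n h g hg =>
    h (e g) (by rw [MulEquiv.orderOf_eq, hg])
  refine cit_three_false F hC hS hp hr hs hp2 hr2 hs2 hpr hps hrs (hcard ▸ hpd.mul_left _)
    (hcard ▸ ((hrd.mul_right _).mul_left _).mul_right _) (hcard ▸ ((hsd.mul_left _).mul_left _).mul_right _)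
    (trans' _ (CfsgLib.CIT.SzPrimeGraph.sz_not_adjacent hm hK hp hr hp2 hr2 hpd hrq))
    (trans' _ (CfsgLib.CIT.SzPrimeGraph.sz_not_adjacent hm hK hp hs hp2 hs2 hpd hsq)) (trans' _ fun g hg => ?_)
  -- the two tori
  haveI := Fact.mk hr
  obtain ⟨U, -, hUcard, hUc, -⟩ := Cfsg.Agent.S0333.result hm hK A (by simp [hA, hq])
  have hridx : ¬ r ∣ U.index := by
    have h1 := U.card_mul_index
    rw [hUcard, Cfsg.Agent.S0324.result hm hK, ← hq, ← hprod] at h1
    have h2 : U.index = q ^ 2 * B * (q - 1) := Nat.eq_of_mul_eq_mul_left (show 0 < A by omega) (h1.trans (by rw [hA, hB]; ring))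
    rw [h2]
    intro hd
    rcases hr.dvd_mul.1 hd with hd | hd
    · rcases hr.dvd_mul.1 hd with hd | hd
      · rw [hq, ← pow_mul] at hd
        exact hr2 ((Nat.prime_dvd_prime_iff_eq hr Nat.prime_two).1 (hr.dvd_of_dvd_pow hd))
      · exact hrs.symm ((Nat.prime_dvd_prime_iff_eq hs hr).1 (by
          exfalso
          have h3 : r ∣ A - B := Nat.dvd_sub hrd hd
          rw [show A - B = 2 * 2 ^ (m + 1) by omega, ← pow_succ'] at h3
          exact hr2 ((Nat.prime_dvd_prime_iff_eq hr Nat.prime_two).1 (hr.dvd_of_dvd_pow h3))))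
    · exact hr2 (hdiv r hr hd hrq)
  obtain ⟨P, hP⟩ := ClassSizesPSL.exists_sylow_le (r := r) (H := U) hridx
  have hgo : orderOf (g ^ s) = r := by
    rw [orderOf_pow_of_dvd hs.ne_zero (hg ▸ dvd_mul_left s r), hg, Nat.mul_div_cancel _ hs.pos]
  obtain ⟨w, hw⟩ := conj_mem_sylow (IsPGroup.of_card (n := 1) (by rw [Nat.card_zpowers, hgo, pow_one]) :
    IsPGroup r (zpowers (g ^ s))) P
  have hv : w * g ^ s * w⁻¹ ∈ U := hP (hw _ (mem_zpowers _))
  have hv1 : w * g ^ s * w⁻¹ ≠ 1 := fun h => by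
    rw [conj_eq_one_iff] at h
    rw [h, orderOf_one] at hgo
    exact hr.ne_one hgo.symm
  have hmem : w * g * w⁻¹ ∈ centralizer ({w * g ^ s * w⁻¹} : Set (Cfsg.Sz K m)) :=
    mem_centralizer_singleton_iff.2 (((Commute.refl g).pow_right s).map (MulAut.conj w).toMonoidHom)
  rw [hUc _ hv hv1] at hmem
  have h4 := orderOf_dvd_natCard U hmem
  rw [CfsgLib.Signalizer.orderOf_conj, hg, hUcard] at h4
  have h5 : s ∣ A - B := Nat.dvd_sub ((dvd_mul_left s r).trans h4) hsd
  rw [show A - B = 2 * 2 ^ (m + 1) by omega, ← pow_succ'] at h5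
  exact hs2 ((Nat.prime_dvd_prime_iff_eq hs Nat.prime_two).1 (hs.dvd_of_dvd_pow h5))

/-- `A_7` has more sizes. -/
theorem not_alt_seven (e : G ≃* alternatingGroup (Fin 7)) : False := by
  classical
  have key : ∀ m : Multiset ℕ, m.sum ≤ 7 → (∀ a ∈ m, 2 ≤ a) → m ≠ 0 → (-1 : ℤˣ) ^ (m.sum + Multiset.card m) = 1 →
      ∀ n : ℕ, (7 - m.sum)! * m.prod * (∏ a ∈ m.toFinset, (m.count a)!) = n →
      ∃ x : G, x ≠ 1 ∧ (Nat.card (C x) = n ∨ 2 * Nat.card (C x) = n) := by
    intro m hsum h2 hm hsign n hn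
    obtain ⟨σ, hσ⟩ := (Equiv.Perm.exists_with_cycleType_iff (Fin 7) (m := m)).2 (show m.sum ≤ Fintype.card (Fin 7) ∧ _ from
      ⟨by rwa [Fintype.card_fin], h2⟩)
    have hmem : σ ∈ alternatingGroup (Fin 7) := by
      rw [Equiv.Perm.mem_alternatingGroup, Equiv.Perm.sign_of_cycleType, hσ, hsign]
    set x := e.symm ⟨σ, hmem⟩ with hx
    refine ⟨x, fun h => ?_, ?_⟩
    · have h1 : (⟨σ, hmem⟩ : alternatingGroup (Fin 7)) = 1 := by
        rw [← e.apply_symm_apply ⟨σ, hmem⟩, ← hx, h, map_one]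
      have h1' : σ = 1 := congrArg Subtype.val h1
      rw [h1', Equiv.Perm.cycleType_one] at hσ
      exact hm hσ.symm
    set T := centralizer ({σ} : Set (Equiv.Perm (Fin 7))) with hT
    have hTn : Nat.card T = n := by
      rw [hT, Equiv.Perm.nat_card_centralizer, Fintype.card_fin, hσ, hn]
    have hC : Nat.card (C x) = Nat.card ↥(alternatingGroup (Fin 7) ⊓ T) := by
      have h1 : (C x).map e.toMonoidHom = T.subgroupOf (alternatingGroup (Fin 7)) := by
        ext y
        rw [mem_subgroupOf, hT, mem_centralizer_singleton_iff]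
        constructor
        · rintro ⟨a, ha, rfl⟩
          have h := (mem_C.1 ha).map e.toMonoidHom
          rw [show e.toMonoidHom x = ⟨σ, hmem⟩ from e.apply_symm_apply _] at h
          exact congrArg Subtype.val h.eq
        · intro h
          refine ⟨e.symm y, mem_C.2 ?_, e.apply_symm_apply y⟩
          exact (show Commute y ⟨σ, hmem⟩ from Subtype.ext h).map e.symm.toMonoidHom
      rw [← Nat.card_congr (subgroupOfEquivOfLe (inf_le_left : alternatingGroup (Fin 7) ⊓ T ≤ _)).toEquiv,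
        show (alternatingGroup (Fin 7) ⊓ T).subgroupOf (alternatingGroup (Fin 7)) = T.subgroupOf _ from
          inf_subgroupOf_left _ _, ← h1, ← Nat.card_congr ((C x).equivMapOfInjective e.toMonoidHom e.injective).toEquiv]
    have hmul : Nat.card ↥(alternatingGroup (Fin 7) ⊓ T) * (alternatingGroup (Fin 7)).relIndex T = Nat.card T := by
      rw [← inf_relIndex_right, ← relIndex_bot_left (alternatingGroup (Fin 7) ⊓ T),
        relIndex_mul_relIndex _ _ _ bot_le inf_le_right, relIndex_bot_left]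
    have hidx : (alternatingGroup (Fin 7)).relIndex T ∣ 2 := by
      rw [← alternatingGroup.index_eq_two (α := Fin 7)]
      exact relIndex_dvd_index_of_normal _ _
    rw [hTn, ← hC] at hmul
    rcases (Nat.dvd_prime Nat.prime_two).1 hidx with h | h <;> rw [h] at hmul
    · exact Or.inl (by omega)
    · exact Or.inr (by omega)
  obtain ⟨x1, h1, g1⟩ := key {2, 2} (by decide) (by decide) (by decide) (by decide) 48 (by decide)
  obtain ⟨x2, h2, g2⟩ := key {3} (by decide) (by decide) (by decide) (by decide) 72 (by decide)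
  obtain ⟨x3, h3, g3⟩ := key {3, 3} (by decide) (by decide) (by decide) (by decide) 18 (by decide)
  obtain ⟨x4, h4, g4⟩ := key {4, 2} (by decide) (by decide) (by decide) (by decide) 8 (by decide)
  obtain ⟨x5, h5, g5⟩ := key {5} (by decide) (by decide) (by decide) (by decide) 10 (by decide)
  refine five_false F ![x1, x2, x3, x4, x5] (fun i => ?_) fun i j h => ?_
  · fin_cases i
    exacts [h1, h2, h3, h4, h5]
  · have hcc : ∀ a b : G, cI a = cI b → Nat.card (C a) = Nat.card (C b) := fun a b hab =>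
      Nat.eq_of_mul_eq_mul_right (RankThree.cI_pos a) (by
        rw [show Nat.card (C a) * cI a = Nat.card G from (C a).card_mul_index, hab]
        exact (C b).card_mul_index.symm)
    have h' := hcc _ _ h
    fin_cases i <;> fin_cases j <;> first | rfl | (simp at h'; omega)

/-- For `PSL(2, q)` four sizes force `q` odd and at least seven. -/
theorem psl_range {K : Type} [Field K] [Fintype K] (e : G ≃* Matrix.ProjectiveSpecialLinearGroup (Fin 2) K) :
    Odd (Fintype.card K) ∧ 7 ≤ Fintype.card K := by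
  classical
  set q := Fintype.card K with hq
  have hcard := CfsgLib.Classical.Dickson.gcd_mul_card_psl (F := K) hq.symm
  rw [← Nat.card_congr e.toEquiv] at hcard
  have h1 : 1 < q := Fintype.one_lt_card
  have hq4 : 4 ≤ q := by
    by_contra hlt
    have hc : Nat.card G = 6 ∨ Nat.card G = 12 := by
      rcases (show q = 2 ∨ q = 3 by omega) with e2 | e2 <;> rw [e2] at hcard
      · rw [show Nat.gcd 2 (2 - 1) = 1 from rfl, one_mul] at hcard
        exact Or.inl (by omega)
      · rw [show Nat.gcd 2 (3 - 1) = 2 from rfl] at hcard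
        exact Or.inr (by omega)
    refine RankThree.not_solvable F.na (CfsgLib.Recog.Sixty.isSolvable_of_dvd_sixty ?_ (by omega))
    rcases hc with e2 | e2 <;> rw [e2] <;> norm_num
  -- groups `PSL(2, 2^n)` have three sizes
  have heven : ∀ (L : Type) (_ : Field L) (_ : Fintype L), 2 ∣ Fintype.card L → 4 ≤ Fintype.card L →
      (G ≃* Matrix.ProjectiveSpecialLinearGroup (Fin 2) L) → False := by
    intro L _ _ h2 h4 f
    have hr := Cfsg.Agent.S2507.result (F := L) h2 h4
    have hsub : {m : ℕ | ∃ y : G, y ≠ 1 ∧ cI y = m} ⊆ ({Fintype.card L * (Fintype.card L - 1),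
        Fintype.card L ^ 2 - 1, Fintype.card L * (Fintype.card L + 1)} : Set ℕ) := by
      rintro _ ⟨y, hy, rfl⟩
      have h := hr.subset ⟨f y, rfl⟩
      simp only at h
      rw [show (centralizer ({f y} : Set _)).index = cI y from cI_equiv f y] at h
      exact h.resolve_left (RankThree.cI_ne_one F.na hy)
    have h3 := Set.ncard_le_ncard hsub ((Set.finite_singleton _).insert _ |>.insert _)
    rw [F.card] at h3
    have h3' := Set.ncard_insert_le (Fintype.card L * (Fintype.card L - 1))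
      ({Fintype.card L ^ 2 - 1, Fintype.card L * (Fintype.card L + 1)} : Set ℕ)
    have h2' := Set.ncard_insert_le (Fintype.card L ^ 2 - 1) ({Fintype.card L * (Fintype.card L + 1)} : Set ℕ)
    rw [Set.ncard_singleton] at h2'
    omega
  have hodd : Odd q := by
    rw [← Nat.not_even_iff_odd, even_iff_two_dvd]
    exact fun h => heven K inferInstance inferInstance h hq4 e
  refine ⟨hodd, ?_⟩
  by_contra hlt
  have h5 : q = 5 := by
    obtain ⟨j, hj⟩ := hodd
    omega
  haveI : Fact (Nat.Prime 2) := ⟨Nat.prime_two⟩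
  letI : Fintype (GaloisField 2 2) := Fintype.ofFinite _
  have h4 : Fintype.card (GaloisField 2 2) = 4 := by
    rw [← Nat.card_eq_fintype_card, GaloisField.card 2 2 two_ne_zero]; norm_num
  haveI := CfsgLib.Classical.isSimpleGroup_PSL_two (F := GaloisField 2 2) h4.ge
  have hc4 := CfsgLib.Classical.Dickson.gcd_mul_card_psl (F := GaloisField 2 2) h4
  rw [h5] at hcard
  rw [show Nat.gcd 2 (5 - 1) = 2 from rfl] at hcard
  rw [show Nat.gcd 2 (4 - 1) = 1 from rfl, one_mul] at hc4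
  obtain ⟨e1⟩ := CfsgLib.Recog.Sixty.iso_alt_five (G := G) (by omega)
  obtain ⟨e2⟩ := CfsgLib.Recog.Sixty.iso_alt_five
    (G := Matrix.ProjectiveSpecialLinearGroup (Fin 2) (GaloisField 2 2)) (by omega)
  exact heven (GaloisField 2 2) inferInstance inferInstance (by rw [h4]; norm_num) h4.ge (e1.trans e2.symm)

end CfsgLib.Recog.RankFour
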