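import Cfsg.Agent.Lib.Recog.RankFour.Basic

/-!
# A size with two proper multiples

If two sizes are proper multiples of a third, `c`, the fourth size `f` is isolated and prime to `c`, and the centraliser
of an element of size `f` is an abelian CC Hall subgroup of order `c`.
-/

set_option autoImplicit false
set_option linter.all false

namespace CfsgLib.Recog.RankFour

open Subgroup
open CfsgLib.Recog.ClassSizesPSL (cI cC IsREl)
open CfsgLib.Recog.RankThree (IsCCHall)

variable {G : Type*} [Group G] [Finite G]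

theorem dvd_orderOf {s : ℕ} (hs : s.Prime) {x : G} (hx : IsREl s x) (hx1 : x ≠ 1) : s ∣ orderOf x := by
  obtain ⟨k, hk⟩ := hx.orderOf_eq hs
  rcases k with _ | k
  · exact absurd (orderOf_eq_one_iff.1 (by simpa using hk)) hx1
  · exact hk ▸ dvd_pow_self s k.succ_ne_zero

theorem exists_prime_ne {c t : ℕ} (hc : c ≠ 0) (hnp : ∀ i, c ≠ t ^ i) : ∃ r, r.Prime ∧ r ∣ c ∧ r ≠ t := by
  by_contra h
  push Not at h
  obtain ⟨i, hi⟩ := eq_of_primes hc h
  exact hnp i hi

/-- The centraliser of an element of isolated size. -/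
theorem cc_of_isolated {f c t : ℕ} (ht : t.Prime) {y : G} (hy : IsREl t y) (hy1 : y ≠ 1) (hyf : cI y = f)
    (hmax : IsMax G f) (hmin : ∀ z : G, z ≠ 1 → cI z ∣ f → cI z = f) (hc : c ∣ Nat.card G)
    (hco : c.Coprime f) (hnp : ∀ i, c ≠ t ^ i) : IsCCHall (C y) := by
  have hmax' : IsMax G (cI y) := by rw [hyf]; exact hmax
  have hcd : c ∣ Nat.card (C y) := by
    rw [← (C y).card_mul_index, show (C y).index = f from hyf] at hc
    exact hco.dvd_of_dvd_mul_right hc
  have eqC : ∀ h : G, h ≠ 1 → C y ≤ C h → C h = C y := fun h hh hle =>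
    (ClassSizesPSL.eq_of_le_of_cI_eq hle
      (hyf.trans (hmin h hh (hyf ▸ ClassSizesPSL.cI_dvd hle)).symm)).symm
  obtain ⟨r, hr, hrc, hrt⟩ := exists_prime_ne (fun e => by rw [e, zero_dvd_iff] at hcd; exact Nat.card_pos.ne' hcd) hnp
  obtain ⟨g, hgC, -, hgr, hg1⟩ := exists_mem_prime hr (hrc.trans hcd)
  have hCg : C g = C y := eqC g hg1
    (le_of_max ht hy hy1 hmax' (mem_C.1 hgC) (coprime_of_rEl ht hr hrt hgr))
  have hgf : cI g = f := by
    show (C g).index = f
    rw [hCg]; exact hyf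
  have hcomm : ∀ a ∈ C y, ∀ b ∈ C y, a * b = b * a := by
    intro a ha b hb
    have : a ∈ centralizer ((C y : Subgroup G) : Set G) := ClassSizes.TwoSizes.mem_of_primary _ a
      fun w hw q k hq hk => by
        have hwC : w ∈ C y := (zpowers_le.2 ha) hw
        have hwq : IsREl q w := ClassSizesPSL.isREl_of_orderOf hk
        have hle : C y ≤ C w := by
          by_cases hqt : q = t
          · rw [← hCg]
            exact le_of_max hr hgr hg1 (by rw [hgf]; exact hmax) (mem_C.1 (hCg.symm ▸ hwC))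
              (coprime_of_rEl hr hq (fun e => hrt (e.symm.trans hqt)) hwq)
          · exact le_of_max ht hy hy1 hmax' (mem_C.1 hwC) (coprime_of_rEl ht hq hqt hwq)
        exact mem_centralizer_iff.2 fun v hv => (mem_C.1 (hle hv)).eq
    exact (mem_centralizer_iff.1 this b hb).symm
  refine ⟨fun e => hy1 (mem_bot.1 (e ▸ mem_C_self y)), ⟨⟨fun a b => Subtype.ext (hcomm a a.2 b b.2)⟩⟩,
    fun h hh h1 => eqC h h1 fun v hv => mem_C.2 (hcomm v hv h hh), ?_⟩
  refine Nat.coprime_of_dvd fun p hp hpH hpi => ?_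
  haveI := Fact.mk hp
  obtain ⟨h, hhC, -, hhp, hh1⟩ := exists_mem_prime hp hpH
  obtain ⟨P, hP⟩ := hhp.isPGroup_zpowers.exists_le_sylow
  have hhP : h ∈ (P : Subgroup G) := hP (mem_zpowers h)
  haveI : Nontrivial (P : Subgroup G) := (nontrivial_iff_ne_bot _).2 fun e => hh1 (mem_bot.1 (e ▸ hhP))
  haveI := P.2.center_nontrivial
  obtain ⟨z, hz⟩ := exists_ne (1 : center (P : Subgroup G))
  have hz1 : ((z : (P : Subgroup G)) : G) ≠ 1 := fun e => hz (Subtype.ext (Subtype.ext e))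
  have hPz : (P : Subgroup G) ≤ C ((z : (P : Subgroup G)) : G) := fun a ha =>
    mem_C.2 (congrArg Subtype.val (mem_center_iff.1 z.2 ⟨a, ha⟩))
  have hCh : C h = C y := eqC h hh1 fun v hv => mem_C.2 (hcomm v hv h hhC)
  have hzy : ((z : (P : Subgroup G)) : G) ∈ C y := hCh ▸ mem_C.2 (mem_C.1 (hPz hhP)).symm
  rw [eqC _ hz1 fun v hv => mem_C.2 (hcomm v hv _ hzy)] at hPz
  exact P.not_dvd_index (hpi.trans (index_dvd_of_le hPz))

/-- What two proper multiples of a size `c` leave. -/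
structure IsFork (G : Type*) [Group G] (c d e f : ℕ) (H : Subgroup G) : Prop where
  hall : IsCCHall H
  card : Nat.card H = c
  index : H.index = f
  val : ∀ z : G, z ≠ 1 → cI z = c ∨ cI z = d ∨ cI z = e ∨ cI z = f
  vc : Val G c
  vf : Val G f
  cd : c ∣ d
  ce : c ∣ e
  dc : d ≠ c
  ec : e ≠ c
  de : d ≠ e
  co : c.Coprime f
  min : ∀ z : G, z ≠ 1 → cI z ∣ c → cI z = c

variable [IsSimpleGroup G]

theorem exists_fork (F : Four G) {c d e : ℕ} (hc : Val G c) (hd : Val G d) (he : Val G e) (hcd : c ∣ d) (hce : c ∣ e)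
    (hdc : d ≠ c) (hec : e ≠ c) (hde : d ≠ e) : ∃ (f : ℕ) (H : Subgroup G), IsFork G c d e f H := by
  obtain ⟨f, hf, hfc, hfd, hfe, hval⟩ := F.fourth hc hd he hdc.symm hec.symm hde
  have hc1 := F.one_lt hc
  have hf1 := F.one_lt hf
  have hco : c.Coprime f := Nat.coprime_of_dvd fun r hr hrc hrf => by
    obtain ⟨z, hz, hzn⟩ := RankThree.exists_not_dvd hr (hrc.trans (dvd_card hc))
    rcases hval z hz with h | h | h | h <;> rw [h] at hzn
    exacts [hzn hrc, hzn (hrc.trans hcd), hzn (hrc.trans hce), hzn hrf]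
  have hncf : ¬ c ∣ f := fun h => hc1.ne' (Nat.Coprime.eq_one_of_dvd hco h)
  have hnfc : ¬ f ∣ c := fun h => hf1.ne' (Nat.Coprime.eq_one_of_dvd hco.symm h)
  have hminc : ∀ z : G, z ≠ 1 → cI z ∣ c → cI z = c := fun z hz h => by
    rcases hval z hz with e' | e' | e' | e' <;> rw [e'] at h ⊢
    · exact absurd (Nat.dvd_antisymm h hcd) hdc
    · exact absurd (Nat.dvd_antisymm h hce) hec
    · exact absurd h hnfc
  have hminf : ∀ z : G, z ≠ 1 → cI z ∣ f → cI z = f := fun z hz h => by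
    rcases hval z hz with e' | e' | e' | e' <;> rw [e'] at h ⊢
    · exact absurd h hncf
    · exact absurd (hcd.trans h) hncf
    · exact absurd (hce.trans h) hncf
  obtain ⟨x0, hx0, hx0c⟩ := id hc
  obtain ⟨y0, hy0, hy0f⟩ := id hf
  obtain ⟨s, x, hs, hxs, hx, hxc⟩ := RankThree.exists_primary_of_min F.na hminc hx0 hx0c
  obtain ⟨t, y, ht, hyt, hy, hyf⟩ := RankThree.exists_primary_of_min F.na hminf hy0 hy0f
  have hco' : (cI x).Coprime (cI y) := by rw [hxc, hyf]; exact hco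
  have hst : s ≠ t := fun h => RankThree.not_same_prime F.na hs hx hy hxs (h ▸ hyt) hco'
  have hnc : ¬ Commute x y := RankThree.not_commute F.na hx hy hco'
  have hnp : ∀ i, c ≠ t ^ i := fun i => hxc ▸ RankThree.not_prime_pow F.na hx ht i
  obtain ⟨hinf, -⟩ := RankThree.index_inf_of_coprime (A := C x) (B := C y) hco'
  rw [show (C x).index = c from hxc, show (C y).index = f from hyf] at hinf
  have hG : Nat.card ↥(C x ⊓ C y) * (c * f) = Nat.card G := by rw [← hinf, card_mul_index]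
  by_cases hiso : ¬ f ∣ d ∧ ¬ f ∣ e
  · have hmax : IsMax G f := fun z hz h => by
      rcases hval z hz with e' | e' | e' | e' <;> rw [e'] at h ⊢
      · exact absurd h hnfc
      · exact absurd h hiso.1
      · exact absurd h hiso.2
    have hH := cc_of_isolated ht hyt hy hyf hmax hminf (dvd_card hc) hco hnp
    have hbot : C x ⊓ C y = ⊥ := by
      rw [eq_bot_iff]
      rintro g ⟨hgx, hgy⟩
      rw [mem_bot]
      by_contra hg
      exact hnc (mem_C.1 ((hH.cent g hgy hg).le (mem_C.2 (mem_C.1 hgx).symm) : x ∈ C y))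
    rw [hbot, card_bot, one_mul] at hG
    refine ⟨f, C y, hH, ?_, hyf, hval, hc, hf, hcd, hce, hdc, hec, hde, hco, hminc⟩
    have h := (C y).card_mul_index
    rw [show (C y).index = f from hyf, ← hG] at h
    exact Nat.eq_of_mul_eq_mul_right (by omega) h
  exfalso
  set D := C x ⊓ C y with hD
  have hvD : ∀ g ∈ D, g ≠ 1 → cI g = d ∨ cI g = e := by
    rintro g ⟨hgx, hgy⟩ hg
    rcases hval g hg with h | h | h | h
    · exact absurd (mem_C.1 hgy) (RankThree.not_commute F.na hg hy (by rw [h, hyf]; exact hco))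
    · exact Or.inl h
    · exact Or.inr h
    · exact absurd (mem_C.1 hgx) (RankThree.not_commute F.na hg hx (by rw [h, hxc]; exact hco.symm))
  have hnotmax : ∀ g ∈ D, g ≠ 1 → ∀ p, p.Prime → IsREl p g → ¬ IsMax G (cI g) := fun g hg hg1 p hp hgp hmax =>
    hnc (commute_of_max hp hs ht hst hgp hg1 hmax hxs hyt (mem_C.1 hg.1).symm (mem_C.1 hg.2).symm)
  obtain ⟨v, hv, hvf⟩ : ∃ v, (v = d ∨ v = e) ∧ f ∣ v := by
    rcases Classical.not_and_iff_not_or_not.1 hiso with h | h
    exacts [⟨d, Or.inl rfl, Classical.not_not.1 h⟩, ⟨e, Or.inr rfl, Classical.not_not.1 h⟩]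
  obtain ⟨p0, g0, hp0, hg0p, hg0, hg01⟩ : ∃ (p : ℕ) (g : G), p.Prime ∧ IsREl p g ∧ g ∈ D ∧ g ≠ 1 := by
    have hne : Nat.card D ≠ 1 := fun h1 => by
      rw [h1, one_mul] at hG
      have hcv : c * f ∣ v := hco.mul_dvd_of_dvd_of_dvd (by rcases hv with rfl | rfl; exacts [hcd, hce]) hvf
      have hvv : Val G v := by rcases hv with rfl | rfl; exacts [hd, he]
      have := Nat.le_of_dvd (by have := F.one_lt hvv; omega) hcv
      have := F.lt_card hvv
      omega
    obtain ⟨p, hp, hpD⟩ := Nat.exists_prime_and_dvd hne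
    obtain ⟨g, hg, -, hgp, hg1⟩ := exists_mem_prime hp hpD
    exact ⟨p, g, hp, hgp, hg, hg1⟩
  -- `d0` is the size of the primary elements of `D`, and `e0` its proper multiple
  obtain ⟨d0, e0, hd0, hd0e0, hne0, hcd0, hval'⟩ : ∃ d0 e0, cI g0 = d0 ∧ d0 ∣ e0 ∧ d0 ≠ e0 ∧ c ∣ d0 ∧
      ∀ z : G, z ≠ 1 → cI z = c ∨ cI z = d0 ∨ cI z = e0 ∨ cI z = f := by
    have h := hnotmax g0 hg0 hg01 p0 hp0 hg0p
    simp only [IsMax, not_forall] at h
    obtain ⟨z, hz, hdvd, hne⟩ := h
    rcases hvD g0 hg0 hg01 with h0 | h0 <;> rw [h0] at hdvd hne <;>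
      rcases hval z hz with h' | h' | h' | h' <;> rw [h'] at hdvd hne
    · exact absurd (Nat.dvd_antisymm hdvd hcd) hdc
    · exact absurd rfl hne
    · exact ⟨d, e, h0, hdvd, hde, hcd, hval⟩
    · exact absurd (hcd.trans hdvd) hncf
    · exact absurd (Nat.dvd_antisymm hdvd hce) hec
    · exact ⟨e, d, h0, hdvd, hde.symm, hce, fun z hz => by
        rcases hval z hz with a | a | a | a <;> simp [a]⟩
    · exact absurd rfl hne
    · exact absurd (hce.trans hdvd) hncf
  have hd0c : d0 ≠ c := fun h => by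
    rcases hvD g0 hg0 hg01 with e' | e' <;> rw [hd0, h] at e'
    exacts [hdc e'.symm, hec e'.symm]
  have hnd0c : ¬ d0 ∣ c := fun h => hd0c (Nat.dvd_antisymm h hcd0)
  have hnd0f : ¬ d0 ∣ f := fun h => hncf (hcd0.trans h)
  have hup : Upper G d0 e0 := fun z hz h => by
    rcases hval' z hz with e' | e' | e' | e' <;> rw [e'] at h ⊢
    · exact absurd h hnd0c
    · exact Or.inl rfl
    · exact Or.inr rfl
    · exact absurd h hnd0f
  have hne0d : ¬ e0 ∣ d0 := fun h => hne0 (Nat.dvd_antisymm hd0e0 h)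
  have hmaxe : IsMax G e0 := fun z hz h => by
    rcases hup z hz (hd0e0.trans h) with e' | e'
    · exact absurd (e' ▸ h) hne0d
    · exact e'
  have hv0 : ∀ g ∈ D, g ≠ 1 → ∀ p, p.Prime → IsREl p g → cI g = d0 := fun g hg hg1 p hp hgp => by
    rcases hval' g hg1 with h | h | h | h
    · exact absurd (mem_C.1 hg.2) (RankThree.not_commute F.na hg1 hy (by rw [h, hyf]; exact hco))
    · exact h
    · exact absurd (by rw [h]; exact hmaxe) (hnotmax g hg hg1 p hp hgp)
    · exact absurd (mem_C.1 hg.1) (RankThree.not_commute F.na hg1 hx (by rw [h, hxc]; exact hco.symm))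
  have hfe0 : f ∣ e0 := by
    have hvv : Val G v := by rcases hv with rfl | rfl; exacts [hd, he]
    obtain ⟨z, hz, hzv⟩ := hvv
    rcases hval' z hz with h | h | h | h <;> rw [hzv] at h
    · exact absurd (h ▸ hvf) hnfc
    · exact (h ▸ hvf).trans hd0e0
    · exact h ▸ hvf
    · rcases hv with rfl | rfl
      exacts [absurd h.symm hfd, absurd h.symm hfe]
  have hce0 : c ∣ e0 := hcd0.trans hd0e0
  have hcfe0 : c * f ∣ e0 := hco.mul_dvd_of_dvd_of_dvd hce0 hfe0
  have hcard : ∀ w : G, c * f ∣ cI w → Nat.card (C w) ∣ Nat.card D := fun w ⟨j, hj⟩ => by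
    refine ⟨j, Nat.eq_of_mul_eq_mul_right (show 0 < c * f by positivity) ?_⟩
    have h := (C w).card_mul_index
    rw [show (C w).index = c * f * j from hj, ← hG] at h
    rw [← h]; ring
  have step : ∀ g ∈ D, g ≠ 1 → ∀ p, p.Prime → IsREl p g → ∀ (q : ℕ) (z w : G), q.Prime → IsREl q z → z ≠ 1 →
      q ≠ p → Commute z g → Commute w g → ¬ Commute w z → q ∣ Nat.card D := by
    intro g hg hg1 p hp hgp q z w hq hzq hz1 hqp hzg hwg hwz
    have hv := hv0 g hg hg1 p hp hgp
    have hco2 := coprime_of_rEl hp hq hqp hzq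
    rcases rI_cases hp hgp hg1 (d := e0) (by rw [hv]; exact hup) hzg hco2 with h | h
    · exact absurd (mem_C.1 (rI_eq_one_iff.1 h (mem_C.2 hwg))) hwz
    · rw [rI_mul hp hgp hzg hco2] at h
      refine ((dvd_orderOf hq hzq hz1).trans (orderOf_dvd_natCard (C (g * z)) ?_)).trans
        (hcard (g * z) (h ▸ hcfe0))
      exact mem_C.2 (Commute.mul_right hzg (Commute.refl z))
  have hboth : s ∣ Nat.card D ∧ t ∣ Nat.card D := by
    have hsx : ∀ g ∈ D, g ≠ 1 → ∀ p, p.Prime → IsREl p g → s ≠ p → s ∣ Nat.card D := fun g hg hg1 p hp hgp h =>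
      step g hg hg1 p hp hgp s x y hs hxs hx h (mem_C.1 hg.1).symm (mem_C.1 hg.2).symm (fun e' => hnc e'.symm)
    have hty : ∀ g ∈ D, g ≠ 1 → ∀ p, p.Prime → IsREl p g → t ≠ p → t ∣ Nat.card D := fun g hg hg1 p hp hgp h =>
      step g hg hg1 p hp hgp t y x ht hyt hy h (mem_C.1 hg.2).symm (mem_C.1 hg.1).symm hnc
    by_cases h : s = p0
    · have htd := hty g0 hg0 hg01 p0 hp0 hg0p (fun e' => hst (h.trans e'.symm))
      obtain ⟨g, hg, -, hgp, hg1⟩ := exists_mem_prime ht htd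
      exact ⟨hsx g hg hg1 t ht hgp hst, htd⟩
    · have hsd := hsx g0 hg0 hg01 p0 hp0 hg0p h
      obtain ⟨g, hg, -, hgp, hg1⟩ := exists_mem_prime hs hsd
      exact ⟨hsd, hty g hg hg1 s hs hgp hst.symm⟩
  have hnfd0 : ¬ f ∣ d0 := by
    intro h
    haveI := Fact.mk hs
    obtain ⟨R0⟩ := (inferInstance : Nonempty (Sylow s D))
    set R := (R0 : Subgroup D).map D.subtype with hR
    have hRD : R ≤ D := map_subtype_le _
    have hRc : Nat.card R = Nat.card R0 := (Nat.card_congr (equivMapOfInjective (R0 : Subgroup D) _ (subtype_injective _)).toEquiv).symm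
    haveI : Nontrivial (R0 : Subgroup D) := by
      rw [nontrivial_iff_ne_bot]
      intro e'
      have h' := R0.dvd_card_of_dvd_card hboth.1
      rw [e', card_bot] at h'
      exact hs.not_dvd_one h'
    haveI := R0.2.center_nontrivial
    obtain ⟨z, hz⟩ := exists_ne (1 : center (R0 : Subgroup D))
    set g : G := (((z : (R0 : Subgroup D)) : D) : G) with hgdef
    have hg1 : g ≠ 1 := fun e' => hz (Subtype.ext (Subtype.ext (Subtype.ext e')))
    have hgR : g ∈ R := ⟨_, (z : (R0 : Subgroup D)).2, rfl⟩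
    have hgs : IsREl s g := isREl_of_mem (R0.2.map _) hgR
    have hRg : R ≤ C g := by
      rintro _ ⟨a, ha, rfl⟩
      exact mem_C.2 (congrArg (fun w : (R0 : Subgroup D) => ((w : D) : G)) (mem_center_iff.1 z.2 ⟨a, ha⟩))
    have hgv := hv0 g (hRD hgR) hg1 s hs hgs
    have hxR : zpowers x ≤ normalizer (R : Set G) := by
      rw [zpowers_le, mem_normalizer_iff]
      intro a
      have key : ∀ b ∈ R, x * b * x⁻¹ = b := fun b hb => by
        rw [← (mem_C.1 (hRD hb).1).eq, mul_inv_cancel_right]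
      refine ⟨fun ha => by rwa [key a ha], fun ha => ?_⟩
      have h' := key _ ha
      have h'' : x * a * x⁻¹ = a := mul_left_cancel (mul_right_cancel h')
      rwa [h''] at ha
    have hp : IsPGroup s ↥(zpowers x ⊔ R) := hxs.isPGroup_zpowers.to_sup_of_normal_right' (R0.2.map _) hxR
    have hle : zpowers x ⊔ R ≤ C g := sup_le (zpowers_le.2 (mem_C.2 (mem_C.1 (hRD hgR).1).symm)) hRg
    obtain ⟨m, hm⟩ := IsPGroup.iff_card.1 hp
    have hd' : Nat.card ↥(zpowers x ⊔ R) ∣ Nat.card D :=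
      (card_dvd_of_le hle).trans (hcard g (hgv.symm ▸ hco.mul_dvd_of_dvd_of_dvd hcd0 h))
    rw [hm] at hd'
    have heq : R = zpowers x ⊔ R := eq_of_le_of_card_ge le_sup_right (by
      rw [hm, hRc]
      exact Nat.le_of_dvd Nat.card_pos (R0.pow_dvd_card_of_pow_dvd_card hd'))
    exact hnc (mem_C.1 (hRD (heq.symm ▸ (mem_sup_left (mem_zpowers x) : x ∈ zpowers x ⊔ R) : x ∈ R)).2)
  have hupf : Upper G f e0 := fun z hz h => by
    rcases hval' z hz with e' | e' | e' | e' <;> rw [e'] at h ⊢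
    · exact absurd h hnfc
    · exact absurd h hnfd0
    · exact Or.inr rfl
    · exact Or.inl rfl
  obtain ⟨k, hk⟩ := hfe0
  obtain ⟨g, hg, -, hgs, hg1⟩ := exists_mem_prime hs hboth.1
  have hgv := hv0 g hg hg1 s hs hgs
  have hnle : ¬ C y ≤ C g := fun h =>
    hnd0f (by rw [← hgv, ← hyf]; exact ClassSizesPSL.cI_dvd h)
  have hck : c ∣ k := Nat.dvd_of_mul_dvd_mul_left (k := f) (by omega) (by rw [← hk, mul_comm]; exact hcfe0)
  have hk1 : k ≠ 1 := fun h => hc1.ne' (Nat.eq_one_of_dvd_one (h ▸ hck))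
  have hyup : Upper G (cI y) e0 := by rw [hyf]; exact hupf
  have hcy : ∀ z, Commute z y → (orderOf z).Coprime t → rI y z = 1 ∨ rI y z = k := fun z hz hzc =>
    (rI_cases ht hyt hy hyup hz hzc).imp id fun h =>
      Nat.eq_of_mul_eq_mul_right (show 0 < cI y by omega) (by rw [h, hk, hyf, mul_comm])
  have hgy : rI y g = k := (hcy g (mem_C.1 hg.2) (coprime_of_rEl ht hs hst hgs)).resolve_left
    fun h => hnle (rI_eq_one_iff.1 h)
  rcases two_size ht hk1 hcy ⟨g, mem_C.1 hg.2, coprime_of_rEl ht hs hst hgs, hgy⟩ with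
    ⟨⟨i, hi⟩, -⟩ | ⟨-, q, hq, hqt, hcen, hkp⟩
  · obtain ⟨j, -, hj⟩ := (Nat.dvd_prime_pow ht).1 (hi ▸ hck)
    exact hnp j hj
  have hsq : s = q := by
    by_contra hsq
    exact hnle (hcen g (mem_C.1 hg.2) (Nat.Coprime.mul_right (coprime_of_rEl ht hs hst hgs)
      (coprime_of_rEl hq hs hsq hgs)))
  have hprimes : ∀ r, r.Prime → r ∣ c → r = t ∨ r = s := fun r hr h => hsq ▸ hkp r hr (h.trans hck)
  have hsc : s ∣ c := by
    obtain ⟨r, hr, hrc, hrt⟩ := exists_prime_ne (by omega) hnp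
    exact ((hprimes r hr hrc).resolve_left hrt) ▸ hrc
  have htc : t ∣ c := by
    obtain ⟨r, hr, hrc, hrs⟩ := exists_prime_ne (c := c) (t := s) (by omega)
      (fun i => hxc ▸ RankThree.not_prime_pow F.na hx hs i)
    exact ((hprimes r hr hrc).resolve_right hrs) ▸ hrc
  obtain ⟨l, hl⟩ := hd0e0
  have hgup : Upper G (cI g) e0 := by rw [hgv]; exact hup
  have hcg : ∀ z, Commute z g → (orderOf z).Coprime s → rI g z = 1 ∨ rI g z = l := fun z hz hzc =>
    (rI_cases hs hgs hg1 hgup hz hzc).imp id fun h =>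
      Nat.eq_of_mul_eq_mul_right (RankThree.cI_pos g) (by rw [h, hl, hgv, mul_comm])
  have hyg : Commute y g := (mem_C.1 hg.2).symm
  have hnle' : ¬ C g ≤ C y := fun h => hnc (mem_C.1 (h (mem_C.2 (mem_C.1 hg.1).symm)))
  have hgy' : rI g y = l := (hcg y hyg (coprime_of_rEl hs ht hst.symm hyt)).resolve_left
    fun h => hnle' (rI_eq_one_iff.1 h)
  have hl1 : l ≠ 1 := fun h => hne0 (by rw [hl, h, mul_one])
  have hlp : ∀ r, r.Prime → r ∣ l → r ∣ c := by
    intro r hr hrl
    rcases two_size hs hl1 hcg ⟨y, hyg, coprime_of_rEl hs ht hst.symm hyt, hgy'⟩ with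
      ⟨⟨i, hi⟩, -⟩ | ⟨-, q', hq', hq's, hcen', hlp'⟩
    · rw [hi] at hrl
      exact (Nat.prime_dvd_prime_iff_eq hr hs).1 (hr.dvd_of_dvd_pow hrl) ▸ hsc
    · have htq : t = q' := by
        by_contra htq
        exact hnle' (hcen' y hyg (Nat.Coprime.mul_right (coprime_of_rEl hs ht hst.symm hyt)
          (coprime_of_rEl hq' ht htq hyt)))
      rcases hlp' r hr hrl with rfl | rfl
      exacts [hsc, htq ▸ htc]
  refine hnfd0 (Nat.Coprime.dvd_of_dvd_mul_right (Nat.coprime_of_dvd fun r hr hrf hrl => ?_) (hl ▸ ⟨k, hk⟩ : f ∣ d0 * l))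
  exact hr.not_dvd_one (hco ▸ Nat.dvd_gcd (hlp r hr hrl) hrf)

end CfsgLib.Recog.RankFour
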