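import Cfsg.Agent.Lib.Recog.RankFour.Fork
import Cfsg.Agent.Lib.Recog.RankThree.Fixed
import Cfsg.Agent.Lib.Recog.RankThree.Fork

/-!
# No size has two proper multiples

With a fork the elements of size `c` are axes of the involutions: every involution centralises the centraliser of
exactly one of them.  Two involutions in one coset of such a centraliser give a real element of odd size unless it
commutes with two axes, which cannot commute.
-/

set_option autoImplicit false
set_option linter.all false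

namespace CfsgLib.Recog.RankFour

open Subgroup
open CfsgLib.Recog.ClassSizesPSL (cI cC IsREl inverters)
open CfsgLib.Recog.RankThree (IsCCHall)
open CfsgLib.Signalizer (involution_sq involution_inv involution_ne_one orderOf_eq_two_of orderOf_conj)

variable {G : Type*} [Group G] [Finite G]

theorem conj_mem_sylow {p : ℕ} [Fact p.Prime] {P : Subgroup G} (hP : IsPGroup p P) (S : Sylow p G) :
    ∃ q : G, ∀ a ∈ P, q * a * q⁻¹ ∈ (S : Subgroup G) := by
  obtain ⟨T, hT⟩ := hP.exists_le_sylow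
  obtain ⟨q, hq⟩ := MulAction.exists_smul_eq G T S
  refine ⟨q, fun a ha => ?_⟩
  rw [← hq, Sylow.coe_subgroup_smul, mem_pointwise_smul_iff_inv_smul_mem,
    show (MulAut.conj q)⁻¹ • (q * a * q⁻¹) = a from by
      rw [MulAut.smul_def, MulAut.conj_inv_apply]; group]
  exact hT ha

/-- An involution of odd size lies in the centre of a Sylow 2-subgroup. -/
theorem exists_sylow_centre {t : G} (ht : orderOf t = 2) (hodd : ¬ 2 ∣ cI t) :
    ∃ S : Sylow 2 G, (S : Subgroup G) ≤ C t ∧ t ∈ (S : Subgroup G) := by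
  haveI : Fact (Nat.Prime 2) := ⟨Nat.prime_two⟩
  obtain ⟨S, hS⟩ := ClassSizesPSL.exists_sylow_le (r := 2) (H := C t) hodd
  refine ⟨S, hS, ?_⟩
  have hz : zpowers t ≤ normalizer ((S : Subgroup G) : Set G) := by
    rw [zpowers_le, mem_normalizer_iff]
    intro a
    refine ⟨fun ha => ?_, fun ha => ?_⟩
    · rwa [← (mem_C.1 (hS ha)).eq, mul_inv_cancel_right]
    · have h := mem_C.1 (hS ha)
      have h1 : t * a * t⁻¹ = a := mul_left_cancel (a := t) (mul_right_cancel (b := t⁻¹)
        (show t * (t * a * t⁻¹) * t⁻¹ = t * a * t⁻¹ from by rw [← h.eq, mul_inv_cancel_right]))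
      rwa [h1] at ha
  have hsup : IsPGroup 2 ↥(zpowers t ⊔ (S : Subgroup G)) :=
    (IsPGroup.of_card (n := 1) (by rw [Nat.card_zpowers, ht, pow_one])).to_sup_of_normal_right' S.2 hz
  exact (S.is_maximal' hsup le_sup_right) ▸ mem_sup_left (mem_zpowers t)

/-- Some involution is central in a Sylow 2-subgroup. -/
theorem exists_central_invol (S : Sylow 2 G) (h2 : 2 ∣ Nat.card G) :
    ∃ u : G, orderOf u = 2 ∧ u ∈ (S : Subgroup G) ∧ (S : Subgroup G) ≤ C u := by
  haveI : Fact (Nat.Prime 2) := ⟨Nat.prime_two⟩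
  haveI : Nontrivial (S : Subgroup G) := by
    rw [nontrivial_iff_ne_bot]
    intro e
    have h := S.dvd_card_of_dvd_card h2
    rw [e, card_bot] at h
    omega
  haveI := S.2.center_nontrivial
  obtain ⟨n, hn⟩ := (S.2.to_subgroup (center (S : Subgroup G))).exists_card_eq
  have hc1 : 1 < Nat.card (center (S : Subgroup G)) := Finite.one_lt_card
  obtain ⟨z, hz⟩ := exists_prime_orderOf_dvd_card' 2
    (show 2 ∣ Nat.card (center (S : Subgroup G)) by
      rw [hn] at hc1 ⊢; exact dvd_pow_self 2 fun h0 => by rw [h0] at hc1; simp at hc1)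
  refine ⟨((z : (S : Subgroup G)) : G), by rw [orderOf_coe, orderOf_coe, hz], (z : (S : Subgroup G)).2,
    fun a ha => mem_C.2 (congrArg Subtype.val (mem_center_iff.1 z.2 ⟨a, ha⟩))⟩

variable [IsSimpleGroup G]

theorem two_dvd_card (hna : ¬ IsMulCommutative G) : 2 ∣ Nat.card G := by
  by_contra h
  exact RankThree.not_solvable hna (Cfsg.Agent.S0205.result (Nat.odd_iff.2 (Nat.two_dvd_ne_zero.1 h)))

namespace IsFork

variable {c d e f : ℕ} {H : Subgroup G} (K : IsFork G c d e f H) (F : Four G)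
include K F

theorem odd_c : Odd c := by
  rw [← Nat.not_even_iff_odd, even_iff_two_dvd]
  intro h2
  rw [← K.card] at h2
  obtain ⟨n, hn⟩ := IsPGroup.iff_card.1 (K.hall.isPGroup_two F.na h2)
  obtain ⟨x, hx, hxc⟩ := K.vc
  exact RankThree.not_prime_pow F.na hx Nat.prime_two n (hxc.trans (K.card.symm.trans hn))

theorem unique {x : G} (hx : x ≠ 1) (hxc : cI x = c) (g : G) (hc : Commute x (g * x * g⁻¹)) : g * x * g⁻¹ = x := by
  haveI := Fintype.ofFinite G
  exact RankThree.fixed_unique F.na K.hall hx (hxc.trans K.card.symm) g hc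

/-- An element of size `c` is central in the `p`-subgroups containing it. -/
theorem central_pgroup {p : ℕ} (hp : p.Prime) {x : G} (hx : x ≠ 1) (hxc : cI x = c) {P : Subgroup G}
    (hP : IsPGroup p P) (hxP : x ∈ P) : ∀ a ∈ P, Commute a x := by
  haveI := Fact.mk hp
  haveI := hP.isNilpotent
  set Q := (C x).subgroupOf P with hQ
  have hQtop : Q = ⊤ := by
    by_contra hne
    obtain ⟨g, hgN, hgQ⟩ := SetLike.exists_of_lt
      (Group.normalizerCondition_of_isNilpotent Q (lt_top_iff_ne_top.2 hne))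
    have hxQ : (⟨x, hxP⟩ : P) ∈ Q := mem_C_self x
    have h := (mem_normalizer_iff.1 hgN _).1 hxQ
    have h' : Commute ((g : G) * x * (g : G)⁻¹) x := mem_C.1 h
    have := K.unique F hx hxc g h'.symm
    exact hgQ (mem_C.2 (mul_inv_eq_iff_eq_mul.1 this : (g : G) * x = x * (g : G)))
  intro a ha
  exact mem_C.1 (show (⟨a, ha⟩ : P) ∈ Q by rw [hQtop]; exact mem_top _)

theorem invol_ne_c {t : G} (ht : orderOf t = 2) : cI t ≠ c := by
  intro h
  have hodd : ¬ 2 ∣ cI t := by rw [h]; exact (K.odd_c F).not_two_dvd_nat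
  obtain ⟨S, hS, htS⟩ := exists_sylow_centre ht hodd
  exact RankThree.not_isolated F.na S ht htS fun g hg =>
    K.unique F (involution_ne_one ht) h g (mem_C.1 (hS hg)).symm

theorem invol_ne_f {t : G} (ht : orderOf t = 2) : cI t ≠ f := by
  intro h
  have hc := (C t).card_mul_index
  rw [show (C t).index = f from h, ← H.card_mul_index, K.card, K.index] at hc
  have hd := orderOf_dvd_natCard (C t) (mem_C_self t)
  rw [Nat.eq_of_mul_eq_mul_right (by have := F.one_lt K.vf; omega) hc, ht] at hd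
  exact (K.odd_c F).not_two_dvd_nat hd

theorem invol_cases {t : G} (ht : orderOf t = 2) : cI t = d ∨ cI t = e := by
  rcases K.val t (involution_ne_one ht) with h | h | h | h
  exacts [absurd h (K.invol_ne_c F ht), Or.inl h, Or.inr h, absurd h (K.invol_ne_f F ht)]

theorem not_dvd_cf {v : ℕ} (hv : v = d ∨ v = e) : ¬ v ∣ c ∧ ¬ v ∣ f := by
  have hcv : c ∣ v ∧ v ≠ c := by rcases hv with rfl | rfl; exacts [⟨K.cd, K.dc⟩, ⟨K.ce, K.ec⟩]
  exact ⟨fun h => hcv.2 (Nat.dvd_antisymm h hcv.1),
    fun h => (F.one_lt K.vc).ne' (Nat.Coprime.eq_one_of_dvd K.co (hcv.1.trans h))⟩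

theorem upper {v : ℕ} (hv : v = d ∨ v = e) : ∃ w, Upper G v w := by
  obtain ⟨h1, h2⟩ := K.not_dvd_cf F hv
  refine ⟨if v = d then e else d, fun z hz h => ?_⟩
  rcases hv with rfl | rfl <;> rcases K.val z hz with a | a | a | a <;> rw [a] at h ⊢
  · exact absurd h h1
  · exact Or.inl rfl
  · simp
  · exact absurd h h2
  · exact absurd h h1
  · simp [K.de.symm]
  · exact Or.inl rfl
  · exact absurd h h2

variable {s : ℕ} (hs : s.Prime) {x : G} (hxs : IsREl s x) (hx : x ≠ 1) (hxc : cI x = c)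
include hs hxs hx hxc

theorem s_ne_two : s ≠ 2 := by
  rintro rfl
  obtain ⟨k, hk⟩ := hxs.orderOf_eq hs
  obtain ⟨m, hm⟩ := CfsgLib.CIT.exists_involution_pow hk hx
  exact K.invol_ne_c F hm (K.min _ (involution_ne_one hm)
    (hxc ▸ ClassSizesPSL.cI_dvd (CfsgLib.ClassSizes.TwoSizes.centralizer_le_of_mem (pow_mem (mem_zpowers x) m))))

/-- An involution centralises the centraliser of its axis. -/
theorem cent_le {t a : G} (ht : orderOf t = 2) (ha : IsConj x a) (hta : Commute t a) : C t ≤ C a := by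
  classical
  haveI : Fact (Nat.Prime 2) := ⟨Nat.prime_two⟩
  haveI := Fact.mk hs
  have hconj : ∀ b, IsConj x b → IsREl s b ∧ b ≠ 1 ∧ cI b = c := by
    intro b hb
    obtain ⟨g, rfl⟩ := isConj_iff.1 hb
    exact ⟨hxs.conj g, fun h => hx (conj_eq_one_iff.1 h), (ClassSizesPSL.cI_conj g x).trans hxc⟩
  obtain ⟨R, hR⟩ := ClassSizesPSL.exists_sylow_le (r := 2) (H := C x)
    (show ¬ 2 ∣ cI x by rw [hxc]; exact (K.odd_c F).not_two_dvd_nat)
  obtain ⟨P0⟩ := (inferInstance : Nonempty (Sylow 2 (C t)))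
  set P := (P0 : Subgroup (C t)).map (C t).subtype with hP
  obtain ⟨q, hq⟩ := conj_mem_sylow (P0.2.map (C t).subtype : IsPGroup 2 P) R
  set c0 := q⁻¹ * x * q with hc0
  have hc0x : IsConj x c0 := isConj_iff.2 ⟨q⁻¹, by rw [inv_inv]⟩
  obtain ⟨hc0s, hc01, hc0c⟩ := hconj c0 hc0x
  have hPc : P ≤ C c0 := fun g hg => mem_C.2 (by
    have h := (mem_C.1 (hR (hq g hg))).map (MulAut.conj q⁻¹).toMonoidHom
    simpa [hc0, mul_assoc] using h)
  have htP : t ∈ P := by
    have hz : zpowers (⟨t, mem_C_self t⟩ : C t) ≤ normalizer ((P0 : Subgroup (C t)) : Set (C t)) := by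
      rw [zpowers_le, mem_normalizer_iff]
      intro a
      have e : (⟨t, mem_C_self t⟩ : C t) * a * (⟨t, mem_C_self t⟩ : C t)⁻¹ = a := Subtype.ext (by
        show t * (a : G) * t⁻¹ = a
        rw [← (mem_C.1 a.2).eq, mul_inv_cancel_right])
      rw [e]
    have hsup := (IsPGroup.of_card (n := 1) (by
      rw [Nat.card_zpowers, orderOf_mk, ht, pow_one]) : IsPGroup 2 (zpowers (⟨t, mem_C_self t⟩ : C t))).to_sup_of_normal_right' P0.2 hz
    exact ⟨_, (P0.is_maximal' hsup le_sup_right) ▸ mem_sup_left (mem_zpowers _), rfl⟩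
  have htc0 : Commute c0 t := (mem_C.1 (hPc htP)).symm
  have hts : IsREl 2 t := ⟨1, by rw [pow_one, ← ht, pow_orderOf_eq_one]⟩
  have hs2 := K.s_ne_two F hs hxs hx hxc
  have hco : (orderOf c0).Coprime 2 := coprime_of_rEl Nat.prime_two hs hs2 hc0s
  obtain ⟨w, hw⟩ := K.upper F (K.invol_cases F ht)
  have h2k : ¬ 2 ∣ rI t c0 := fun hd => P0.not_dvd_index (hd.trans (by
    rw [rI, relIndex]
    exact index_dvd_of_le fun g hg => hPc ⟨g, hg, rfl⟩))
  have hsk : ¬ s ∣ rI t c0 := by
    intro hd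
    obtain ⟨Q, hQ⟩ := (hc0s.isPGroup_zpowers.comap_subtype :
      IsPGroup s ((zpowers c0).subgroupOf (C t))).exists_le_sylow
    have hcQ : c0 ∈ (Q : Subgroup (C t)).map (C t).subtype := ⟨⟨c0, mem_C.2 htc0⟩, hQ (mem_zpowers c0), rfl⟩
    refine Q.not_dvd_index (hd.trans ?_)
    rw [rI, relIndex]
    exact index_dvd_of_le fun g hg =>
      mem_C.2 (K.central_pgroup F hs hc01 hc0c (Q.2.map _) hcQ _ ⟨g, hg, rfl⟩)
  have hle : C t ≤ C c0 := by
    by_contra hnle
    have hk1 : rI t c0 ≠ 1 := fun h => hnle (rI_eq_one_iff.1 h)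
    have hcases : ∀ z, Commute z t → (orderOf z).Coprime 2 → rI t z = 1 ∨ rI t z = rI t c0 := by
      intro z hz hzc
      refine (rI_cases Nat.prime_two hts (involution_ne_one ht) hw hz hzc).imp id fun h => ?_
      exact Nat.eq_of_mul_eq_mul_right (RankThree.cI_pos t) (h.trans
        ((rI_cases Nat.prime_two hts (involution_ne_one ht) hw htc0 hco).resolve_left hk1).symm)
    rcases two_size Nat.prime_two hk1 hcases ⟨c0, htc0, hco, rfl⟩ with ⟨⟨i, hi⟩, -⟩ | ⟨-, r, hr, hr2, hcen, hkp⟩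
    · rcases i with _ | i
      · exact hk1 hi
      · exact h2k (hi ▸ dvd_pow_self 2 i.succ_ne_zero)
    · obtain ⟨l, hl, hld⟩ := Nat.exists_prime_and_dvd hk1
      rcases hkp l hl hld with rfl | rfl
      · exact h2k hld
      · by_cases hsl : s = l
        · exact hsk (hsl ▸ hld)
        · exact hnle (hcen c0 htc0 (Nat.Coprime.mul_right hco (coprime_of_rEl hl hs hsl hc0s)))
  have hac : Commute a c0 := mem_C.1 (hle (mem_C.2 hta.symm))
  obtain ⟨g, hg⟩ := isConj_iff.1 (hc0x.symm.trans ha)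
  rw [← hg] at hac
  rw [← hg, K.unique F hc01 hc0c g hac.symm]
  exact hle

theorem axis_unique {t a b : G} (ht : orderOf t = 2) (ha : IsConj x a) (hb : IsConj x b) (hta : Commute t a)
    (htb : Commute t b) : b = a := by
  have h : Commute a b := (mem_C.1 (K.cent_le F hs hxs hx hxc ht ha hta (mem_C.2 htb.symm))).symm
  obtain ⟨g, hg⟩ := isConj_iff.1 (ha.symm.trans hb)
  obtain ⟨r, rfl⟩ := isConj_iff.1 ha
  rw [← hg] at h ⊢
  exact K.unique F (fun h => hx (conj_eq_one_iff.1 h)) ((ClassSizesPSL.cI_conj r x).trans hxc) g h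

omit hs hxs in
/-- Two involutions outside `C(x)` in one of its cosets. -/
theorem exists_pair (huniq : ∀ {t a b : G}, orderOf t = 2 → IsConj x a → IsConj x b → Commute t a → Commute t b → b = a) :
    ∃ v v' : G, orderOf v = 2 ∧ orderOf v' = 2 ∧ v ≠ v' ∧ v ∉ C x ∧ v⁻¹ * v' ∈ C x := by
  classical
  haveI : Fact (Nat.Prime 2) := ⟨Nat.prime_two⟩
  haveI := Fintype.ofFinite (G ⧸ C x)
  obtain ⟨R, hR⟩ := ClassSizesPSL.exists_sylow_le (r := 2) (H := C x)
    (show ¬ 2 ∣ cI x by rw [hxc]; exact (K.odd_c F).not_two_dvd_nat)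
  obtain ⟨u, hu, huR, hRu⟩ := exists_central_invol R (two_dvd_card F.na)
  obtain ⟨g0, hg0, hgu⟩ : ∃ g, g * u * g⁻¹ ∈ (R : Subgroup G) ∧ g * u * g⁻¹ ≠ u := by
    by_contra h
    push Not at h
    exact RankThree.not_isolated F.na R hu huR h
  let us : Bool → G := fun b => if b then u else g0 * u * g0⁻¹
  have hus : ∀ b, orderOf (us b) = 2 ∧ us b ∈ C x := by
    rintro (_ | _)
    · exact ⟨(orderOf_conj g0 u).trans hu, hR hg0⟩
    · exact ⟨hu, hR huR⟩
  have husinj : Function.Injective us := by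
    rintro (_ | _) (_ | _) h
    exacts [rfl, absurd h hgu, absurd h.symm hgu, rfl]
  let Pt := {p : G ⧸ C x // p ≠ ((1 : G) : G ⧸ C x)}
  let v : Pt × Bool → G := fun p => p.1.1.out * us p.2 * p.1.1.out⁻¹
  have hv2 : ∀ p, orderOf (v p) = 2 := fun p => (orderOf_conj _ _).trans (hus p.2).1
  have hvax : ∀ p, Commute (v p) (p.1.1.out * x * p.1.1.out⁻¹) := fun p =>
    (mem_C.1 (hus p.2).2).map (MulAut.conj p.1.1.out).toMonoidHom
  have hax : ∀ p : G ⧸ C x, p.out * x * p.out⁻¹ = x → p = ((1 : G) : G ⧸ C x) := fun p h => by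
    rw [← QuotientGroup.out_eq' p, QuotientGroup.eq, mul_one, inv_mem_iff]
    exact mem_C.2 (mul_inv_eq_iff_eq_mul.1 h)
  have hvM : ∀ p, v p ∉ C x := fun p h =>
    p.1.2 (hax _ (huniq (hv2 p) (IsConj.refl x) (isConj_iff.2 ⟨_, rfl⟩) (mem_C.1 h) (hvax p)))
  have hvinj : Function.Injective v := by
    rintro ⟨p, b⟩ ⟨p', b'⟩ h
    have h1 : p.1 = p'.1 := by
      have he := huniq (hv2 (p, b)) (isConj_iff.2 ⟨p.1.out, rfl⟩) (isConj_iff.2 ⟨p'.1.out, rfl⟩) (hvax (p, b))
        (h.symm ▸ hvax (p', b') : Commute (v (p, b)) (p'.1.out * x * p'.1.out⁻¹))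
      rw [← QuotientGroup.out_eq' p.1, ← QuotientGroup.out_eq' p'.1, QuotientGroup.eq]
      refine mem_C.2 ?_
      show p.1.out⁻¹ * p'.1.out * x = x * (p.1.out⁻¹ * p'.1.out)
      calc p.1.out⁻¹ * p'.1.out * x = p.1.out⁻¹ * (p'.1.out * x * p'.1.out⁻¹) * p'.1.out := by group
        _ = _ := by rw [he]; group
    have h1' : p = p' := Subtype.ext h1
    subst h1'
    exact Prod.ext rfl (husinj (mul_left_cancel (mul_right_cancel h)))
  let φ : Pt × Bool → Pt := fun p => ⟨(v p : G ⧸ C x), fun h => hvM p (by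
    rw [QuotientGroup.eq, mul_one, inv_mem_iff] at h
    exact h)⟩
  have hPt : 0 < Fintype.card Pt := by
    rw [Fintype.card_pos_iff]
    by_contra hno
    rw [not_nonempty_iff] at hno
    have htop : C x = ⊤ := eq_top_iff.2 fun g _ => by
      by_contra hg
      exact hno.false ⟨(g : G ⧸ C x), fun h => hg (by simpa using QuotientGroup.eq.1 h)⟩
    exact RankThree.cI_ne_one F.na hx (index_eq_one.2 htop)
  obtain ⟨a, b, hne, hab⟩ := Fintype.exists_ne_map_eq_of_card_lt φ (by
    rw [Fintype.card_prod, Fintype.card_bool]; omega)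
  exact ⟨v a, v b, hv2 a, hv2 b, fun h => hne (hvinj h), hvM a, QuotientGroup.eq.1 (congrArg Subtype.val hab)⟩

theorem impossible : False := by
  classical
  haveI := Fintype.ofFinite G
  haveI : Fact (Nat.Prime 2) := ⟨Nat.prime_two⟩
  have huniq : ∀ {t a b : G}, orderOf t = 2 → IsConj x a → IsConj x b → Commute t a → Commute t b → b = a :=
    fun ht ha hb h h' => K.axis_unique F hs hxs hx hxc ht ha hb h h'
  obtain ⟨v, v', hv, hv', hne, hvM, hm⟩ := K.exists_pair F hx hxc huniq
  rw [involution_inv hv] at hm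
  set m := v * v' with hmdef
  have hinv : v * m * v⁻¹ = m⁻¹ := by
    rw [hmdef, mul_inv_rev, involution_inv hv, involution_inv hv', ← mul_assoc, involution_sq hv, one_mul]
  have hm1 : m ≠ 1 := fun h => hne (by rw [← involution_inv hv]; exact inv_eq_of_mul_eq_one_right h)
  have hzi : ∀ r ∈ zpowers m, v * r * v⁻¹ = r⁻¹ := by
    intro r hr
    obtain ⟨i, rfl⟩ := mem_zpowers_iff.1 hr
    rw [← conj_zpow, hinv, inv_zpow]
  have hmodd : Odd (orderOf m) := by
    rw [← Nat.not_even_iff_odd, even_iff_two_dvd]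
    intro hd
    set r := m ^ (orderOf m / 2)
    have hr : orderOf r = 2 := orderOf_pow_orderOf_div (orderOf_pos m).ne' hd
    have hvr : Commute v r := by
      have h := hzi r (npow_mem_zpowers m _)
      rw [involution_inv hr] at h
      exact mul_inv_eq_iff_eq_mul.1 h
    have hrx : Commute r x := mem_C.1 (pow_mem hm _)
    exact hvM (K.cent_le F hs hxs hx hxc hr (IsConj.refl x) hrx (mem_C.2 hvr))
  obtain ⟨p, g, hp, hgp, hgm, hgc⟩ := ClassSizesPSL.exists_primary (RankThree.notMem_center F.na hm1)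
  have hg1 : g ≠ 1 := fun h => hgc (h ▸ one_mem _)
  have hgodd : Odd (orderOf g) := hmodd.of_dvd_nat (orderOf_dvd_of_mem_zpowers hgm)
  have hgx : g ∈ C x := (zpowers_le.2 hm) hgm
  have hginv := hzi g hgm
  have hsq : v * g * (v * g) = 1 := by
    calc v * g * (v * g) = v * g * v⁻¹ * g := by rw [involution_inv hv]; group
      _ = 1 := by rw [hginv, inv_mul_cancel]
  have hvg : v * g ≠ 1 := fun h => hvM (by
    rw [show v = g⁻¹ from eq_inv_of_mul_eq_one_left h]
    exact inv_mem hgx)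
  have hmem : v ∈ inverters g := ClassSizesPSL.mem_inverters.2 ⟨hv, orderOf_eq_two_of hvg hsq⟩
  have hg2 : g * g ≠ 1 := fun h => by
    have h' : orderOf g ∣ 2 := orderOf_dvd_of_pow_eq_one (by rw [pow_two, h])
    rcases (Nat.dvd_prime Nat.prime_two).1 h' with e' | e'
    · exact hg1 (orderOf_eq_one_iff.1 e')
    · exact hgodd.not_two_dvd_nat (e' ▸ dvd_rfl)
  have heven : 2 ∣ cI g := by
    obtain ⟨j, hj⟩ := ClassSizesPSL.two_mul_cC_dvd hmem hg2
    rw [← RankThree.cC_mul_cI g, show 2 * cC g * j = cC g * (2 * j) by ring] at hj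
    exact ⟨j, Nat.eq_of_mul_eq_mul_left Nat.card_pos hj⟩
  set x' := v * x * v⁻¹ with hx'
  have hxx' : ¬ Commute x x' := fun h => hvM (mem_C.2 (mul_inv_eq_iff_eq_mul.1 (K.unique F hx hxc v h)))
  have hgx' : Commute x' g := by
    have h := ((mem_C.1 hgx).inv_left).map (MulAut.conj v).toMonoidHom
    simp only [MulEquiv.coe_toMonoidHom, MulAut.conj_apply] at h
    rw [show v * g⁻¹ * v⁻¹ = (v * g * v⁻¹)⁻¹ by group, hginv, inv_inv] at h
    exact h.symm
  have hmax : IsMax G (cI g) := by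
    rcases K.val g hg1 with h | h | h | h
    · rw [h] at heven; exact absurd heven (K.odd_c F).not_two_dvd_nat
    all_goals
      first
      | (exfalso
         have hco : ¬ (orderOf g).Coprime (Nat.card H) := fun hco => hg1 (orderOf_eq_one_iff.1 (by
           refine Nat.Coprime.eq_one_of_dvd hco ?_
           have hcc := (C g).card_mul_index
           rw [show (C g).index = f from h, ← H.card_mul_index, K.index] at hcc
           rw [← Nat.eq_of_mul_eq_mul_right (by have := F.one_lt K.vf; omega) hcc]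
           exact orderOf_dvd_natCard _ (mem_C_self g)))
         obtain ⟨q, hq⟩ := K.hall.exists_conj_mem hco
         have hq1 : q * g * q⁻¹ ≠ 1 := fun e' => hg1 (conj_eq_one_iff.1 e')
         have hmemH : ∀ z, Commute z g → q * z * q⁻¹ ∈ H := fun z hz =>
           K.hall.mem_of_commute hq hq1 (hz.map (MulAut.conj q).toMonoidHom)
         have := K.hall.commute (hmemH x (mem_C.1 hgx).symm) (hmemH x' hgx')
         refine hxx' ?_
         have h' : Commute (q * x * q⁻¹) (q * x' * q⁻¹) := this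
         have h'' := h'.map (MulAut.conj q⁻¹).toMonoidHom
         simpa [mul_assoc] using h'')
      | (intro z hz hdvd
         obtain ⟨h1, h2⟩ := K.not_dvd_cf F (v := cI g) (by simp [h])
         rcases K.val z hz with a | a | a | a
         · exact absurd (a ▸ hdvd) h1
         rotate_left 2
         · exact absurd (a ▸ hdvd) h2
         all_goals
           by_contra hne'
           obtain ⟨S⟩ := (inferInstance : Nonempty (Sylow 2 G))
           obtain ⟨u, hu, -, hSu⟩ := exists_central_invol S (two_dvd_card F.na)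
           have hodd : ¬ 2 ∣ cI u := fun hd => S.not_dvd_index (hd.trans (index_dvd_of_le hSu))
           have hz2 : 2 ∣ cI z := heven.trans hdvd
           rw [a] at hne' hz2
           rw [h] at hne' heven
           rcases K.invol_cases F hu with hu' | hu' <;> rw [hu'] at hodd <;>
             first
             | exact hodd heven
             | exact hodd hz2
             | exact hne' rfl)
  have hs2 := K.s_ne_two F hs hxs hx hxc
  have hxg : Commute x g := (mem_C.1 hgx).symm
  by_cases hps : s = p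
  · subst hps
    haveI := Fact.mk hs
    obtain ⟨P, O, -, -, hP, -, -, -, hmemP, -⟩ := split (x := g) (p := s) fun z hz hzc => by
      rw [rI_eq_one_iff.2 (le_of_max hs hgp hg1 hmax hz hzc)]
      exact hs.not_dvd_one
    exact hxx' (K.central_pgroup F hs hx hxc hP (hmemP x (mem_C.2 hxg) hxs) x'
      (hmemP x' (mem_C.2 hgx') (hxs.conj v))).symm
  · exact hxx' (mem_C.1 (le_of_max hp hgp hg1 hmax hxg (coprime_of_rEl hp hs hps hxs) (mem_C.2 hgx'))).symm

end IsFork

/-- A size has at most one proper multiple. -/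
theorem one_multiple (F : Four G) {x y z : G} (hx : x ≠ 1) (hy : y ≠ 1) (hz : z ≠ 1) (hxy : cI x ∣ cI y)
    (hxz : cI x ∣ cI z) (hy' : cI y ≠ cI x) (hz' : cI z ≠ cI x) : cI y = cI z := by
  by_contra hne
  obtain ⟨f, H, K⟩ := exists_fork F (val_cI hx) (val_cI hy) (val_cI hz) hxy hxz hy' hz' hne
  obtain ⟨s, x', hs, hxs, hx', hxc⟩ := RankThree.exists_primary_of_min F.na K.min hx rfl
  exact K.impossible F hs hxs hx' hxc

end CfsgLib.Recog.RankFour
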