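import Cfsg.Agent.Lib.Recog.RankFour.Mixed
import Cfsg.Agent.S0205

/-!
# The two kinds of involution centralisers

* `IsSplit u`: the elements of odd order of `C(u)` commute with its 2-elements
* `Compl u k`: the size `a` of `u` has the proper multiple `a * k` with `k` a power of 2, and `C(u)` has an abelian
  2-complement
-/

set_option autoImplicit false
set_option linter.all false

namespace CfsgLib.Recog.RankFour

open Subgroup
open CfsgLib.Recog.ClassSizesPSL (cI cC IsREl)

variable {G : Type*} [Group G] [Finite G]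

theorem isREl_two_invol {u : G} (hu : orderOf u = 2) : IsREl 2 u :=
  ⟨1, by rw [pow_one, ← hu, pow_orderOf_eq_one]⟩

theorem invol_ne_one {u : G} (hu : orderOf u = 2) : u ≠ 1 := fun h => by
  rw [h, orderOf_one] at hu
  omega

/-- The elements of odd order of the centraliser commute with its 2-elements. -/
def IsSplit (u : G) : Prop :=
  ∀ z w : G, Commute z u → (orderOf z).Coprime 2 → Commute w u → IsREl 2 w → Commute z w

/-- A centraliser with an abelian 2-complement and a second size. -/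
structure Compl (G : Type*) [Group G] (u : G) (k : ℕ) : Prop where
  inv : orderOf u = 2
  pow : ∃ i, k = 2 ^ i
  k1 : k ≠ 1
  val : Val G (cI u * k)
  upper : Upper G (cI u) (cI u * k)
  max : IsMax G (cI u * k)
  compl : ∃ H : Subgroup G, H ≤ C u ∧ (∀ a ∈ H, ∀ b ∈ H, a * b = b * a) ∧ ¬ 2 ∣ Nat.card H ∧
    ∃ i, H.relIndex (C u) = 2 ^ i
  ex : ∃ z, Commute z u ∧ (orderOf z).Coprime 2 ∧ rI u z = k

theorem IsSplit.exists_parts {u : G} (hs : IsSplit u) : ∃ P O : Subgroup G, P ≤ C u ∧ O ≤ C u ∧ IsPGroup 2 P ∧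
    ¬ 2 ∣ Nat.card O ∧ Nat.card P * Nat.card O = Nat.card (C u) ∧ (∀ a ∈ P, ∀ b ∈ O, Commute a b) ∧
    (∀ z ∈ C u, IsREl 2 z → z ∈ P) ∧ (∀ z ∈ C u, (orderOf z).Coprime 2 → z ∈ O) := by
  haveI : Fact (Nat.Prime 2) := ⟨Nat.prime_two⟩
  refine split fun z hz hzc hd => ?_
  obtain ⟨P⟩ := (inferInstance : Nonempty (Sylow 2 (C u)))
  refine P.not_dvd_index (hd.trans (index_dvd_of_le fun a ha => ?_))
  exact mem_subgroupOf.2 (mem_C.2 (hs z (a : G) hz hzc (mem_C.1 a.2)
    (isREl_of_mem (P.2.map (C u).subtype) ⟨a, ha, rfl⟩)).symm)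

variable [IsSimpleGroup G] (F : Four G)
include F

/-- Each involution is of one of the two kinds. -/
theorem kinds {u : G} (hu : orderOf u = 2) : IsSplit u ∨ ∃ k, Compl G u k := by
  haveI : Fact (Nat.Prime 2) := ⟨Nat.prime_two⟩
  have hu2 := isREl_two_invol hu
  have hu1 := invol_ne_one hu
  by_cases hs : ∀ z, Commute z u → (orderOf z).Coprime 2 → ¬ 2 ∣ rI u z
  · left
    obtain ⟨P, O, -, -, -, -, -, hcomm, hP, hO⟩ := split (x := u) (p := 2) hs
    exact fun z w hz hzc hw hw2 => (hcomm w (hP w (mem_C.2 hw) hw2) z (hO z (mem_C.2 hz) hzc)).symm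
  right
  push Not at hs
  obtain ⟨z, hz, hzc, hzd⟩ := hs
  rcases exists_upper F (val_cI hu1) with hmax | ⟨k, hk1, hval, hup, hmax⟩
  · exfalso
    rw [rI_eq_one_iff.2 (le_of_max Nat.prime_two hu2 hu1 hmax hz hzc)] at hzd
    exact Nat.prime_two.not_dvd_one hzd
  have hcases : ∀ w, Commute w u → (orderOf w).Coprime 2 → rI u w = 1 ∨ rI u w = k := fun w hw hwc => by
    rcases rI_cases Nat.prime_two hu2 hu1 hup hw hwc with h | h
    · exact Or.inl h
    · rw [mul_comm (cI u) k] at h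
      exact Or.inr (Nat.eq_of_mul_eq_mul_right (RankThree.cI_pos u) h)
  have hzk : rI u z = k := (hcases z hz hzc).resolve_left fun h => by
    rw [h] at hzd
    exact Nat.prime_two.not_dvd_one hzd
  by_cases hpow : ∃ i, k = 2 ^ i
  · rcases two_size Nat.prime_two hk1 hcases ⟨z, hz, hzc, hzk⟩ with ⟨-, hH⟩ | ⟨hnot, -⟩
    · exact ⟨k, hu, hpow, hk1, hval, hup, hmax, hH, z, hz, hzc, hzk⟩
    · exact absurd hpow.choose_spec (hnot _)
  · push Not at hpow
    obtain ⟨q, w, M⟩ := exists_mixed F Nat.prime_two hu2 hu1 rfl hval hup hk1 (hzk ▸ hzd) hpow ⟨z, hz, hzc, hzk⟩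
    exact (M.false F).elim

omit F [IsSimpleGroup G] in
theorem IsSplit.solvable {u : G} (hs : IsSplit u) : Group.IsSolvable (C u) := by
  haveI : Fact (Nat.Prime 2) := ⟨Nat.prime_two⟩
  obtain ⟨P, O, hPC, hOC, hP, hO, hcard, -, -, hmem⟩ := hs.exists_parts
  set O' := O.subgroupOf (C u) with hO'
  have hcO : Nat.card O' = Nat.card O := Nat.card_congr (subgroupOfEquivOfLe hOC).toEquiv
  haveI : O'.Normal := ⟨fun a ha g => by
    rw [hO', mem_subgroupOf] at ha ⊢
    refine hmem _ (mul_mem (mul_mem g.2 a.2) (inv_mem g.2)) ?_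
    simp only [Subgroup.coe_mul, InvMemClass.coe_inv, CfsgLib.Signalizer.orderOf_conj]
    exact (((Nat.prime_two.coprime_iff_not_dvd).2 hO).symm).coprime_dvd_left (orderOf_dvd_natCard O ha)⟩
  haveI : Group.IsSolvable O' := Cfsg.Agent.S0205.result (by
    rw [hcO, ← Nat.not_even_iff_odd, even_iff_two_dvd]; exact hO)
  haveI : Group.IsSolvable (↥(C u) ⧸ O') := by
    obtain ⟨n, hn⟩ := IsPGroup.iff_card.1 hP
    have h2 : IsPGroup 2 (↥(C u) ⧸ O') := IsPGroup.of_card (n := n) (by
      refine Nat.eq_of_mul_eq_mul_right (Nat.card_pos (α := O')) ?_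
      rw [← card_eq_card_quotient_mul_card_subgroup, hcO, ← hn, hcard])
    haveI := h2.isNilpotent
    infer_instance
  exact (Group.isSolvable_iff_subgroup_quotient O').2 ⟨inferInstance, inferInstance⟩

omit F [IsSimpleGroup G] in
theorem Compl.solvable {u : G} {k : ℕ} (K : Compl G u k) : Group.IsSolvable (C u) := by
  haveI : Fact (Nat.Prime 2) := ⟨Nat.prime_two⟩
  obtain ⟨H, hHC, hcomm, hH, i, hi⟩ := K.compl
  set H' := H.subgroupOf (C u) with hH'
  have hcH : Nat.card H' = Nat.card H := Nat.card_congr (subgroupOfEquivOfLe hHC).toEquiv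
  have hidx : H'.index = 2 ^ i := hi
  obtain ⟨P⟩ := (inferInstance : Nonempty (Sylow 2 (C u)))
  obtain ⟨n, hn⟩ := IsPGroup.iff_card.1 P.2
  have hco : (Nat.card H').Coprime (Nat.card P) := by
    rw [hn, hcH]
    exact ((Nat.prime_two.coprime_iff_not_dvd).2 hH).symm.pow_right n
  have hmul : Nat.card H' * Nat.card P = Nat.card (C u) := by
    have h1 := H'.card_mul_index
    have hd : Nat.card P ∣ 2 ^ i := hco.symm.dvd_of_dvd_mul_left (by
      rw [← hidx, h1]; exact (P : Subgroup (C u)).card_subgroup_dvd_card)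
    have hd' : 2 ^ i ∣ Nat.card P := P.pow_dvd_card_of_pow_dvd_card (hidx ▸ H'.index_dvd_card)
    rw [Nat.dvd_antisymm hd hd', ← hidx, h1]
  haveI : IsMulCommutative H' := ⟨⟨fun a b => Subtype.ext (Subtype.ext (hcomm _ a.2 _ b.2))⟩⟩
  haveI := P.2.isNilpotent
  refine SolvStruct.isSolvable_of_coprime_nilpotent_factor H' (P : Subgroup (C u))
    (by letI : CommGroup H' := { (inferInstance : Group H') with mul_comm := mul_comm' }; infer_instance)
    inferInstance hco fun g => ?_
  obtain ⟨⟨a, b⟩, hab⟩ := (isComplement'_of_coprime hmul hco).2 g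
  exact ⟨a, a.2, b, b.2, hab.symm⟩

theorem solvable_centraliser {u : G} (hu : orderOf u = 2) : Group.IsSolvable (C u) := by
  rcases kinds F hu with h | ⟨k, K⟩
  exacts [h.solvable, K.solvable]

end CfsgLib.Recog.RankFour
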