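import Cfsg.Agent.Lib.Recog.RankFour.CaseA
import Cfsg.Agent.Lib.Recog.RankFour.CaseC
import Cfsg.Agent.Lib.Recog.RankFour.Exclude
import Cfsg.Agent.S0483
import Cfsg.Agent.S3188
import Cfsg.Agent.S2508

/-!
# Simple groups with four class sizes

They are the groups `PSL(2, q)` with `q` odd, `q ≥ 7`.
-/

set_option autoImplicit false
set_option linter.all false

namespace CfsgLib.Recog.RankFour

open Subgroup
open CfsgLib.Recog.ClassSizesPSL (cI cC IsREl)
open CfsgLib.CIT (CIT)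

variable {G : Type*} [Group G] [Finite G] [IsSimpleGroup G]

theorem quotient_oddCore (F : Four G) : Nonempty (G ⧸ Cfsg.oddCore G ≃* G) := by
  haveI : (Cfsg.oddCore G).Normal := CfsgLib.Core.normal_pPrimeCore 2 G
  have h : Cfsg.oddCore G = ⊥ := by
    refine ((inferInstance : (Cfsg.oddCore G).Normal).eq_bot_or_eq_top).resolve_right fun h => ?_
    have hc : (Nat.card (Cfsg.oddCore G)).Coprime 2 := CfsgLib.Core.coprime_card_pPrimeCore 2 G
    rw [h, card_top] at hc
    exact absurd (Nat.eq_one_of_dvd_coprimes hc (two_dvd_card F.na) dvd_rfl) (by norm_num)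
  exact ⟨(QuotientGroup.quotientMulEquivOfEq h).trans QuotientGroup.quotientBot⟩

/-- A simple group with four class sizes is `PSL(2, q)`, `q` odd and at least seven. -/
theorem psl_of_four (F : Four G) :
    ∃ (K : Type) (_ : Field K) (_ : Fintype K), Odd (Fintype.card K) ∧ 7 ≤ Fintype.card K ∧
      Nonempty (G ≃* Matrix.ProjectiveSpecialLinearGroup (Fin 2) K) := by
  classical
  haveI : Fact (Nat.Prime 2) := ⟨Nat.prime_two⟩
  have hns := RankThree.not_solvable F.na
  by_cases hab : ∃ S : Sylow 2 G, IsMulCommutative (S : Subgroup G)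
  · obtain ⟨S, hS⟩ := hab
    rcases Cfsg.Agent.S3188.result S hS (fun t ht => solvable_centraliser F ht) with
      h | ⟨K, iK, iKt, -, N, hN, ⟨e⟩, hcen⟩
    · exact absurd h hns
    obtain ⟨e0⟩ := quotient_oddCore F
    haveI : IsSimpleGroup (G ⧸ Cfsg.oddCore G) := e0.isSimpleGroup
    have hNt : N = ⊤ := hN.eq_bot_or_eq_top.resolve_left fun h => by
      rw [h] at hcen
      refine RankThree.not_solvable F.na ?_
      have h2 : (⊤ : Subgroup (G ⧸ Cfsg.oddCore G)) = ⊥ := by
        rw [← hcen]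
        exact (eq_top_iff.2 fun g _ => mem_centralizer_iff.2 fun y hy => by
          rw [mem_bot.1 (SetLike.mem_coe.1 hy), one_mul, mul_one]).symm
      exact absurd h2 top_ne_bot
    let e' := (e0.symm.trans (topEquiv.symm.trans (MulEquiv.subgroupCongr hNt.symm))).trans e
    obtain ⟨h1, h2⟩ := psl_range F e'
    exact ⟨K, iK, iKt, h1, h2, ⟨e'⟩⟩
  have hS : ∀ S : Sylow 2 G, ¬ IsMulCommutative (S : Subgroup G) := fun S h => hab ⟨S, h⟩
  by_cases hA : ∃ (u : G) (k : ℕ), Compl G u k ∧ ¬ 2 ∣ cI u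
  · obtain ⟨u, k, K, hu⟩ := hA
    obtain ⟨S, n, hn, hdih⟩ := caseA F K hu hS
    haveI : Group.IsPerfect G := ⟨by
      rcases (inferInstance : (commutator G).Normal).eq_bot_or_eq_top with h | h
      · exact absurd (⟨⟨fun a b => by
          rw [← commutatorElement_eq_one_iff_mul_comm, ← mem_bot, ← h]
          exact commutator_mem_commutator (mem_top a) (mem_top b)⟩⟩ : IsMulCommutative G) F.na
      · exact h⟩
    obtain ⟨e0⟩ := quotient_oddCore F
    rcases Cfsg.Agent.S0483.result S n hn hdih with ⟨K, iK, iKt, -, -, ⟨e⟩⟩ | he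
    · obtain ⟨h1, h2⟩ := psl_range F (e0.symm.trans e)
      exact ⟨K, iK, iKt, h1, h2, ⟨e0.symm.trans e⟩⟩
    · obtain ⟨e⟩ := he
      exact (not_alt_seven F (e0.symm.trans e)).elim
  have hA' : ∀ r : G, orderOf r = 2 → ¬ 2 ∣ cI r → IsSplit r := fun r hr hodd =>
    (kinds F hr).resolve_right fun ⟨k, K⟩ => hA ⟨r, k, K, hodd⟩
  have hall : ∀ r : G, orderOf r = 2 → IsSplit r := fun r hr =>
    (kinds F hr).resolve_right fun ⟨k, K⟩ => caseB F hA' K hS
  have hC := caseC F hall hS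
  rcases CfsgLib.CIT.simple_cit F.na hC (two_dvd_card F.na) with ⟨K, iK, iKt, -, ⟨e⟩⟩ | ⟨K, iK, iKt, hK, ⟨e⟩⟩ | hSz
  · obtain ⟨h1, h2⟩ := psl_range F e
    exact ⟨K, iK, iKt, h1, h2, ⟨e⟩⟩
  · exact (not_psl34 F hC hS hK e).elim
  · exact (not_suzuki F hC hS hSz).elim

omit [Finite G] [IsSimpleGroup G] in
/-- `PSL(2, q)`, `q` odd and at least seven, has four sizes. -/
theorem four_of_psl [Finite G] {K : Type} [Field K] [Fintype K] (hodd : Odd (Fintype.card K))
    (h7 : 7 ≤ Fintype.card K) (e : G ≃* Matrix.ProjectiveSpecialLinearGroup (Fin 2) K) :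
    IsSimpleGroup G ∧ Four G := by
  classical
  haveI := CfsgLib.Classical.isSimpleGroup_PSL_two (F := K) (by omega)
  haveI hs : IsSimpleGroup G := e.isSimpleGroup
  set q := Fintype.card K with hq
  have hq2 : q % 2 = 1 := Nat.odd_iff.1 hodd
  obtain ⟨hr1, hr3⟩ := Cfsg.Agent.S2508.result (F := K) hodd.not_two_dvd_nat h7
  rw [← hq] at hr1 hr3
  have h7q : 7 * q ≤ q ^ 2 := by rw [pow_two]; exact Nat.mul_le_mul_right q h7
  have e1 : q * (q + 1) = q ^ 2 + q := by ring
  have e2 : q * (q - 1) = q ^ 2 - q := by rw [Nat.mul_sub, mul_one, pow_two]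
  obtain ⟨a, b, c, d, ha1, hab, hac, had, hbc, hbd, hcd, hb1, hc1, hd1, hr⟩ : ∃ a b c d : ℕ, a ≠ 1 ∧ a ≠ b ∧ a ≠ c ∧
      a ≠ d ∧ b ≠ c ∧ b ≠ d ∧ c ≠ d ∧ b ≠ 1 ∧ c ≠ 1 ∧ d ≠ 1 ∧
      Set.range (fun g : Matrix.ProjectiveSpecialLinearGroup (Fin 2) K =>
        (centralizer ({g} : Set (Matrix.ProjectiveSpecialLinearGroup (Fin 2) K))).index) = {1, a, b, c, d} := by
    rcases (show q % 4 = 1 ∨ q % 4 = 3 by omega) with h | h
    · exact ⟨_, _, _, _, by omega, by omega, by omega, by omega, by omega, by omega, by omega, by omega,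
        by omega, by omega, hr1 h⟩
    · exact ⟨_, _, _, _, by omega, by omega, by omega, by omega, by omega, by omega, by omega, by omega,
        by omega, by omega, hr3 h⟩
  have hE : ∀ x : G, cI x = (centralizer ({e x} : Set _)).index := fun x => (cI_equiv e x).symm
  obtain ⟨g0, hg0⟩ := hr.symm.subset (show a ∈ ({1, a, b, c, d} : Set ℕ) by simp)
  have hna : ¬ IsMulCommutative G := fun hc => ha1 (by
    have h1 : cI (e.symm g0) = 1 := ClassSizesPSL.cI_eq_one_iff.2 (mem_center_iff.2 fun z => hc.is_comm.comm _ _)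
    rw [hE, e.apply_symm_apply] at h1
    exact hg0.symm.trans h1)
  refine ⟨hs, hna, ?_⟩
  have hset : {m : ℕ | ∃ x : G, x ≠ 1 ∧ cI x = m} = ({a, b, c, d} : Set ℕ) := by
    ext m
    refine ⟨fun ⟨x, hx, hxm⟩ => ?_, fun hm => ?_⟩
    · have h := hr.subset ⟨e x, rfl⟩
      simp only at h
      rw [← hE x, hxm] at h
      exact h.resolve_left fun h' => RankThree.cI_ne_one hna hx (hxm.trans h')
    · obtain ⟨g, hg⟩ := hr.symm.subset (Or.inr hm : m ∈ ({1, a, b, c, d} : Set ℕ))
      simp only at hg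
      refine ⟨e.symm g, fun h => ?_, by rw [hE, e.apply_symm_apply, hg]⟩
      have h1 : m = 1 := by
        rw [← hg, ← e.apply_symm_apply g, ← hE, h]
        exact ClassSizesPSL.cI_eq_one_iff.2 (one_mem _)
      simp only [Set.mem_insert_iff, Set.mem_singleton_iff] at hm
      omega
  rw [hset, Set.ncard_insert_of_notMem (by simp; omega), Set.ncard_insert_of_notMem (by simp; omega),
    Set.ncard_pair hcd]

end CfsgLib.Recog.RankFour
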