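import Cfsg.Agent.Lib.Recog.RankFour.Tools

/-!
# No centraliser index ratio involves two primes

If the sizes `e ∣ e * k` occur with `k` divisible by two primes `p`, `q`, the centraliser of an element of size `e`
has class sizes `1` and `k` only, so `k` is a prime power.
-/

set_option autoImplicit false
set_option linter.all false

namespace CfsgLib.Recog.RankFour

open Subgroup
open CfsgLib.Recog.ClassSizesPSL (cI cC IsREl)
open CfsgLib.ClassSizes.TwoSizes (mem_of_primary centralizer_le_of_mem comm_pow_left)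

variable {G : Type*} [Group G] [Finite G] [IsSimpleGroup G]

omit [Finite G] [IsSimpleGroup G] in
theorem mul_right_eq_self' {a b : ℕ} (hb : 0 < b) (h : a * b = b) : a = 1 :=
  Nat.eq_of_mul_eq_mul_right hb (by rw [h, one_mul])

omit [IsSimpleGroup G] in
theorem eq_of_rI_eq {x y z : G} (hle : C y ⊓ C x ≤ C z ⊓ C x) (h : rI x y = rI x z) :
    C y ⊓ C x = C z ⊓ C x := by
  refine le_antisymm hle (relIndex_eq_one.1 ?_)
  have h1 := relIndex_mul_relIndex _ _ _ hle (inf_le_right : C z ⊓ C x ≤ C x)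
  rw [inf_relIndex_right, inf_relIndex_right] at h1
  refine mul_right_eq_self' (Nat.pos_of_ne_zero ?_) (h1.trans h)
  exact index_ne_zero_of_finite

/-- An element of the centraliser whose centraliser contains a Sylow subgroup of it has the same centraliser. -/
theorem eq_of_sylow_le (F : Four G) {p q e k : ℕ} [Fact q.Prime] {t z : G} (hp : p.Prime) (hne : q ≠ p)
    (ht : IsREl p t) (ht1 : t ≠ 1) (he : cI t = e) (hval : Val G (e * k)) (hup : Upper G e (e * k)) (hk1 : k ≠ 1)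
    (hdq : q ∣ k) (hzt : Commute z t) (hz : IsREl q z) (hz1 : z ≠ 1) (P : Sylow q (C t))
    (hP : (P : Subgroup (C t)).map (C t).subtype ≤ C z) : C t = C z := by
  have hq : q.Prime := Fact.out
  have hepos : 0 < e := he ▸ RankThree.cI_pos t
  refine eq_of_le_of_low F ht1 hz1 hval (he ▸ dvd_mul_right e k)
    (by rw [he]; exact fun h => hk1 (Nat.eq_of_mul_eq_mul_left hepos (h.trans (mul_one e).symm))) ?_
  rw [← rI_eq_one_iff]
  rcases rI_cases hp ht ht1 (by rw [he]; exact hup) hzt (coprime_of_rEl hp hq hne hz) with h | h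
  · exact h
  exfalso
  rw [he, mul_comm e k] at h
  have hk : rI t z = k := Nat.eq_of_mul_eq_mul_right hepos h
  refine P.not_dvd_index (hdq.trans (hk ▸ index_dvd_of_le fun a ha => ?_))
  exact mem_subgroupOf.2 (hP ⟨a, ha, rfl⟩)

/-- A prime `q` of `k` has a `q`-element with the same centraliser, and does not divide `e`. -/
theorem exists_partner (F : Four G) {p q e k : ℕ} (hp : p.Prime) (hq : q.Prime) (hne : q ≠ p) {t : G}
    (ht : IsREl p t) (ht1 : t ≠ 1) (he : cI t = e) (hval : Val G (e * k)) (hup : Upper G e (e * k)) (hk1 : k ≠ 1)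
    (hdq : q ∣ k) : ∃ z, IsREl q z ∧ z ≠ 1 ∧ C z = C t ∧ ¬ q ∣ e := by
  haveI := Fact.mk hq
  have hkC : k ∣ Nat.card (C t) := by
    have h := dvd_card hval
    rw [← (C t).card_mul_index, show (C t).index = e from he, mul_comm e k] at h
    exact Nat.dvd_of_mul_dvd_mul_right (he ▸ RankThree.cI_pos t) h
  obtain ⟨P⟩ := (inferInstance : Nonempty (Sylow q (C t)))
  haveI : Nontrivial (P : Subgroup (C t)) := by
    rw [nontrivial_iff_ne_bot]
    intro e'
    have h' := P.dvd_card_of_dvd_card (hdq.trans hkC)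
    rw [e', card_bot] at h'
    exact hq.not_dvd_one h'
  haveI := P.2.center_nontrivial
  obtain ⟨w, hw⟩ := exists_ne (1 : center (P : Subgroup (C t)))
  set z : G := (((w : (P : Subgroup (C t))) : C t) : G)
  have hz1 : z ≠ 1 := fun e' => hw (Subtype.ext (Subtype.ext (Subtype.ext e')))
  have hzP : z ∈ (P : Subgroup (C t)).map (C t).subtype := ⟨_, (w : (P : Subgroup (C t))).2, rfl⟩
  have hz : IsREl q z := isREl_of_mem (P.2.map _) hzP
  have hzt : Commute z t := mem_C.1 (map_subtype_le _ hzP)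
  have hPz : (P : Subgroup (C t)).map (C t).subtype ≤ C z := by
    rintro _ ⟨a, ha, rfl⟩
    exact mem_C.2 (congrArg (fun v : (P : Subgroup (C t)) => ((v : C t) : G)) (mem_center_iff.1 w.2 ⟨a, ha⟩))
  have hCz : C t = C z := eq_of_sylow_le F hp hne ht ht1 he hval hup hk1 hdq hzt hz hz1 P hPz
  obtain ⟨Q, hQ⟩ := (P.2.map (C t).subtype).exists_le_sylow
  haveI : Nontrivial (Q : Subgroup G) :=
    (nontrivial_iff_ne_bot _).2 fun e' => hz1 (mem_bot.1 (e' ▸ hQ hzP))
  haveI := Q.2.center_nontrivial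
  obtain ⟨v, hv⟩ := exists_ne (1 : center (Q : Subgroup G))
  set z0 : G := ((v : (Q : Subgroup G)) : G)
  have hz01 : z0 ≠ 1 := fun e' => hv (Subtype.ext (Subtype.ext e'))
  have hQz0 : (Q : Subgroup G) ≤ C z0 := fun a ha =>
    mem_C.2 (congrArg Subtype.val (mem_center_iff.1 v.2 ⟨a, ha⟩))
  have hz0t : Commute z0 t := mem_C.1 (hCz.symm ▸ mem_C.2 (mem_C.1 (hQz0 (hQ hzP))).symm : z0 ∈ C t)
  have hCz0 : C t = C z0 := eq_of_sylow_le F hp hne ht ht1 he hval hup hk1 hdq hz0t
    (isREl_of_mem Q.2 (v : (Q : Subgroup G)).2) hz01 P (hQ.trans hQz0)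
  refine ⟨z, hz, hz1, hCz.symm, fun hd => Q.not_dvd_index (hd.trans ?_)⟩
  rw [← he]
  show (C t).index ∣ _
  rw [hCz0]
  exact index_dvd_of_le hQz0

/-- A size `e` with the proper multiple `e * k`, and two primes in `k`. -/
structure Mixed (G : Type*) [Group G] (p q e k : ℕ) (t z : G) : Prop where
  hp : p.Prime
  hq : q.Prime
  ne : q ≠ p
  ht : IsREl p t
  ht1 : t ≠ 1
  hz : IsREl q z
  hz1 : z ≠ 1
  eq : C z = C t
  idx : cI t = e
  val : Val G (e * k)
  upper : Upper G e (e * k)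
  k1 : k ≠ 1
  dp : p ∣ k
  dq : q ∣ k
  primes : ∀ r, r.Prime → r ∣ k → r = p ∨ r = q
  pe : ¬ p ∣ e
  qe : ¬ q ∣ e
  ex : ∃ w, Commute w t ∧ rI t w = k
  central : ∀ w ∈ C t, (orderOf w).Coprime (p * q) → C t ≤ C w

theorem exists_mixed (F : Four G) {p e k : ℕ} {t : G} (hp : p.Prime) (ht : IsREl p t) (ht1 : t ≠ 1)
    (he : cI t = e) (hval : Val G (e * k)) (hup : Upper G e (e * k)) (hk1 : k ≠ 1) (hdp : p ∣ k)
    (hnp : ∀ i, k ≠ p ^ i) (hex : ∃ z, Commute z t ∧ (orderOf z).Coprime p ∧ rI t z = k) :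
    ∃ q z, Mixed G p q e k t z := by
  have hepos : 0 < e := he ▸ RankThree.cI_pos t
  have hk0 : k ≠ 0 := fun h => by
    have := F.one_lt hval
    rw [h, mul_zero] at this
    omega
  rcases two_size hp hk1 (fun w hw hwc => by
      rcases rI_cases hp ht ht1 (by rw [he]; exact hup) hw hwc with h | h
      · exact Or.inl h
      · rw [he, mul_comm e k] at h
        exact Or.inr (Nat.eq_of_mul_eq_mul_right hepos h)) hex with ⟨⟨i, hi⟩, -⟩ | ⟨-, q, hq, hqp, hcen, hpr⟩
  · exact absurd hi (hnp i)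
  obtain ⟨r, hr, hrk, hrp⟩ := exists_prime_ne hk0 hnp
  have hdq : q ∣ k := ((hpr r hr hrk).resolve_left hrp) ▸ hrk
  obtain ⟨z, hz, hz1, hzt, hqe⟩ := exists_partner F hp hq hqp ht ht1 he hval hup hk1 hdq
  have hze : cI z = e := by show (C z).index = e; rw [hzt]; exact he
  obtain ⟨-, -, -, -, hpe⟩ := exists_partner F hq hp hqp.symm hz hz1 hze hval hup hk1 hdp
  exact ⟨q, z, hp, hq, hqp, ht, ht1, hz, hz1, hzt, he, hval, hup, hk1, hdp, hdq, hpr, hpe, hqe,
    hex.imp fun w hw => ⟨hw.1, hw.2.2⟩, fun w hw hwc => hcen w (mem_C.1 hw) hwc⟩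

namespace Mixed

variable {p q e k : ℕ} {t z : G} (M : Mixed G p q e k t z)
include M

theorem commute_z' {w : G} (hw : w ∈ C t) : Commute w z := mem_C.1 (M.eq.symm ▸ hw)

theorem symm : Mixed G q p e k z t where
  hp := M.hq
  hq := M.hp
  ne := M.ne.symm
  ht := M.hz
  ht1 := M.hz1
  hz := M.ht
  hz1 := M.ht1
  eq := M.eq.symm
  idx := by show (C z).index = e; rw [M.eq]; exact M.idx
  val := M.val
  upper := M.upper
  k1 := M.k1
  dp := M.dq
  dq := M.dp
  primes := fun r hr h => (M.primes r hr h).symm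
  pe := M.qe
  qe := M.pe
  ex := by
    obtain ⟨w, hw, hk⟩ := M.ex
    refine ⟨w, M.commute_z' (mem_C.2 hw), ?_⟩
    show (C w).relIndex (C z) = k
    rw [M.eq]; exact hk
  central := fun w hw hwc => by rw [M.eq] at hw ⊢; exact M.central w hw (by rwa [mul_comm] at hwc)

theorem pos : 0 < e := M.idx ▸ RankThree.cI_pos t

theorem rI_regular {h : G} (hh : h ∈ C t) (hco : (orderOf h).Coprime p) (hnc : ¬ C t ≤ C h) : rI t h = k := by
  rcases rI_cases M.hp M.ht M.ht1 (by rw [M.idx]; exact M.upper) (mem_C.1 hh) hco with h' | h'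
  · exact absurd (rI_eq_one_iff.1 h') hnc
  · rw [M.idx, mul_comm e k] at h'
    exact Nat.eq_of_mul_eq_mul_right M.pos h'

theorem rI_p {s : G} (hs : IsREl p s) (hsC : s ∈ C t) (hnc : ¬ C t ≤ C s) : rI t s = k := by
  have h := M.symm.rI_regular (by rw [M.eq]; exact hsC) (coprime_of_rEl M.hq M.hp M.ne.symm hs)
    (by rw [M.eq]; exact hnc)
  have he : rI t s = rI z s := by show (C s).relIndex (C t) = (C s).relIndex (C z); rw [M.eq]
  rw [he, h]

theorem commute_z {s : G} (hsC : s ∈ C t) : Commute s z := mem_C.1 (M.eq.symm ▸ hsC)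

theorem rI_self {s : G} (hs : IsREl p s) (hsC : s ∈ C t) (hnc : ¬ C t ≤ C s) :
    rI s z * cI s = e * k := by
  have h1 := rI_mul M.hq M.hz (M.commute_z hsC) (coprime_of_rEl M.hq M.hp M.ne.symm hs)
  have h2 := rI_mul M.hp hs (M.commute_z hsC).symm (coprime_of_rEl M.hp M.hq M.ne M.hz)
  rw [(M.commute_z hsC).eq, ← h1] at h2
  rw [h2, show cI z = e by show (C z).index = e; rw [M.eq]; exact M.idx, mul_comm e k]
  congr 1
  have he : rI t s = rI z s := by show (C s).relIndex (C t) = (C s).relIndex (C z); rw [M.eq]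
  rw [← he, M.rI_p hs hsC hnc]

theorem value (F : Four G) {s : G} (hs : IsREl p s) (hsC : s ∈ C t) (hnc : ¬ C t ≤ C s) :
    cI s = e ∨ cI s = e * k := by
  by_cases hne : cI s = e * k
  · exact Or.inr hne
  left
  have hs1 : s ≠ 1 := fun h => hnc (h ▸ fun g _ => mem_C.2 (Commute.one_right g))
  have hself := M.rI_self hs hsC hnc
  set k' := rI s z with hk'
  have hdvd : cI s ∣ e * k := hself ▸ dvd_mul_left _ _
  have hupc := upper_of_multiple F (val_cI hs1) M.val hdvd (Ne.symm hne)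
  have hk'1 : k' ≠ 1 := fun h => hne (by rw [← hself, h, one_mul])
  have hco := coprime_of_rEl M.hp M.hq M.ne M.hz
  have hprimes : ∀ r, r.Prime → r ∣ k' → r = p ∨ r = q := by
    rcases two_size M.hp hk'1 (fun w hw hwc => by
        rcases rI_cases M.hp hs hs1 hupc hw hwc with h | h
        · exact Or.inl h
        · exact Or.inr (Nat.eq_of_mul_eq_mul_right (RankThree.cI_pos s) (h.trans hself.symm)))
      ⟨z, (M.commute_z hsC).symm, hco, rfl⟩ with ⟨⟨i, hi⟩, -⟩ | ⟨-, q', hq', -, hcen, hpr⟩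
    · intro r hr hrd
      rw [hi] at hrd
      exact Or.inl ((Nat.prime_dvd_prime_iff_eq hr M.hp).1 (hr.dvd_of_dvd_pow hrd))
    · by_cases hqq : q' = q
      · exact hqq ▸ hpr
      · exact absurd (rI_eq_one_iff.2 (hcen z (M.commute_z hsC).symm
          (hco.mul_right (coprime_of_rEl hq' M.hq (Ne.symm hqq) M.hz)))) hk'1
  have hed : e ∣ cI s := by
    refine Nat.Coprime.dvd_of_dvd_mul_left ?_ (hself.symm ▸ dvd_mul_right e k)
    refine Nat.coprime_of_dvd fun r hr hre hrk => ?_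
    rcases hprimes r hr hrk with rfl | rfl
    exacts [M.pe hre, M.qe hre]
  by_contra h
  exact chain_false F ⟨t, M.ht1, M.idx⟩ (val_cI hs1) M.val hed hdvd (Ne.symm h) hne

theorem exists_at (F : Four G) {s : G} (hs : IsREl p s) (hsC : s ∈ C t) (hnc : ¬ C t ≤ C s) (he : cI s = e) :
    ∃ z', Mixed G p q e k s z' := by
  have hs1 : s ≠ 1 := fun h => hnc (h ▸ fun g _ => mem_C.2 (Commute.one_right g))
  have hk : rI s z = k := by
    have h := M.rI_self hs hsC hnc
    rw [he, mul_comm e k] at h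
    exact Nat.eq_of_mul_eq_mul_right M.pos h
  obtain ⟨q', z', M'⟩ := exists_mixed F M.hp hs hs1 he M.val M.upper M.k1 M.dp
    (fun i hi => M.ne ((Nat.prime_dvd_prime_iff_eq M.hq M.hp).1 (M.hq.dvd_of_dvd_pow (hi ▸ M.dq))))
    ⟨z, (M.commute_z hsC).symm, coprime_of_rEl M.hp M.hq M.ne M.hz, hk⟩
  have : q' = q := ((M'.primes q M.hq M.dq).resolve_left M.ne).symm
  subst this
  exact ⟨z', M'⟩

theorem solvable : Group.IsSolvable (C t) := by
  haveI := Fact.mk M.hp
  haveI := Fact.mk M.hq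
  have hquot : Group.IsSolvable (↥(C t) ⧸ center (C t)) := by
    refine ClassSizes.RegularTwo.solvable_of_two M.hp M.hq fun r hr hrd => ?_
    by_contra hcon
    push Not at hcon
    haveI := Fact.mk hr
    obtain ⟨x, hx⟩ := exists_prime_orderOf_dvd_card' r hrd
    obtain ⟨g, rfl⟩ := QuotientGroup.mk'_surjective _ x
    obtain ⟨a, b, hab, hag, hbg, ⟨i, hi⟩, hb⟩ := PGroups.MaxCent.exists_parts (p := p) g
    obtain ⟨c, d, hcd, hcb, hdb, ⟨j, hj⟩, hd⟩ := PGroups.MaxCent.exists_parts (p := q) b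
    have hdp : (orderOf d).Coprime p := hb.coprime_dvd_left (orderOf_dvd_of_mem_zpowers hdb)
    have hdc : d ∈ center (C t) := mem_center_iff.2 fun v => Subtype.ext
      (mem_C.1 (M.central (d : G) d.2 (by rw [orderOf_coe]; exact hdp.mul_right hd) v.2)).eq
    set π := QuotientGroup.mk' (center (C t))
    have hd1 : π d = 1 := (QuotientGroup.eq_one_iff d).2 hdc
    have hg : π g = π a * π c := by rw [hab, hcd, map_mul, map_mul, hd1, mul_one]
    have hcomm : Commute (π a) (π c) := by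
      obtain ⟨l, rfl⟩ := mem_zpowers_iff.1 hag
      obtain ⟨n, rfl⟩ := mem_zpowers_iff.1 ((zpowers_le.2 hbg) hcb)
      exact (Commute.zpow_zpow_self g l n).map π
    have hco : ∀ (l n : ℕ) (w : ↥(C t)), l.Prime → orderOf w = l ^ n → r ≠ l →
        (orderOf (π w)).Coprime r := fun l n w hl hw hne => by
      refine Nat.Coprime.coprime_dvd_left (orderOf_map_dvd π w) ?_
      rw [hw]
      exact ((Nat.coprime_primes hl hr).2 hne.symm).pow_left n
    have ha' := hco p i a M.hp hi hcon.1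
    have hc' := hco q j c M.hq hj hcon.2
    have hpow : (π g) ^ (orderOf (π a) * orderOf (π c)) = 1 := by
      rw [hg, hcomm.mul_pow, pow_mul, pow_orderOf_eq_one, one_pow, one_mul, mul_comm, pow_mul,
        pow_orderOf_eq_one, one_pow]
    have := orderOf_dvd_of_pow_eq_one hpow
    rw [hx] at this
    rcases hr.dvd_mul.1 this with h | h
    · exact hr.ne_one (Nat.Coprime.eq_one_of_dvd ha'.symm h)
    · exact hr.ne_one (Nat.Coprime.eq_one_of_dvd hc'.symm h)
  haveI : IsMulCommutative (center (C t)) := inferInstance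
  haveI : Group.IsSolvable (center (C t)) := Group.isSolvable_of_comm fun a b => mul_comm' a b
  exact (Group.isSolvable_iff_subgroup_quotient (center (C t))).2 ⟨inferInstance, hquot⟩

theorem rI_q {w : G} (hw : IsREl q w) (hwC : w ∈ C t) (hnc : ¬ C t ≤ C w) : rI t w = k :=
  M.rI_regular hwC (coprime_of_rEl M.hp M.hq M.ne hw) hnc

theorem prime_cases {y : G} {r j : ℕ} (hr : r.Prime) (hy : orderOf y = r ^ j) (hyC : y ∈ C t)
    (hnc : ¬ C t ≤ C y) : (IsREl p y) ∨ (IsREl q y) := by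
  by_cases h1 : r = p
  · exact Or.inl (h1 ▸ ClassSizesPSL.isREl_of_orderOf hy)
  by_cases h2 : r = q
  · exact Or.inr (h2 ▸ ClassSizesPSL.isREl_of_orderOf hy)
  refine absurd (M.central y hyC ?_) hnc
  rw [hy]
  exact (((Nat.coprime_primes hr M.hp).2 h1).mul_right ((Nat.coprime_primes hr M.hq).2 h2)).pow_left j

omit M in
/-- `x` lies in the `p'`-core of `H`. -/
def InCore (p : ℕ) (H : Subgroup G) (x : G) : Prop := ∃ h : x ∈ H, (⟨x, h⟩ : H) ∈ Cfsg.pPrimeCore p H

theorem core_commute {a b : G} (ha : InCore q (C t) a) (hap : IsREl p a) (hb : InCore p (C t) b) : Commute a b := by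
  obtain ⟨ha1, ha2⟩ := ha
  obtain ⟨hb1, hb2⟩ := hb
  set A : C t := ⟨a, ha1⟩
  set B : C t := ⟨b, hb1⟩
  set c := A * B * A⁻¹ * B⁻¹ with hc
  haveI := CfsgLib.Core.normal_pPrimeCore p (C t)
  haveI := CfsgLib.Core.normal_pPrimeCore q (C t)
  have hcp : c ∈ Cfsg.pPrimeCore p (C t) :=
    mul_mem (Subgroup.Normal.conj_mem inferInstance B hb2 A) (inv_mem hb2)
  have hcq : c ∈ Cfsg.pPrimeCore q (C t) := by
    rw [hc, show A * B * A⁻¹ * B⁻¹ = A * (B * A⁻¹ * B⁻¹) by group]
    exact mul_mem ha2 (Subgroup.Normal.conj_mem inferInstance A⁻¹ (inv_mem ha2) B)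
  have hop : (orderOf c).Coprime p := (CfsgLib.Core.coprime_card_pPrimeCore p _).coprime_dvd_left
    (orderOf_dvd_natCard (Cfsg.pPrimeCore p (C t)) hcp)
  have hoq : (orderOf c).Coprime q := (CfsgLib.Core.coprime_card_pPrimeCore q _).coprime_dvd_left
    (orderOf_dvd_natCard (Cfsg.pPrimeCore q (C t)) hcq)
  have hcen : c ∈ center (C t) := mem_center_iff.2 fun v => Subtype.ext
    (mem_C.1 (M.central (c : G) c.2 (by rw [orderOf_coe]; exact hop.mul_right hoq) v.2)).eq
  obtain ⟨i, hi⟩ := hap.orderOf_eq M.hp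
  have h1 : c ^ orderOf A = 1 := by
    rw [← comm_pow_left hc.symm hcen, pow_orderOf_eq_one]; group
  have hc1 : c = 1 := orderOf_eq_one_iff.1 (Nat.Coprime.eq_one_of_dvd (hop.pow_right i)
    (by rw [← hi, ← orderOf_mk a ha1]; exact orderOf_dvd_of_pow_eq_one h1))
  rw [hc, mul_inv_eq_one, mul_inv_eq_iff_eq_mul] at hc1
  exact congrArg Subtype.val hc1

theorem mem_core (F : Four G) {s : G} (hs : IsREl p s) (hsC : s ∈ C t) (hnc : ¬ C t ≤ C s) (he : cI s = e) :
    ∃ z', IsREl q z' ∧ C z' = C s ∧ z' ∈ C t ∧ InCore q (C t) s ∧ InCore p (C t) z' := by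
  haveI := Fact.mk M.hp
  haveI := Fact.mk M.hq
  obtain ⟨z', M'⟩ := M.exists_at F hs hsC hnc he
  have hz't : z' ∈ C t := mem_C.2 (mem_C.1 (M'.eq.symm ▸ mem_C.2 (mem_C.1 hsC).symm : t ∈ C z')).symm
  have hcomm : Commute s z' := M'.commute_z' (mem_C_self s)
  have key : ∀ r : G, Commute r s → Commute r z' := fun r hr => M'.commute_z' (mem_C.2 hr)
  have key' : ∀ r : G, Commute r z' → Commute r s := fun r hr => mem_C.1 (M'.eq ▸ mem_C.2 hr)
  have sub : ∀ {a b : C t}, Commute (a : G) (b : G) → Commute a b := fun h => Subtype.ext h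
  have sub' : ∀ {r : ℕ} {a : G} (h : a ∈ C t), IsREl r a → IsREl r (⟨a, h⟩ : C t) := fun h ⟨i, hi⟩ =>
    ⟨i, Subtype.ext (by simpa using hi)⟩
  refine ⟨z', M'.hz, M'.eq, hz't, ⟨hsC, ?_⟩, ⟨hz't, ?_⟩⟩
  · exact mem_pPrimeCore M.solvable (sub' hz't M'.hz)
      (by rw [orderOf_mk]; exact coprime_of_rEl M.hq M.hp M.ne.symm hs) (sub hcomm)
      fun r hr _ => sub (key' r (hr.map (C t).subtype)).symm
  · exact mem_pPrimeCore M.solvable (sub' hsC hs)
      (by rw [orderOf_mk]; exact coprime_of_rEl M.hp M.hq M.ne M'.hz) (sub hcomm.symm)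
      fun r hr _ => sub (key r (hr.map (C t).subtype)).symm

theorem eq_of_max (F : Four G) {s w : G} (hs : IsREl p s) (hw : IsREl q w) (hsC : s ∈ C t) (hwC : w ∈ C t)
    (hsn : ¬ C t ≤ C s) (hwn : ¬ C t ≤ C w) (hsw : Commute s w) (he : cI s = e * k) :
    C s ⊓ C t = C w ⊓ C t := by
  have hs1 : s ≠ 1 := fun h => hsn (h ▸ fun g _ => mem_C.2 (Commute.one_right g))
  have hmax : IsMax G (cI s) := he ▸ isMax_of_multiple F ⟨t, M.ht1, M.idx⟩ M.val (dvd_mul_right e k)
    (fun h => M.k1 (Nat.eq_of_mul_eq_mul_left M.pos (h.trans (mul_one e).symm)))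
  exact eq_of_rI_eq (inf_le_inf_right _ (le_of_max M.hp hs hs1 hmax hsw.symm (coprime_of_rEl M.hp M.hq M.ne hw)))
    ((M.rI_p hs hsC hsn).trans (M.rI_q hw hwC hwn).symm)

theorem eq_of_commute (F : Four G) {s w : G} (hs : IsREl p s) (hw : IsREl q w) (hsC : s ∈ C t) (hwC : w ∈ C t)
    (hsn : ¬ C t ≤ C s) (hwn : ¬ C t ≤ C w) (hsw : Commute s w) :
    C s ⊓ C t = C w ⊓ C t := by
  have hwz : w ∈ C z := M.eq.symm ▸ hwC
  have hwzn : ¬ C z ≤ C w := M.eq.symm ▸ hwn
  rcases M.value F hs hsC hsn with hse | hse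
  swap
  · exact M.eq_of_max F hs hw hsC hwC hsn hwn hsw hse
  rcases M.symm.value F hw hwz hwzn with hwe | hwe
  swap
  · have h := M.symm.eq_of_max F hw hs hwz (M.eq.symm ▸ hsC) hwzn (M.eq.symm ▸ hsn) hsw.symm hwe
    rw [M.eq] at h
    exact h.symm
  obtain ⟨z', hz'q, hz'e, hz'C, -, -⟩ := M.mem_core F hs hsC hsn hse
  obtain ⟨z'', hz''p, hz''e, -, hwcore, hz''core⟩ := M.symm.mem_core F hw hwz hwzn hwe
  rw [M.eq] at hwcore hz''core
  refine eq_of_rI_eq (le_inf (fun x hx => ?_) inf_le_right)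
    ((M.rI_p hs hsC hsn).trans (M.rI_q hw hwC hwn).symm)
  refine mem_of_primary _ x fun y hy r j hr hyo => ?_
  have hys : y ∈ C s ⊓ C t := (zpowers_le.2 hx) hy
  by_cases hyn : C t ≤ C y
  · exact mem_C.2 (mem_C.1 (hyn hwC)).symm
  rcases M.prime_cases hr hyo hys.2 hyn with hyp | hyq
  · rcases M.value F hyp hys.2 hyn with hye | hye
    · obtain ⟨-, -, -, -, hycore, -⟩ := M.mem_core F hyp hys.2 hyn hye
      exact mem_C.2 (M.core_commute hycore hyp hwcore)
    · have hyz' : Commute y z' := mem_C.1 (hz'e.symm ▸ hys.1)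
      have h := M.eq_of_max F hyp hz'q hys.2 hz'C hyn (fun h => hsn (h.trans hz'e.le)) hyz' hye
      rw [hz'e] at h
      exact mem_C.2 (mem_C.1 (h.ge ⟨mem_C.2 hsw.symm, hwC⟩).1).symm
  · have hyz : y ∈ C z := M.eq.symm ▸ hys.2
    have hyzn : ¬ C z ≤ C y := M.eq.symm ▸ hyn
    rcases M.symm.value F hyq hyz hyzn with hye | hye
    · obtain ⟨-, -, -, -, hycore, -⟩ := M.symm.mem_core F hyq hyz hyzn hye
      rw [M.eq] at hycore
      rw [← hz''e]
      exact mem_C.2 (M.core_commute hz''core hz''p hycore).symm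
    · have h := M.symm.eq_of_max F hyq hs hyz (M.eq.symm ▸ hsC) hyzn (M.eq.symm ▸ hsn) (mem_C.1 hys.1) hye
      rw [M.eq] at h
      exact mem_C.2 (mem_C.1 (h.ge ⟨mem_C.2 hsw.symm, hwC⟩).1).symm

theorem false (F : Four G) : False := by
  haveI := Fact.mk M.hp
  have hidx : ∀ h : C t, (centralizer ({h} : Set (C t))).index = 1 ∨
      (centralizer ({h} : Set (C t))).index = k := by
    intro h
    rw [cent_subtype]
    show rI t (h : G) = 1 ∨ rI t (h : G) = k
    obtain ⟨a, b, hab, hah, hbh, ⟨i, hi⟩, hb⟩ := PGroups.MaxCent.exists_parts (p := p) (h : G)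
    have hap : IsREl p a := ClassSizesPSL.isREl_of_orderOf hi
    have haC : a ∈ C t := (zpowers_le.2 h.2) hah
    have hbC : b ∈ C t := (zpowers_le.2 h.2) hbh
    have hcom : Commute a b := by
      obtain ⟨l, rfl⟩ := mem_zpowers_iff.1 hah
      obtain ⟨n, rfl⟩ := mem_zpowers_iff.1 hbh
      exact Commute.zpow_zpow_self _ l n
    have hC : C (h : G) = C a ⊓ C b := by
      rw [hab]
      exact ClassSizesPSL.centralizer_mul hcom (IsREl.coprime M.hp hap hb)
    show (C (h : G)).relIndex (C t) = 1 ∨ (C (h : G)).relIndex (C t) = k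
    rw [hC, ← inf_relIndex_right]
    by_cases han : C t ≤ C a
    · rw [inf_assoc, inf_comm (C b), ← inf_assoc, inf_eq_right.2 han, inf_comm, inf_relIndex_right]
      by_cases hbn : C t ≤ C b
      · exact Or.inl (relIndex_eq_one.2 hbn)
      · exact Or.inr (M.rI_regular hbC hb hbn)
    right
    by_cases hbn : C t ≤ C b
    · rw [inf_assoc, inf_eq_right.2 hbn, inf_relIndex_right]
      exact M.rI_p hap haC han
    obtain ⟨w, hwb, r, j, hr, hwo, hwn⟩ : ∃ w ∈ zpowers b, ∃ r j, r.Prime ∧ orderOf w = r ^ j ∧ ¬ C t ≤ C w := by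
      by_contra hcon
      push Not at hcon
      refine hbn fun g hg => mem_C.2 ?_
      have hbg : b ∈ C g := mem_of_primary _ b fun w hw r j hr hwo =>
        mem_C.2 (mem_C.1 (hcon w hw r j hr hwo hg)).symm
      exact (mem_C.1 hbg).symm
    have hwC : w ∈ C t := (zpowers_le.2 hbC) hwb
    have hwco : (orderOf w).Coprime p := hb.coprime_dvd_left (orderOf_dvd_of_mem_zpowers hwb)
    have hwq : IsREl q w := by
      rcases M.prime_cases hr hwo hwC hwn with hwp | hwq
      · exfalso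
        obtain ⟨l, hl⟩ := hwp.orderOf_eq M.hp
        rcases Nat.eq_zero_or_pos l with rfl | hl0
        · rw [pow_zero] at hl
          exact hwn ((orderOf_eq_one_iff.1 hl) ▸ fun g _ => mem_C.2 (Commute.one_right g))
        · rw [hl, Nat.coprime_pow_left_iff hl0, Nat.coprime_self] at hwco
          exact M.hp.ne_one hwco
      · exact hwq
    have haw : Commute a w := by
      obtain ⟨l, rfl⟩ := mem_zpowers_iff.1 hwb
      exact hcom.zpow_right l
    have e1 := M.eq_of_commute F hap hwq haC hwC han hwn haw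
    have e2 : C b ⊓ C t = C w ⊓ C t := eq_of_rI_eq (inf_le_inf_right _ (centralizer_le_of_mem hwb))
      ((M.rI_regular hbC hb hbn).trans (M.rI_q hwq hwC hwn).symm)
    have e3 : C a ⊓ C b ⊓ C t = C a ⊓ C t := by
      rw [inf_assoc, e2, ← e1, ← inf_assoc, inf_idem]
    rw [e3, inf_relIndex_right]
    exact M.rI_p hap haC han
  obtain ⟨w, hw, hwk⟩ := M.ex
  have hk : 1 < k := by
    have h1 := M.k1
    have h0 : k ≠ 0 := fun h => by
      have := F.one_lt M.val
      rw [h, mul_zero] at this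
      omega
    omega
  obtain ⟨r, hr, a, hka, -⟩ := ClassSizes.TwoSizes.two_sizes hk hidx
    ⟨⟨w, mem_C.2 hw⟩, by rw [cent_subtype]; exact hwk⟩
  have h1 := (Nat.prime_dvd_prime_iff_eq M.hp hr.out).1 (M.hp.dvd_of_dvd_pow (hka ▸ M.dp))
  have h2 := (Nat.prime_dvd_prime_iff_eq M.hq hr.out).1 (M.hq.dvd_of_dvd_pow (hka ▸ M.dq))
  exact M.ne (h2.trans h1.symm)

end Mixed

end CfsgLib.Recog.RankFour
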