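import Cfsg.Agent.Lib.Recog.RankFour.ForkFalse
import Cfsg.Agent.Lib.PLocal.PConstrained
import Cfsg.Agent.Lib.Core.PLengthTwoMaximal
import Cfsg.Agent.Lib.Components.FStar
import Cfsg.Agent.Lib.SolvStruct.NilProduct
import Cfsg.Agent.Lib.PGroups.MaxCentralizer
import Cfsg.Agent.Lib.ClassSizes.RegularTwoMain

/-!
# Levels of the sizes, and lemmas about solvable groups

* `exists_upper`, `chain_false`: consequences of `one_multiple`
* `mem_pPrimeCore`: a consequence of balance in solvable groups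
-/

set_option autoImplicit false
set_option linter.all false

namespace CfsgLib.Recog.RankFour

open Subgroup
open CfsgLib.Recog.ClassSizesPSL (cI cC IsREl)

variable {G : Type*} [Group G] [Finite G]

section Levels

variable [IsSimpleGroup G] (F : Four G)
include F

theorem upper_of_multiple {v d : ℕ} (hv : Val G v) (hd : Val G d) (hvd : v ∣ d) (hne : d ≠ v) : Upper G v d := by
  intro z hz h
  obtain ⟨x, hx, rfl⟩ := hv
  obtain ⟨y, hy, rfl⟩ := hd
  by_cases he : cI z = cI x
  · exact Or.inl he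
  · exact Or.inr (one_multiple F hx hz hy h hvd he hne)

theorem chain_false {a b c : ℕ} (ha : Val G a) (hb : Val G b) (hc : Val G c) (hab : a ∣ b) (hbc : b ∣ c)
    (hab' : a ≠ b) (hbc' : b ≠ c) : False := by
  obtain ⟨x, hx, rfl⟩ := ha
  obtain ⟨y, hy, rfl⟩ := hb
  obtain ⟨z, hz, rfl⟩ := hc
  refine hbc' (one_multiple F hx hy hz hab (hab.trans hbc) hab'.symm fun h => ?_)
  exact hab' (Nat.dvd_antisymm hab (h ▸ hbc))

theorem isMax_of_multiple {v d : ℕ} (hv : Val G v) (hd : Val G d) (hvd : v ∣ d) (hne : d ≠ v) : IsMax G d :=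
  fun z hz h => by
    by_contra he
    exact chain_false F hv hd (val_cI hz) hvd h hne.symm (Ne.symm he)

theorem exists_upper {v : ℕ} (hv : Val G v) :
    IsMax G v ∨ ∃ k, k ≠ 1 ∧ Val G (v * k) ∧ Upper G v (v * k) ∧ IsMax G (v * k) := by
  by_cases h : IsMax G v
  · exact Or.inl h
  simp only [IsMax, not_forall] at h
  obtain ⟨z, hz, ⟨k, hk⟩, hne⟩ := h
  have hval : Val G (v * k) := hk ▸ val_cI hz
  have hne' : v * k ≠ v := hk ▸ hne
  exact Or.inr ⟨k, fun h => hne' (by rw [h, mul_one]), hval, upper_of_multiple F hv hval (dvd_mul_right v k) hne',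
    isMax_of_multiple F hv hval (dvd_mul_right v k) hne'⟩

/-- A centraliser above another with the same bottom size equals it. -/
theorem eq_of_le_of_low {x y : G} {d : ℕ} (hx : x ≠ 1) (hy : y ≠ 1) (hd : Val G d) (hxd : cI x ∣ d) (hne : d ≠ cI x)
    (hle : C x ≤ C y) : C x = C y := by
  refine ClassSizesPSL.eq_of_le_of_cI_eq hle ?_
  by_contra h
  exact chain_false F (val_cI hy) (val_cI hx) hd (ClassSizesPSL.cI_dvd hle) hxd (fun e => h e.symm) hne.symm

end Levels

/-- An element of `p`-power order of a normal nilpotent subgroup lies in the `p`-core. -/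
theorem mem_pCore_of_normal {X : Type*} [Group X] [Finite X] {p : ℕ} [Fact p.Prime] (N : Subgroup X) [N.Normal]
    [Group.IsNilpotent N] {x : X} (hx : x ∈ N) (hxp : IsREl p x) : x ∈ Cfsg.pCore p X := by
  obtain ⟨P, hP⟩ := (hxp.isPGroup_zpowers.comap_subtype : IsPGroup p ((zpowers x).subgroupOf N)).exists_le_sylow
  haveI : (P : Subgroup N).Normal := inferInstance
  haveI : (P : Subgroup N).Characteristic := P.characteristic_of_normal inferInstance
  exact CfsgLib.Core.le_pCore (P.isPGroup'.map N.subtype) ⟨⟨x, hx⟩, hP (mem_zpowers x), rfl⟩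

/-- In a solvable group a `p'`-element commuting with all `p`-elements of the centraliser of a `p`-element
lies in the `p'`-core. -/
theorem mem_pPrimeCore {X : Type*} [Group X] [Finite X] (hX : Group.IsSolvable X) {p : ℕ} [Fact p.Prime]
    {s x : X} (hs : IsREl p s) (hx : (orderOf x).Coprime p) (hxs : Commute x s)
    (hfix : ∀ r : X, Commute r s → IsREl p r → Commute x r) : x ∈ Cfsg.pPrimeCore p X := by
  classical
  set P := zpowers s with hP
  set N := normalizer (P : Set X) with hN
  let Rel : Set X := {r | Commute r s ∧ IsREl p r}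
  let W : Subgroup X := centralizer Rel
  have hsR : s ∈ Rel := ⟨Commute.refl s, hs⟩
  have hWs : ∀ w ∈ W, Commute w s := fun w hw => (mem_centralizer_iff.1 hw s hsR).symm
  have hWN : W ≤ N := fun w hw => by
    refine centralizer_le_normalizer _ (mem_centralizer_iff.2 fun y hy => ?_)
    obtain ⟨i, rfl⟩ := mem_zpowers_iff.1 hy
    exact ((hWs w hw).zpow_right i).eq.symm
  have hxW : x ∈ W := mem_centralizer_iff.2 fun r hr => (hfix r hr.1 hr.2).eq.symm
  have hcen : ∀ w : W, IsREl p (w : X) → ∀ v : W, Commute (v : X) (w : X) := fun w hw v =>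
    (mem_centralizer_iff.1 v.2 _ ⟨hWs _ w.2, hw⟩).symm
  obtain ⟨P0⟩ := (inferInstance : Nonempty (Sylow p W))
  obtain ⟨-, H, hHn, hH, hbot, htop⟩ := Cfsg.Agent.S4035.result (G := W) (fun z hz => by
    rw [← Nat.card_coe_set_eq, CfsgLib.Char.card_carrier_eq_index]
    refine fun hd => P0.not_dvd_index (hd.trans (index_dvd_of_le fun a ha => ?_))
    refine mem_centralizer_singleton_iff.2 (Subtype.ext ?_)
    exact (hcen a (isREl_of_mem (P0.2.map W.subtype) ⟨a, ha, rfl⟩) z).eq.symm) P0
  haveI := hHn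
  have hcomp : IsComplement' H (P0 : Subgroup W) := isComplement'_of_disjoint_and_mul_eq_univ
    (disjoint_iff.2 (by rw [inf_comm, hbot])) (by rw [← normal_mul, sup_comm, htop, coe_top])
  obtain ⟨n, hn⟩ := IsPGroup.iff_card.1 P0.2
  have hiH : H.index = p ^ n := hcomp.symm.index_eq_card.trans hn
  have hHall : ∀ w : W, (orderOf w).Coprime p → w ∈ H := fun w hw => by
    have hco : (orderOf w).Coprime H.index := by rw [hiH]; exact hw.pow_right n
    obtain ⟨m, hm⟩ := exists_pow_eq_self_of_coprime hco.symm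
    exact hm ▸ pow_mem (H.pow_index_mem w) m
  have hHp : ∀ w ∈ H, (orderOf w).Coprime p := fun w hw =>
    (((Fact.out : p.Prime).coprime_iff_not_dvd).2 hH).symm.coprime_dvd_left (orderOf_dvd_natCard H hw)
  set H' := (H.map W.subtype).subgroupOf N with hH'
  haveI : H'.Normal := ⟨fun h hh g => by
    rw [hH', mem_subgroupOf] at hh ⊢
    obtain ⟨w, hw, hwh⟩ := hh
    have hmem : ((g : X) * (h : X) * (g : X)⁻¹) ∈ W := mem_centralizer_iff.2 fun r ⟨hr1, hr2⟩ => by
      have hgP : ∀ y ∈ P, (g : X)⁻¹ * y * (g : X) ∈ P := fun y hy => by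
        simpa using (mem_normalizer_iff.1 (inv_mem g.2) y).1 hy
      have hr1' : Commute ((g : X)⁻¹ * r * g) s := by
        have hs' : (g : X) * s * (g : X)⁻¹ ∈ P := (mem_normalizer_iff.1 g.2 s).1 (mem_zpowers s)
        obtain ⟨i, hi⟩ := mem_zpowers_iff.1 hs'
        have h1 : Commute r ((g : X) * s * (g : X)⁻¹) := hi ▸ hr1.zpow_right i
        have h2 := h1.map (MulAut.conj (g : X)⁻¹).toMonoidHom
        simpa [mul_assoc] using h2
      have hw' := mem_centralizer_iff.1 (hwh ▸ w.2 : (h : X) ∈ W) _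
        ⟨hr1', by simpa using hr2.conj (g : X)⁻¹⟩
      calc r * ((g : X) * h * (g : X)⁻¹) = (g : X) * ((g : X)⁻¹ * r * g * h) * (g : X)⁻¹ := by group
        _ = (g : X) * (h * ((g : X)⁻¹ * r * g)) * (g : X)⁻¹ := by rw [hw']
        _ = _ := by group
    refine ⟨⟨_, hmem⟩, hHall _ ?_, rfl⟩
    rw [orderOf_mk, CfsgLib.Signalizer.orderOf_conj, ← hwh]
    show (orderOf (W.subtype w)).Coprime p
    rw [orderOf_injective _ (subtype_injective _)]
    exact hHp w hw⟩
  have hcop : (Nat.card H').Coprime p := by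
    rw [Nat.card_congr (subgroupOfEquivOfLe ((map_subtype_le H).trans hWN)).toEquiv,
      ← Nat.card_congr (equivMapOfInjective H _ (subtype_injective _)).toEquiv]
    exact (((Fact.out : p.Prime).coprime_iff_not_dvd).2 hH).symm
  have hmem : (⟨x, hWN hxW⟩ : N) ∈ H' := ⟨⟨x, hxW⟩, hHall _ (by rwa [orderOf_mk]), rfl⟩
  have hc := CfsgLib.PLocal.isPConstrained_iff.1 (CfsgLib.PLocal.isPConstrained_of_isPSolvable
    (CfsgLib.Core.isPSolvable_of_isSolvable (p := p) hX))
  have h := (CfsgLib.PLocal.local_of_pConstrained hc (P := P) hs.isPGroup_zpowers).1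
  have : x ∈ (Cfsg.pPrimeCore p N).map N.subtype := ⟨_, CfsgLib.Core.le_pPrimeCore hcop hmem, rfl⟩
  rw [h] at this
  exact this.1

end CfsgLib.Recog.RankFour
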